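import Cfsg.Agent.Lib.Classical.HermOrder

/-!
# Prime parts of the orders of the unitary groups
-/

set_option autoImplicit false

namespace CfsgLib.Known.SULift

open Finset

/-- The absolute value of `(-q) ^ i - 1`. -/
def cycA (q i : ℕ) : ℕ := ((-(q : ℤ)) ^ i - 1).natAbs

/-- The exponent of `ℓ` in the order of the unitary group of degree `n`. -/
def vGU (ℓ q n : ℕ) : ℕ := ∑ i ∈ range n, (cycA q (i + 1)).factorization ℓ

theorem cycA_eq (q i : ℕ) (hq : 2 ≤ q) :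
    cycA q (i + 1) = if Even i then q ^ (i + 1) + 1 else q ^ (i + 1) - 1 := by
  have h1 : 1 ≤ q ^ (i + 1) := Nat.one_le_pow _ _ (by omega)
  split_ifs with h
  · rw [cycA, h.add_one.neg_pow, show -((q : ℤ) ^ (i + 1)) - 1 = -(((q ^ (i + 1) + 1 : ℕ) : ℤ)) by push_cast; ring,
      Int.natAbs_neg, Int.natAbs_natCast]
  · rw [cycA, (Nat.not_even_iff_odd.1 h).add_one.neg_pow,
      show (q : ℤ) ^ (i + 1) - 1 = ((q ^ (i + 1) - 1 : ℕ) : ℤ) by rw [Nat.cast_sub h1]; push_cast; ring,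
      Int.natAbs_natCast]

theorem cycA_ne (q i : ℕ) (hq : 2 ≤ q) : cycA q (i + 1) ≠ 0 := by
  rw [cycA_eq q i hq]
  have h1 : 2 ≤ q ^ (i + 1) := hq.trans (Nat.le_self_pow (by omega) q)
  split_ifs <;> omega

theorem vGU_one (ℓ q : ℕ) : vGU ℓ q 1 = (q + 1).factorization ℓ := by
  simp [vGU, cycA, show (-(q : ℤ) - 1) = -((q + 1 : ℕ) : ℤ) by push_cast; ring]
  rw [show (-1 + -(q : ℤ)) = -((q + 1 : ℕ) : ℤ) by push_cast; ring, Int.natAbs_neg, Int.natAbs_natCast]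

theorem factorization_unitaryOrder {ℓ q : ℕ} (hℓ : ℓ.Prime) (hq : 2 ≤ q) (hnd : ¬ ℓ ∣ q) (n : ℕ) :
    (CfsgLib.Classical.unitaryOrder q n).factorization ℓ = vGU ℓ q n := by
  have e : CfsgLib.Classical.unitaryOrder q n = q ^ (n * (n - 1) / 2) * ∏ i ∈ range n, cycA q (i + 1) := by
    rw [CfsgLib.Classical.unitaryOrder]
    congr 1
    exact Finset.prod_congr rfl fun i _ => (cycA_eq q i hq).symm
  rw [e, Nat.factorization_mul (pow_ne_zero _ (by omega))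
    (Finset.prod_ne_zero_iff.2 fun i _ => cycA_ne q i hq), Finsupp.add_apply,
    Nat.factorization_eq_zero_of_not_dvd (fun h => hnd (hℓ.dvd_of_dvd_pow h)), zero_add,
    Nat.factorization_prod_apply fun i _ => cycA_ne q i hq]
  rfl

variable {ℓ : ℕ}

theorem factorization_natAbs_mul (a b : ℤ) (ha : a ≠ 0) (hb : b ≠ 0) :
    (a * b).natAbs.factorization ℓ = a.natAbs.factorization ℓ + b.natAbs.factorization ℓ := by
  rw [Int.natAbs_mul, Nat.factorization_mul (by omega) (by omega), Finsupp.add_apply]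

theorem geom_ne {z : ℤ} {u : ℕ} (h : z ^ u ≠ 1) : z - 1 ≠ 0 ∧ ∑ i ∈ range u, z ^ i ≠ 0 := by
  have e := geom_sum_mul z u
  constructor
  · intro h0; rw [h0, mul_zero] at e; exact h (by omega)
  · intro h0; rw [h0, zero_mul] at e; exact h (by omega)

/-- Exponents prime to `ℓ` do not change the valuation. -/
theorem val_unit (hℓ : ℓ.Prime) {z : ℤ} (hz : ((z : ℤ) : ZMod ℓ) = 1) {u : ℕ} (hu : ¬ ℓ ∣ u) (h : z ^ u ≠ 1) :
    (z ^ u - 1).natAbs.factorization ℓ = (z - 1).natAbs.factorization ℓ := by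
  obtain ⟨h1, h2⟩ := geom_ne h
  rw [← geom_sum_mul z u, factorization_natAbs_mul _ _ h2 h1,
    Nat.factorization_eq_zero_of_not_dvd, zero_add]
  intro hd
  have hd' : (ℓ : ℤ) ∣ ∑ i ∈ range u, z ^ i := Int.natCast_dvd.2 hd
  rw [← ZMod.intCast_zmod_eq_zero_iff_dvd] at hd'
  simp only [Int.cast_sum, Int.cast_pow, hz, one_pow, Finset.sum_const, card_range, nsmul_eq_mul, mul_one,
    ZMod.natCast_eq_zero_iff] at hd'
  exact hu hd'

/-- Raising to the `ℓ`th power adds one, for odd `ℓ` or squares. -/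
theorem val_succ (hℓ : ℓ.Prime) {z : ℤ} (hz : (ℓ : ℤ) ∣ z - 1) (hsq : ℓ = 2 → ∃ w, z = w ^ 2)
    (h : z ^ ℓ ≠ 1) : (z ^ ℓ - 1).natAbs.factorization ℓ = (z - 1).natAbs.factorization ℓ + 1 := by
  obtain ⟨h1, h2⟩ := geom_ne h
  rw [← geom_sum_mul z ℓ, factorization_natAbs_mul _ _ h2 h1, add_comm]
  congr 1
  obtain ⟨t, ht⟩ := hz
  obtain ⟨c, hc⟩ : ∃ c : ℤ, ∑ i ∈ range ℓ, z ^ i = ℓ * (1 + ℓ * c) := by
    by_cases h2' : ℓ = 2
    · subst h2'
      obtain ⟨w, rfl⟩ := hsq rfl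
      have hw : Odd w := by
        by_contra hw
        obtain ⟨r, rfl⟩ := Int.not_odd_iff_even.1 hw
        have : (2 : ℤ) ∣ 1 := ⟨2 * r ^ 2 - t, by push_cast at ht; linear_combination -ht⟩
        omega
      obtain ⟨r, rfl⟩ := hw
      exact ⟨r ^ 2 + r, by simp [Finset.sum_range_succ]; ring⟩
    · have hodd : Odd ℓ := hℓ.odd_of_ne_two h2'
      obtain ⟨r, hr⟩ := hodd
      have key : ∀ k : ℕ, ∃ c : ℤ, z ^ k = 1 + k * (ℓ * t) + ℓ * ℓ * c := by
        intro k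
        induction k with
        | zero => exact ⟨0, by simp⟩
        | succ k ih =>
          obtain ⟨c, hc⟩ := ih
          refine ⟨c * z + k * t * t, ?_⟩
          rw [pow_succ, hc]
          push_cast
          linear_combination (1 + (k : ℤ) * (ℓ * t)) * ht
      choose c hc using key
      refine ⟨r * t + ∑ i ∈ range ℓ, c i, ?_⟩
      rw [Finset.sum_congr rfl fun i _ => hc i, Finset.sum_add_distrib, Finset.sum_add_distrib, ← Finset.sum_mul,
        ← Finset.mul_sum]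
      have hsum : (∑ i ∈ range ℓ, (i : ℤ)) = ℓ * r := by
        have h := Finset.sum_range_id_mul_two ℓ
        rw [hr, Nat.add_sub_cancel] at h
        have h' : ((∑ i ∈ range ℓ, i : ℕ) : ℤ) * 2 = ((ℓ * (2 * r) : ℕ) : ℤ) := by
          rw [← hr] at h; exact_mod_cast h
        push_cast at h'
        linarith
      rw [hsum]
      simp only [Finset.sum_const, card_range, nsmul_eq_mul, mul_one]
      ring
  rw [hc, Int.natAbs_mul, Nat.factorization_mul (by simpa using hℓ.ne_zero)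
    (fun e => h2 (by rw [hc, Int.natAbs_eq_zero.1 e, mul_zero])), Finsupp.add_apply, Int.natAbs_natCast,
    hℓ.factorization_self, Nat.factorization_eq_zero_of_not_dvd]
  intro hd
  have : (ℓ : ℤ) ∣ 1 := (dvd_add_left (dvd_mul_right _ c)).1 (Int.natCast_dvd.2 hd)
  exact hℓ.not_dvd_one (Int.natCast_dvd_natCast.1 this)

theorem zmod_two_eq_one : ∀ z : ZMod 2, z ≠ 0 → z = 1 := by decide

/-- The case division for the degree. -/
theorem cases_n (hℓ : ℓ.Prime) {q : ℕ} (hq : 2 ≤ q) (hnd : ¬ ℓ ∣ q) {n : ℕ} (hn : 2 ≤ n) :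
    (∀ a, 1 ≤ a → a < n → vGU ℓ q a = vGU ℓ q 1) ∨
      (∃ a, 1 ≤ a ∧ a < n ∧ vGU ℓ q a + vGU ℓ q (n - a) = vGU ℓ q n) ∨
      ∃ m, 1 ≤ m ∧ n = ℓ * m ∧ 3 ≤ n ∧ vGU ℓ q n = ℓ * vGU ℓ q m + 1 := by
  classical
  haveI : Fact ℓ.Prime := ⟨hℓ⟩
  rcases Nat.lt_or_ge n 3 with hn3 | hn3
  · exact Or.inl fun a h1 h2 => by rw [show a = 1 by omega]
  set x : ℤ := -(q : ℤ)
  have hx0 : (x : ZMod ℓ) ≠ 0 := by
    simp only [x, Int.cast_neg, Int.cast_natCast, ne_eq, neg_eq_zero, ZMod.natCast_eq_zero_iff]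
    exact hnd
  set d := orderOf (x : ZMod ℓ)
  have hd0 : 0 < d := orderOf_pos_iff.2 ⟨ℓ - 1, by have := hℓ.two_le; omega, by
    rw [Function.IsPeriodicPt, Function.IsFixedPt, mul_left_iterate]
    show (x : ZMod ℓ) ^ (ℓ - 1) * 1 = 1
    rw [mul_one]
    exact ZMod.pow_card_sub_one_eq_one hx0⟩
  have hdvd : ∀ i, ℓ ∣ cycA q i ↔ d ∣ i := fun i => by
    rw [cycA, ← Int.natCast_dvd, ← ZMod.intCast_zmod_eq_zero_iff_dvd, orderOf_dvd_iff_pow_eq_one]
    simp [x, sub_eq_zero]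
  set g : ℕ → ℕ := fun t => (cycA q (d * t)).factorization ℓ with hg
  have hf : ∀ k, vGU ℓ q k = ∑ t ∈ range (k / d), g (t + 1) := by
    intro k
    induction k with
    | zero => simp [vGU]
    | succ k ih =>
      rw [vGU, Finset.sum_range_succ, ← vGU, ih]
      by_cases h : d ∣ k + 1
      · rw [Nat.succ_div_of_dvd h, Finset.sum_range_succ, hg]
        obtain ⟨c, hc⟩ := h
        have : k / d + 1 = c := by
          rw [← Nat.succ_div_of_dvd ⟨c, hc⟩, hc, Nat.mul_div_cancel_left _ hd0]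
        simp only [this, ← hc]
      · rw [Nat.succ_div_of_not_dvd h, Nat.factorization_eq_zero_of_not_dvd (fun e => h ((hdvd _).1 e)), add_zero]
  have hne : ∀ i, 1 ≤ i → x ^ i ≠ 1 := fun i hi e => by
    have := cycA_ne q (i - 1) hq
    rw [Nat.sub_add_cancel hi] at this
    exact this (by simp [cycA, x] at e ⊢; omega)
  have hy : ∀ s, ((x ^ (d * s) : ℤ) : ZMod ℓ) = 1 := fun s => by
    rw [Int.cast_pow, pow_mul, pow_orderOf_eq_one, one_pow]
  have hgv : ∀ s u, 1 ≤ u → ¬ ℓ ∣ u → g (ℓ ^ s * u) = g (ℓ ^ s) := by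
    intro s u hu1 hu
    show (x ^ (d * (ℓ ^ s * u)) - 1).natAbs.factorization ℓ = (x ^ (d * ℓ ^ s) - 1).natAbs.factorization ℓ
    rw [← mul_assoc, pow_mul]
    refine val_unit hℓ (hy _) hu ?_
    rw [← pow_mul]
    exact hne _ (Nat.one_le_iff_ne_zero.2 (Nat.mul_ne_zero (Nat.mul_ne_zero hd0.ne' (pow_ne_zero _ hℓ.ne_zero))
      (by omega)))
  have hgdec : ∀ t, 1 ≤ t → g t = g (ℓ ^ t.factorization ℓ) := by
    intro t ht
    conv_lhs => rw [← Nat.ordProj_mul_ordCompl_eq_self t ℓ]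
    exact hgv _ _ (Nat.ordCompl_pos _ (by omega)) (Nat.not_dvd_ordCompl hℓ (by omega))
  set G : ℕ → ℕ := fun j => ∑ t ∈ range j, g (t + 1)
  -- additivity at a power of `ℓ`
  have hGb : ∀ s c r, r < ℓ ^ s → G (ℓ ^ s * c + r) = G (ℓ ^ s * c) + G r := by
    intro s c r hr
    simp only [G]
    rw [Finset.sum_range_add]
    refine congrArg (_ + ·) (Finset.sum_congr rfl fun t ht => ?_)
    rw [Finset.mem_range] at ht
    rw [hgdec _ (by omega), hgdec (t + 1) (by omega)]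
    congr 2
    have hp0 : t + 1 ≠ 0 := by omega
    have hlt : (t + 1).factorization ℓ < s := by
      by_contra hcon
      have := Nat.le_of_dvd (by omega) ((pow_dvd_pow ℓ (not_lt.1 hcon)).trans (Nat.ordProj_dvd (t + 1) ℓ))
      omega
    refine le_antisymm ?_ ?_
    · by_contra hcon
      have h1 : ℓ ^ ((t + 1).factorization ℓ + 1) ∣ ℓ ^ s * c + t + 1 :=
        (pow_dvd_pow ℓ (not_le.1 hcon)).trans (Nat.ordProj_dvd _ ℓ)
      rw [add_assoc, Nat.dvd_add_right ((pow_dvd_pow ℓ (by omega)).trans (dvd_mul_right _ _))] at h1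
      exact Nat.pow_succ_factorization_not_dvd hp0 hℓ h1
    · rw [← hℓ.pow_dvd_iff_le_factorization (by omega), add_assoc]
      exact dvd_add ((pow_dvd_pow ℓ hlt.le).trans (dvd_mul_right _ _)) (Nat.ordProj_dvd _ ℓ)
  have hsplit : ∀ s c, G (ℓ ^ s * (c + 1)) + g (ℓ ^ s) = G (ℓ ^ s * c) + G (ℓ ^ s) + g (ℓ ^ s * (c + 1)) := by
    intro s c
    obtain ⟨r, hr⟩ : ∃ r, ℓ ^ s = r + 1 := ⟨ℓ ^ s - 1, by have := pow_pos hℓ.pos s; omega⟩
    have e1 : ℓ ^ s * (c + 1) = ℓ ^ s * c + r + 1 := by rw [mul_add, mul_one, add_assoc, ← hr]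
    have e2 : G (ℓ ^ s * c + r + 1) = G (ℓ ^ s * c + r) + g (ℓ ^ s * c + r + 1) :=
      Finset.sum_range_succ _ _
    have e3 : G (ℓ ^ s) = G r + g (ℓ ^ s) := by
      simp only [G]; rw [hr, Finset.sum_range_succ]
    rw [e1, e2, hGb s c r (by omega), e3]
    omega
  have hsplit' : ∀ s c, ¬ ℓ ∣ c + 1 → G (ℓ ^ s * (c + 1)) = G (ℓ ^ s * c) + G (ℓ ^ s) := by
    intro s c hc
    have h := hsplit s c
    rw [hgv s (c + 1) (by omega) hc] at h
    omega
  have hf' : ∀ j, vGU ℓ q (d * j) = G j := fun j => by rw [hf, Nat.mul_div_cancel_left _ hd0]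
  have hzero : ∀ a, a < d → vGU ℓ q a = 0 := fun a ha => by
    rw [hf, Nat.div_eq_of_lt ha, Finset.range_zero, Finset.sum_empty]
  rcases Nat.lt_or_ge n d with hnd' | hnd'
  · exact Or.inl fun a h1 h2 => by rw [hzero a (by omega), hzero 1 (by omega)]
  by_cases hdn : d ∣ n
  swap
  · refine Or.inr (Or.inl ⟨n % d, ?_, ?_, ?_⟩)
    · exact Nat.one_le_iff_ne_zero.2 fun e => hdn (Nat.dvd_of_mod_eq_zero e)
    · exact (Nat.mod_lt _ hd0).trans_le hnd'
    · rw [hzero _ (Nat.mod_lt _ hd0), zero_add, hf, hf n, show n - n % d = d * (n / d) by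
        have := Nat.div_add_mod n d; omega, Nat.mul_div_cancel_left _ hd0]
  obtain ⟨j, rfl⟩ := hdn
  obtain ⟨s, u, hu, rfl⟩ : ∃ s u, ¬ ℓ ∣ u ∧ j = ℓ ^ s * u :=
    ⟨j.factorization ℓ, j / ℓ ^ j.factorization ℓ,
      Nat.not_dvd_ordCompl hℓ (by rintro rfl; omega), (Nat.ordProj_mul_ordCompl_eq_self j ℓ).symm⟩
  have hu0 : u ≠ 0 := fun e => hu (by simp [e])
  obtain ⟨c, rfl⟩ : ∃ c, u = c + 1 := ⟨u - 1, by omega⟩
  rcases Nat.eq_zero_or_pos c with rfl | hc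
  swap
  · refine Or.inr (Or.inl ⟨d * ℓ ^ s, ?_, ?_, ?_⟩)
    · exact Nat.one_le_iff_ne_zero.2 (Nat.mul_ne_zero hd0.ne' (pow_ne_zero _ hℓ.ne_zero))
    · rw [← mul_assoc]
      exact lt_mul_of_one_lt_right (Nat.mul_pos hd0 (pow_pos hℓ.pos _)) (by omega)
    · rw [show d * (ℓ ^ s * (c + 1)) - d * ℓ ^ s = d * (ℓ ^ s * c) by
        rw [← Nat.mul_sub, mul_add, mul_one, Nat.add_sub_cancel], hf', hf', hf', hsplit' s c hu, add_comm]
  rw [zero_add, mul_one] at hn3 ⊢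
  rcases Nat.eq_zero_or_pos s with rfl | hs
  · exact Or.inl fun a h1 h2 => by
      rw [pow_zero, mul_one] at h2 hn3
      rw [hzero a h2, hzero 1 (by omega)]
  obtain ⟨r, rfl⟩ : ∃ r, s = r + 1 := ⟨s - 1, by omega⟩
  refine Or.inr (Or.inr ⟨d * ℓ ^ r, Nat.one_le_iff_ne_zero.2 (Nat.mul_ne_zero hd0.ne' (pow_ne_zero _ hℓ.ne_zero)),
    by rw [pow_succ]; ring, hn3, ?_⟩)
  rw [hf', hf']
  have hmult : ∀ c, c < ℓ → G (ℓ ^ r * c) = c * G (ℓ ^ r) := by
    intro c hc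
    induction c with
    | zero => simp [G]
    | succ c ih =>
      rw [hsplit' r c (fun h => by have := Nat.le_of_dvd (by omega) h; omega), ih (by omega)]
      ring
  have hℓ2 := hℓ.two_le
  have hlast := hsplit r (ℓ - 1)
  rw [Nat.sub_add_cancel (by omega : 1 ≤ ℓ), hmult (ℓ - 1) (by omega), ← pow_succ] at hlast
  have hg1 : g (ℓ ^ (r + 1)) = g (ℓ ^ r) + 1 := by
    show (x ^ (d * ℓ ^ (r + 1)) - 1).natAbs.factorization ℓ = (x ^ (d * ℓ ^ r) - 1).natAbs.factorization ℓ + 1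
    rw [pow_succ, ← mul_assoc, pow_mul]
    refine val_succ hℓ ((ZMod.intCast_zmod_eq_zero_iff_dvd _ ℓ).1 (by simp only [Int.cast_sub, hy, Int.cast_one, sub_self]))
      (fun h2 => ?_) ?_
    · subst h2
      have hd1 : d = 1 := by
        refine Nat.dvd_one.1 (orderOf_dvd_iff_pow_eq_one.2 ?_)
        rw [pow_one]
        exact zmod_two_eq_one _ hx0
      rw [hd1, one_mul] at hn3
      obtain ⟨r', rfl⟩ : ∃ r', r = r' + 1 := ⟨r - 1, by
        rcases Nat.eq_zero_or_pos r with rfl | h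
        · norm_num at hn3
        · omega⟩
      exact ⟨x ^ (d * 2 ^ r'), by rw [← pow_mul, pow_succ, mul_assoc]⟩
    · rw [← pow_mul]
      exact hne _ (Nat.one_le_iff_ne_zero.2 (Nat.mul_ne_zero (Nat.mul_ne_zero hd0.ne' (pow_ne_zero _ hℓ.ne_zero))
        hℓ.ne_zero))
  rw [hg1] at hlast
  have e : (ℓ - 1) * G (ℓ ^ r) + G (ℓ ^ r) = ℓ * G (ℓ ^ r) := by
    rw [← Nat.succ_mul, Nat.succ_eq_add_one, Nat.sub_add_cancel (by omega : 1 ≤ ℓ)]
  omega

end CfsgLib.Known.SULift
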