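import Cfsg.Agent.Lib.Known.ChevLift.Central
import Cfsg.Agent.Lib.Known.SL2Multiplier
import Cfsg.Agent.Lib.Solvable.UniqueSubgroup

/-!
# Subgroups whose preimages have derived groups meeting the kernel trivially

For a finite central extension `σ` and a prime `ℓ`, the `ℓ`-torsion of the kernel inside the derived group is
killed by a subgroup of index prime to `ℓ` with this property.
-/

set_option autoImplicit false

namespace CfsgLib.Known.SULift

open CfsgLib.Known.SL2Lift Subgroup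
open scoped commutatorElement Pointwise

universe u v w

/-- The preimage of `H` has derived group meeting the kernel trivially. -/
def Free {E : Type u} {G : Type v} [Group E] [Group G] (σ : E →* G) (H : Subgroup G) : Prop :=
  ∀ z : E, σ z = 1 → z ∈ ⁅H.comap σ, H.comap σ⁆ → z = 1

/-- Homomorphisms to commutative groups give no element of `ℓ`-power order other than one. -/
def Perp.{a, b} (ℓ : ℕ) (S : Type a) [Group S] : Prop :=
  ∀ (A : Type b) [CommGroup A] (f : S →* A) (x : S) (k : ℕ), f x ^ ℓ ^ k = 1 → f x = 1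

/-- Every finite central extension of `S` with kernel an `ℓ`-group is free. -/
def Univ.{a, b} (ℓ : ℕ) (S : Type a) [Group S] : Prop :=
  ∀ (E : Type b) [Group E] [Finite E] (τ : E →* S), Function.Surjective τ →
    τ.ker ≤ Subgroup.center E → IsPGroup ℓ τ.ker → Free τ ⊤

variable {E : Type u} {G : Type v} [Group E] [Group G] {σ : E →* G}

theorem free_mono {H H' : Subgroup G} (h : H ≤ H') (h' : Free σ H') : Free σ H := fun z hz hm =>
  h' z hz (commutator_mono (comap_mono h) (comap_mono h) hm)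

theorem eq_one_of_pow {z : E} {ℓ : ℕ} (hp : ℓ.Prime) {k m : ℕ} (hm : ¬ ℓ ∣ m) (h1 : z ^ ℓ ^ k = 1)
    (h2 : z ^ m = 1) : z = 1 := by
  have h := pow_gcd_eq_one.2 ⟨h1, h2⟩
  rwa [Nat.Coprime.gcd_eq_one ((hp.coprime_iff_not_dvd.2 hm).pow_left k), pow_one] at h

/-- An element of `ℓ`-power order of the kernel and the derived group is killed by a free subgroup of index
prime to `ℓ`. -/
theorem eq_one_of_index [Finite E] [Finite G] (hσ : Function.Surjective σ) (hc : σ.ker ≤ center E) {ℓ : ℕ}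
    (hp : ℓ.Prime) {H : Subgroup G} (hidx : ¬ ℓ ∣ H.index) (hH : Free σ H) {z : E} (hz : σ z = 1)
    (hz' : z ∈ commutator E) {k : ℕ} (hzk : z ^ ℓ ^ k = 1) : z = 1 := by
  classical
  let R := H.comap σ
  have hR : R.index = H.index := Subgroup.index_comap_of_surjective _ hσ
  let ϕ : R →* Abelianization R := Abelianization.of
  have hzc : z ∈ center E := hc hz
  have key : ∀ (k : ℕ) (g₀ : E), g₀⁻¹ * z ^ k * g₀ ∈ R → g₀⁻¹ * z ^ k * g₀ = z ^ k := by
    intro k g₀ _
    rw [mul_assoc, ← mem_center_iff.mp (pow_mem hzc k) g₀, inv_mul_cancel_left]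
  have h1 : MonoidHom.transfer ϕ z = 1 :=
    (Abelianization.commutator_subset_ker (MonoidHom.transfer ϕ)) hz'
  rw [MonoidHom.transfer_eq_pow ϕ z key] at h1
  have hmem : (⟨z ^ R.index, MonoidHom.transfer_eq_pow_aux z key⟩ : R) ∈ commutator R :=
    (QuotientGroup.eq_one_iff _).mp h1
  have hmem' : z ^ R.index ∈ ⁅R, R⁆ := by
    rw [← map_subtype_commutator]
    exact ⟨_, hmem, rfl⟩
  rw [hR] at hmem'
  exact eq_one_of_pow hp hidx hzk (hH _ (by rw [map_pow, hz, one_pow]) hmem')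

/-- Reduction of the whole group to a subgroup of index prime to `ℓ`. -/
theorem free_top_of_index [Finite E] [Finite G] (hσ : Function.Surjective σ) (hc : σ.ker ≤ center E) {ℓ : ℕ}
    (hp : ℓ.Prime) (hk : IsPGroup ℓ σ.ker) {H : Subgroup G} (hidx : ¬ ℓ ∣ H.index) (hH : Free σ H) :
    Free σ ⊤ := by
  intro z hz hm
  obtain ⟨k, e⟩ := hk ⟨z, hz⟩
  refine eq_one_of_index hσ hc hp hidx hH hz ?_ (k := k) (by simpa using congrArg Subtype.val e)
  rwa [comap_top] at hm

theorem free_range [Finite E] (hσ : Function.Surjective σ) (hc : σ.ker ≤ center E) {ℓ : ℕ}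
    (hk : IsPGroup ℓ σ.ker) {S : Type w} [Group S] (hS : Univ.{w, u} ℓ S) {ι : S →* G}
    (hι : Function.Injective ι) : Free σ ι.range := by
  intro z hz hm
  let R := ι.range.comap σ
  let τ : R →* S := (MonoidHom.ofInjective hι).symm.toMonoidHom.comp
    ((σ.comp R.subtype).codRestrict ι.range fun x => x.2)
  have hτ : ∀ x : R, ι (τ x) = σ x.1 := fun x => by
    have h := congrArg Subtype.val ((MonoidHom.ofInjective hι).apply_symm_apply (⟨σ x.1, x.2⟩ : ι.range))
    exact h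
  have hker : ∀ x : R, x ∈ τ.ker ↔ σ x.1 = 1 := fun x => by
    rw [MonoidHom.mem_ker, ← hτ x]
    exact ⟨fun h => by rw [h, map_one], fun h => hι (by rw [h, map_one])⟩
  have hsurj : Function.Surjective τ := fun s => by
    obtain ⟨x, hx⟩ := hσ (ι s)
    refine ⟨⟨x, ⟨s, hx.symm⟩⟩, hι ?_⟩
    rw [hτ]
    exact hx
  have hτc : τ.ker ≤ center R := fun x hx => mem_center_iff.2 fun g =>
    Subtype.ext (mem_center_iff.1 (hc ((hker x).1 hx)) g.1)
  have hτk : IsPGroup ℓ τ.ker := fun x => by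
    obtain ⟨k, e⟩ := hk ⟨x.1.1, (hker x.1).1 x.2⟩
    exact ⟨k, Subtype.ext (Subtype.ext (by simpa using congrArg Subtype.val e))⟩
  obtain ⟨hmR, hm'⟩ : ∃ h : z ∈ R, (⟨z, h⟩ : R) ∈ commutator R := by
    rw [← map_subtype_commutator] at hm
    obtain ⟨y, hy, rfl⟩ := hm
    exact ⟨y.2, hy⟩
  have h1 := hS R τ hsurj hτc hτk ⟨z, hmR⟩ ((hker _).2 hz) (by rwa [comap_top])
  exact congrArg Subtype.val h1

theorem perp_mulEquiv {ℓ : ℕ} {S : Type v} {T : Type w} [Group S] [Group T] (h : Perp.{v, u} ℓ S)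
    (f : S →* T) (hf : Function.Surjective f) : Perp.{w, u} ℓ T := fun A _ g x k e => by
  obtain ⟨y, rfl⟩ := hf x
  exact h A (g.comp f) y k e

theorem perp_sup {ℓ : ℕ} (hp : ℓ.Prime) {X Y : Subgroup G} (hX : Perp.{v, u} ℓ X) (hY : Perp.{v, u} ℓ Y)
    [Finite G] : Perp.{v, u} ℓ ↥(X ⊔ Y) := by
  have := Fact.mk hp
  intro A _ f x k e
  -- the elements whose image has order prime to `ℓ`
  let T : Subgroup ↥(X ⊔ Y) :=
    { carrier := {g | ∃ m, ¬ ℓ ∣ m ∧ f g ^ m = 1}
      one_mem' := ⟨1, hp.not_dvd_one, by simp⟩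
      mul_mem' := fun {a b} ⟨m, hm, ha⟩ ⟨m', hm', hb⟩ =>
        ⟨m * m', fun h => (hp.dvd_mul.1 h).elim hm hm', by
          rw [map_mul, mul_pow, pow_mul, ha, one_pow, one_mul, mul_comm m, pow_mul, hb, one_pow]⟩
      inv_mem' := fun {a} ⟨m, hm, ha⟩ => ⟨m, hm, by rw [map_inv, inv_pow, ha, inv_one]⟩ }
  have key : ∀ {W : Subgroup G} (hW : W ≤ X ⊔ Y), Perp.{v, u} ℓ W →
      ∀ g (hg : g ∈ W), (⟨g, hW hg⟩ : ↥(X ⊔ Y)) ∈ T := by
    intro W hW hP g hg
    set y : A := f ⟨g, hW hg⟩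
    have hfin : IsOfFinOrder y := f.isOfFinOrder (isOfFinOrder_of_finite _)
    set a := (orderOf y).factorization ℓ
    have h0 : orderOf y ≠ 0 := hfin.orderOf_pos.ne'
    refine ⟨orderOf y / ℓ ^ a, Nat.not_dvd_ordCompl hp h0, ?_⟩
    have := hP A (f.comp (Subgroup.inclusion hW)) (⟨g, hg⟩ ^ (orderOf y / ℓ ^ a)) a (by
      rw [map_pow, ← pow_mul, Nat.div_mul_cancel (Nat.ordProj_dvd _ ℓ)]
      exact pow_orderOf_eq_one _)
    rw [map_pow] at this
    exact this
  have hT : T = ⊤ := by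
    refine eq_top_iff.2 fun g _ => ?_
    have hle : X ⊔ Y ≤ T.map (X ⊔ Y).subtype := sup_le (fun g hg => ⟨_, key le_sup_left hX g hg, rfl⟩)
      fun g hg => ⟨_, key le_sup_right hY g hg, rfl⟩
    obtain ⟨g', hg', e'⟩ := hle g.2
    exact (Subtype.ext e' : g' = g) ▸ hg'
  obtain ⟨m, hm, he⟩ : x ∈ T := hT ▸ mem_top x
  exact eq_one_of_pow hp hm e he

theorem perp_of_le {ℓ : ℕ} {X : Subgroup G} (h : Perp.{v, u} ℓ X) {A : Type u} [CommGroup A]
    (f : X →* A) {x : X} {k : ℕ} (hx : f x ^ ℓ ^ k = 1) : f x = 1 := h A f x k hx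

/-- Lifts of `X` and of an element centralising it commute. -/
theorem commute_lifts (hσ : Function.Surjective σ) (hc : σ.ker ≤ center E) {ℓ : ℕ} (hk : IsPGroup ℓ σ.ker)
    {X : Subgroup G} (hX : Perp.{v, u} ℓ X) {y : G} (hy : ∀ x ∈ X, x * y = y * x) {a b : E} (ha : σ a ∈ X)
    (hb : σ b = y) : Commute a b := by
  have cz : ∀ {k : E}, σ k = 1 → ∀ g, g * k = k * g := fun hk g => mem_center_iff.mp (hc hk) g
  have hmem : ∀ x : X, ⁅Function.surjInv hσ (x : G), b⁆ ∈ σ.ker := fun x => by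
    rw [MonoidHom.mem_ker, map_commutatorElement, Function.surjInv_eq hσ, hb,
      commutatorElement_eq_one_iff_mul_comm]
    exact hy x x.2
  letI : CommGroup σ.ker :=
    { (inferInstance : Group σ.ker) with mul_comm := fun p r => Subtype.ext (cz r.2 p.1) }
  let f : X →* σ.ker := MonoidHom.mk' (fun x => ⟨_, hmem x⟩) fun x x' => Subtype.ext (by
    show ⁅Function.surjInv hσ ((x : G) * x'), b⁆ = ⁅Function.surjInv hσ (x : G), b⁆ * _
    rw [comm_central_left hc (a' := Function.surjInv hσ (x : G) * Function.surjInv hσ (x' : G))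
      (by rw [map_mul, Function.surjInv_eq hσ, Function.surjInv_eq hσ, Function.surjInv_eq hσ]),
      comm_mul_left, cz (hmem x') _, mul_inv_cancel_right]
    exact cz (hmem x) _)
  obtain ⟨k, e⟩ := hk (f ⟨σ a, ha⟩)
  have h1 := congrArg Subtype.val (hX σ.ker f ⟨σ a, ha⟩ k e)
  have h2 : ⁅a, b⁆ = 1 := by
    rw [comm_central_left hc (a' := Function.surjInv hσ (σ a)) (Function.surjInv_eq hσ _).symm]
    exact h1
  exact commutatorElement_eq_one_iff_mul_comm.1 h2

theorem comap_sup_le (hσ : Function.Surjective σ) (X Y : Subgroup G) :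
    (X ⊔ Y).comap σ ≤ X.comap σ ⊔ Y.comap σ := (comap_sup_eq _ _ _ hσ).ge

/-- Commuting subgroups with trivial intersection. -/
theorem free_sup (hσ : Function.Surjective σ) (hc : σ.ker ≤ center E) {ℓ : ℕ} (hk : IsPGroup ℓ σ.ker)
    {X Y : Subgroup G} (hXP : Perp.{v, u} ℓ X) (hxy : ∀ x ∈ X, ∀ y ∈ Y, x * y = y * x)
    (hd : ∀ g ∈ X, g ∈ Y → g = 1) (hX : Free σ X) (hY : Free σ Y) : Free σ (X ⊔ Y) := by
  intro z hz hm
  have hcm : ∀ a ∈ X.comap σ, ∀ b ∈ Y.comap σ, Commute a b := fun a ha b hb =>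
    commute_lifts hσ hc hk hXP (fun x hx => hxy x hx _ hb) ha rfl
  have hle : ⁅(X ⊔ Y).comap σ, (X ⊔ Y).comap σ⁆ ≤
      ⁅X.comap σ, X.comap σ⁆ ⊔ ⁅Y.comap σ, Y.comap σ⁆ := by
    have hdec : ∀ g ∈ (X ⊔ Y).comap σ, ∃ a ∈ X.comap σ, ∃ b ∈ Y.comap σ, g = a * b := by
      intro g hg
      refine closure_induction (p := fun g _ => ∃ a ∈ X.comap σ, ∃ b ∈ Y.comap σ, g = a * b) ?_ ?_ ?_ ?_
        (show g ∈ closure ((X.comap σ : Set E) ∪ Y.comap σ) by
          rw [Subgroup.closure_union, closure_eq, closure_eq]; exact comap_sup_le hσ X Y hg)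
      · rintro x (hx | hx)
        · exact ⟨x, hx, 1, one_mem _, (mul_one x).symm⟩
        · exact ⟨1, one_mem _, x, hx, (one_mul x).symm⟩
      · exact ⟨1, one_mem _, 1, one_mem _, (mul_one 1).symm⟩
      · rintro _ _ - - ⟨a, ha, b, hb, rfl⟩ ⟨a', ha', b', hb', rfl⟩
        exact ⟨a * a', mul_mem ha ha', b * b', mul_mem hb hb', (hcm a' ha' b hb).symm.mul_mul_mul_comm a b'⟩
      · rintro _ - ⟨a, ha, b, hb, rfl⟩
        exact ⟨a⁻¹, inv_mem ha, b⁻¹, inv_mem hb, by rw [(hcm a ha b hb).eq, mul_inv_rev]⟩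
    rw [commutator_le]
    intro g hg g' hg'
    obtain ⟨a, ha, b, hb, rfl⟩ := hdec g hg
    obtain ⟨a', ha', b', hb', rfl⟩ := hdec g' hg'
    have e : ⁅a * b, a' * b'⁆ = ⁅a, a'⁆ * ⁅b, b'⁆ := by
      have h1 := hcm a ha b' hb'
      have h2 := hcm a' ha' b hb
      have h3 : Commute (a' * a⁻¹ * a'⁻¹) (b * b') :=
        hcm _ (mul_mem (mul_mem ha' (inv_mem ha)) (inv_mem ha')) _ (mul_mem hb hb')
      rw [commutatorElement_def, commutatorElement_def, commutatorElement_def]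
      calc a * b * (a' * b') * (a * b)⁻¹ * (a' * b')⁻¹
          = a * (b * a') * b' * b⁻¹ * a⁻¹ * (b'⁻¹ * a'⁻¹) := by group
        _ = a * a' * (b * b' * b⁻¹) * a⁻¹ * (a'⁻¹ * b'⁻¹) := by
            rw [← h2.eq, (hcm a' ha' b' hb').inv_inv.eq]; group
        _ = a * a' * (a⁻¹ * (b * b' * b⁻¹)) * a'⁻¹ * b'⁻¹ := by
            rw [(hcm a⁻¹ (inv_mem ha) _ (mul_mem (mul_mem hb hb') (inv_mem hb))).eq]; group
        _ = a * a' * a⁻¹ * ((b * b' * b⁻¹) * a'⁻¹) * b'⁻¹ := by group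
        _ = _ := by
            rw [← (hcm a'⁻¹ (inv_mem ha') _ (mul_mem (mul_mem hb hb') (inv_mem hb))).eq]; group
    rw [e]
    exact mul_mem (mem_sup_left (commutator_mem_commutator ha ha'))
      (mem_sup_right (commutator_mem_commutator hb hb'))
  have hX' : ⁅X.comap σ, X.comap σ⁆ ≤ X.comap σ := commutator_le_self _
  have hY' : ⁅Y.comap σ, Y.comap σ⁆ ≤ Y.comap σ := commutator_le_self _
  have hz' := hle hm
  have hnm : ⁅Y.comap σ, Y.comap σ⁆ ≤ normalizer ((⁅X.comap σ, X.comap σ⁆ : Subgroup E) : Set E) :=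
    fun b hb => mem_normalizer_iff.2 fun a => ⟨fun ha => by
      rwa [← (hcm a (hX' ha) b (hY' hb)).eq, mul_inv_cancel_right], fun ha => by
      have h := hcm _ (hX' ha) b (hY' hb)
      have e : b * a * b⁻¹ = a := mul_left_cancel (a := b) (h.eq.symm.trans (inv_mul_cancel_right (b * a) b))
      rwa [e] at ha⟩
  rw [sup_comm, ← SetLike.mem_coe, coe_mul_of_left_le_normalizer_right _ _ hnm] at hz'
  obtain ⟨b, hb, a, ha, rfl⟩ := hz'
  rw [map_mul, mul_eq_one_iff_eq_inv] at hz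
  have hb1 : σ b = 1 := hd _ (by rw [hz]; exact inv_mem (hX' ha)) (hY' hb)
  have ha1 : σ a = 1 := by rw [hb1] at hz; exact inv_eq_one.1 hz.symm
  show b * a = 1
  rw [hY b hb1 hb, hX a ha1 ha, one_mul]

/-- Adjoining one element normalising a free subgroup. -/
theorem free_adjoin (hσ : Function.Surjective σ) (hc : σ.ker ≤ center E) {ℓ : ℕ} (hk : IsPGroup ℓ σ.ker)
    {B X : Subgroup G} {c : G} (hn : ∀ b ∈ B, c * b * c⁻¹ ∈ B ∧ c⁻¹ * b * c ∈ B) (hB : Free σ B)
    (hXB : X ≤ B) (hX : Perp.{v, u} ℓ X) (hcomm : ⁅B, B⁆ ≤ X) {H : Subgroup G}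
    (hH : H ≤ B ⊔ zpowers c)
    (hfix : ∀ x ∈ B, ⁅x, c⁆ ∈ X → ∃ t ∈ B, x * t⁻¹ ∈ X ∧ ∀ a b : E, σ a = t → σ b = c → Commute a b) :
    Free σ H := by
  refine free_mono hH fun z hz hm => ?_
  obtain ⟨y, hy⟩ := hσ c
  set R := B.comap σ with hRdef
  have hRy : ∀ r ∈ R, y * r * y⁻¹ ∈ R ∧ y⁻¹ * r * y ∈ R := fun r hr => by
    simp only [hRdef, mem_comap, map_mul, map_inv, hy]
    exact hn _ hr
  let Rc : Subgroup R := commutator R
  have hmem : ∀ r : R, ⁅(r : E), y⁆ ∈ R := fun r => by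
    have := mul_mem r.2 (hRy _ (inv_mem r.2)).1
    rwa [commutatorElement_def, mul_assoc, mul_assoc, ← mul_assoc y]
  let f : R →* Abelianization R := MonoidHom.mk' (fun r => Abelianization.of ⟨_, hmem r⟩) fun r r' => by
    have e : (⟨_, hmem (r * r')⟩ : R) = r * ⟨_, hmem r'⟩ * r⁻¹ * ⟨_, hmem r⟩ :=
      Subtype.ext (comm_mul_left (r : E) r' y)
    rw [e, map_mul, map_mul, map_mul, map_inv, mul_comm (Abelianization.of r), mul_inv_cancel_right, mul_comm]
  -- the derived group of the preimage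
  let W : Subgroup R := f.range.comap Abelianization.of
  have hW : commutator R ≤ W := fun r hr => ⟨1, by
    rw [map_one]; exact ((QuotientGroup.eq_one_iff _).2 hr).symm⟩
  have hgen : (B ⊔ zpowers c).comap σ ≤ R ⊔ zpowers y := by
    intro g hg
    have e : (B ⊔ zpowers c) = (R ⊔ zpowers y).map σ := by
      rw [Subgroup.map_sup, map_comap_eq_self_of_surjective hσ, MonoidHom.map_zpowers, hy]
    rw [e, comap_map_eq] at hg
    have hker : σ.ker ≤ R ⊔ zpowers y := fun k hk' =>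
      mem_sup_left (show σ k ∈ B by rw [MonoidHom.mem_ker.1 hk']; exact one_mem _)
    exact sup_le le_rfl hker hg
  have hWn : R ⊔ zpowers y ≤ normalizer ((W.map R.subtype : Subgroup E) : Set E) := by
    have key : ∀ g : E, (∀ r ∈ R, g * r * g⁻¹ ∈ R) → (∀ r : R, r ∈ W →
        ∃ h : g * (r : E) * g⁻¹ ∈ R, (⟨_, h⟩ : R) ∈ W) →
        ∀ w ∈ W.map R.subtype, g * w * g⁻¹ ∈ W.map R.subtype := by
      rintro g - h2 _ ⟨r, hr, rfl⟩
      obtain ⟨h, h'⟩ := h2 r hr
      exact ⟨_, h', rfl⟩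
    have hy2 : ∀ g : E, g ∈ ({y, y⁻¹} : Set E) → ∀ r : R, r ∈ W →
        ∃ h : g * (r : E) * g⁻¹ ∈ R, (⟨_, h⟩ : R) ∈ W := by
      intro g hg r ⟨s, hs⟩
      have hgR : ∀ r ∈ R, g * r * g⁻¹ ∈ R := by
        rcases hg with rfl | rfl
        · exact fun r hr => (hRy r hr).1
        · exact fun r hr => by simpa using (hRy r hr).2
      let α : R →* R := MonoidHom.mk' (fun r => ⟨_, hgR r r.2⟩) fun a b => Subtype.ext (by
        show g * (a * b : E) * g⁻¹ = _ * _
        group)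
      refine ⟨hgR r r.2, α s, ?_⟩
      have hcy : g * y * g⁻¹ = y := by rcases hg with rfl | rfl <;> group
      have e := congrArg (Abelianization.map α) hs
      show Abelianization.of (⟨_, hmem (α s)⟩ : R) = Abelianization.of (α r)
      rw [← Abelianization.map_of, ← e]
      show _ = Abelianization.map α (Abelianization.of ⟨_, hmem s⟩)
      rw [Abelianization.map_of]
      congr 1
      refine Subtype.ext ?_
      show ⁅g * (s : E) * g⁻¹, y⁆ = g * ⁅(s : E), y⁆ * g⁻¹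
      conv_lhs => rw [← hcy]
      rw [conjugate_commutatorElement]
    refine sup_le (fun g hg => ?_) (zpowers_le.2 ?_)
    · have hin : ∀ g ∈ R, ∀ w ∈ W.map R.subtype, g * w * g⁻¹ ∈ W.map R.subtype := fun g hg =>
        key g (fun r hr => mul_mem (mul_mem hg hr) (inv_mem hg)) fun r hr =>
          ⟨mul_mem (mul_mem hg r.2) (inv_mem hg), by
            show Abelianization.of _ ∈ f.range
            rw [show (⟨_, mul_mem (mul_mem hg r.2) (inv_mem hg)⟩ : R) = ⟨g, hg⟩ * r * ⟨g, hg⟩⁻¹ from rfl,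
              map_mul, map_mul, map_inv, mul_comm (Abelianization.of (⟨g, hg⟩ : R)), mul_inv_cancel_right]
            exact hr⟩
      rw [mem_normalizer_iff]
      exact fun w => ⟨hin g hg w, fun h => by
        have := hin g⁻¹ (inv_mem hg) _ h
        rwa [inv_inv, ← mul_assoc, ← mul_assoc, inv_mul_cancel, one_mul, mul_assoc, inv_mul_cancel, mul_one]
          at this⟩
    · rw [mem_normalizer_iff]
      exact fun w => ⟨key y (fun r hr => (hRy r hr).1) (hy2 y (by simp)) w, fun h => by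
        have := key y⁻¹ (fun r hr => by simpa using (hRy r hr).2) (hy2 y⁻¹ (by simp)) _ h
        rwa [inv_inv, ← mul_assoc, ← mul_assoc, inv_mul_cancel, one_mul, mul_assoc, inv_mul_cancel, mul_one]
          at this⟩
  have hle : ⁅(B ⊔ zpowers c).comap σ, (B ⊔ zpowers c).comap σ⁆ ≤ W.map R.subtype := by
    refine (commutator_mono hgen hgen).trans ?_
    let N := (W.map R.subtype).subgroupOf (R ⊔ zpowers y)
    have : N.Normal := normal_subgroupOf_iff_le_normalizer
      ((Subgroup.map_subtype_le W).trans le_sup_left) |>.2 hWn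
    let π := QuotientGroup.mk' N
    have h1 : ∀ a (ha : a ∈ R ⊔ zpowers y) b (hb : b ∈ R ⊔ zpowers y), ⁅a, b⁆ ∈ W.map R.subtype →
        Commute (π ⟨a, ha⟩) (π ⟨b, hb⟩) := fun a ha b hb h => by
      rw [commute_iff_eq, ← commutatorElement_eq_one_iff_mul_comm, ← map_commutatorElement]
      exact (QuotientGroup.eq_one_iff _).2 (mem_subgroupOf.2 h)
    have base : ∀ a ∈ (R : Set E) ∪ {y}, ∀ b ∈ (R : Set E) ∪ {y}, ⁅a, b⁆ ∈ W.map R.subtype := by
      have hry : ∀ a ∈ R, ⁅a, y⁆ ∈ W.map R.subtype := fun a ha =>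
        ⟨⟨_, hmem ⟨a, ha⟩⟩, ⟨⟨a, ha⟩, rfl⟩, rfl⟩
      rintro a (ha | rfl) b (hb | rfl)
      · exact ⟨⁅⟨a, ha⟩, ⟨b, hb⟩⁆, hW (commutator_mem_commutator (mem_top _) (mem_top _)), rfl⟩
      · exact hry a ha
      · rw [← commutatorElement_inv]; exact inv_mem (hry b hb)
      · rw [commutatorElement_self]; exact one_mem _
    have hsub : R ⊔ zpowers y = closure ((R : Set E) ∪ {y}) := by
      rw [Subgroup.closure_union, closure_eq, zpowers_eq_closure]
    have hall : ∀ a (ha : a ∈ R ⊔ zpowers y) b (hb : b ∈ R ⊔ zpowers y),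
        Commute (π ⟨a, ha⟩) (π ⟨b, hb⟩) := by
      intro a ha b hb
      have ha' := ha
      have hb' := hb
      rw [hsub] at ha' hb'
      refine closure_induction₂ (p := fun a b _ _ => ∀ (ha : a ∈ R ⊔ zpowers y) (hb : b ∈ R ⊔ zpowers y),
        Commute (π ⟨a, ha⟩) (π ⟨b, hb⟩)) (fun a b ha hb h h' => h1 a h b h' (base a ha b hb))
        (fun x _ h h' => by
          rw [show (⟨1, h⟩ : ↥(R ⊔ zpowers y)) = 1 from rfl, map_one]; exact Commute.one_left _)
        (fun x _ h h' => by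
          rw [show (⟨1, h'⟩ : ↥(R ⊔ zpowers y)) = 1 from rfl, map_one]; exact Commute.one_right _)
        (fun a a' b ha ha' hb p p' h h' => by
          rw [show (⟨a * a', h⟩ : ↥(R ⊔ zpowers y)) = ⟨a, hsub ▸ ha⟩ * ⟨a', hsub ▸ ha'⟩ from rfl, map_mul]
          exact (p _ h').mul_left (p' _ h'))
        (fun b b' a hb hb' ha p p' h h' => by
          rw [show (⟨b * b', h'⟩ : ↥(R ⊔ zpowers y)) = ⟨b, hsub ▸ hb⟩ * ⟨b', hsub ▸ hb'⟩ from rfl, map_mul]
          exact (p h _).mul_right (p' h _))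
        (fun a b ha hb p h h' => by
          rw [show (⟨a⁻¹, h⟩ : ↥(R ⊔ zpowers y)) = (⟨a, hsub ▸ ha⟩)⁻¹ from rfl, map_inv]
          exact (p _ h').inv_left)
        (fun a b ha hb p h h' => by
          rw [show (⟨b⁻¹, h'⟩ : ↥(R ⊔ zpowers y)) = (⟨b, hsub ▸ hb⟩)⁻¹ from rfl, map_inv]
          exact (p h _).inv_right)
        ha' hb' ha hb
    rw [commutator_le]
    intro a ha b hb
    have h := hall a ha b hb
    rw [commute_iff_eq, ← commutatorElement_eq_one_iff_mul_comm, ← map_commutatorElement] at h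
    exact mem_subgroupOf.1 ((QuotientGroup.eq_one_iff (N := N) _).1 h)
  obtain ⟨w, ⟨r, hr⟩, rfl⟩ := hle hm
  -- `w` and the commutator of `r` with `y` differ by the derived group
  have hσd : ∀ {d : R}, d ∈ commutator R → σ d.1 ∈ ⁅B, B⁆ := fun {d} hd => by
    have h : d.1 ∈ ⁅R, R⁆ := by rw [← map_subtype_commutator]; exact ⟨d, hd, rfl⟩
    have h2 := mem_map_of_mem σ h
    rw [map_commutator] at h2
    rwa [show R.map σ = B from map_comap_eq_self_of_surjective hσ B] at h2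
  have hfix' : ⁅σ r.1, c⁆ ∈ X := by
    have h := hσd ((QuotientGroup.eq (s := commutator R)).1 hr)
    rw [Subgroup.coe_mul, map_mul, show σ (w : E) = 1 from hz, mul_one] at h
    have h' := hcomm h
    rwa [Subgroup.coe_inv, map_inv, inv_mem_iff, map_commutatorElement, hy] at h'
  obtain ⟨t, ht, hxt, htc⟩ := hfix _ r.2 hfix'
  obtain ⟨a, ha⟩ := hσ t
  have haR : a ∈ R := by rw [hRdef, mem_comap, ha]; exact ht
  set s : R := r * ⟨a, haR⟩⁻¹
  have hs : σ s.1 ∈ X := by
    simpa [s, ha] using hxt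
  have hfa : f ⟨a, haR⟩ = 1 := by
    show Abelianization.of (⟨_, hmem ⟨a, haR⟩⟩ : R) = 1
    rw [show (⟨_, hmem ⟨a, haR⟩⟩ : R) = 1 from Subtype.ext
      (commutatorElement_eq_one_iff_mul_comm.2 (htc a y ha hy).eq), map_one]
  have hfr : f r = f s := by rw [map_mul, map_inv, hfa, inv_one, mul_one]
  -- the homomorphism on `X`
  have hfker : ∀ r : R, σ r.1 = 1 → f r = 1 := fun r hr => by
    show Abelianization.of (⟨_, hmem r⟩ : R) = 1
    rw [show (⟨_, hmem r⟩ : R) = 1 from Subtype.ext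
      (commutatorElement_eq_one_iff_mul_comm.2 (mem_center_iff.1 (hc hr) y).symm), map_one]
  let fX : X →* Abelianization R := MonoidHom.mk'
    (fun x => f ⟨Function.surjInv hσ (x : G), by
      rw [hRdef, mem_comap, Function.surjInv_eq hσ]; exact hXB x.2⟩) fun x x' => by
    rw [← map_mul, ← mul_inv_eq_one, ← map_inv, ← map_mul]
    refine hfker _ ?_
    simp only [Subgroup.coe_mul, Subgroup.coe_inv, map_mul, map_inv, Function.surjInv_eq hσ]
    group
  have hfs : fX ⟨σ s.1, hs⟩ = f s := by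
    show f _ = f s
    rw [← mul_inv_eq_one, ← map_inv, ← map_mul]
    refine hfker _ ?_
    simp only [Subgroup.coe_mul, Subgroup.coe_inv, map_mul, map_inv, Function.surjInv_eq hσ]
    group
  obtain ⟨k, e⟩ := hk ⟨w.1, hz⟩
  have hw1 : Abelianization.of w ^ ℓ ^ k = 1 := by
    rw [← map_pow, show w ^ ℓ ^ k = 1 from Subtype.ext (by simpa using congrArg Subtype.val e), map_one]
  rw [← hr, hfr, ← hfs] at hw1
  have h1 := perp_of_le hX fX hw1
  rw [hfs, ← hfr, hr] at h1
  refine hB _ hz ?_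
  rw [← map_subtype_commutator]
  exact ⟨w, (QuotientGroup.eq_one_iff _).1 h1, rfl⟩

theorem perp_bot {ℓ : ℕ} : Perp.{v, u} ℓ (⊥ : Subgroup G) := fun A _ f x k _ => by
  rw [Subsingleton.elim x 1, map_one]

theorem free_of_cyclic' (hc : σ.ker ≤ center E) {H : Subgroup G} [IsCyclic H] : Free σ H := by
  intro z hz hm
  let R := H.comap σ
  let τ : R →* H := (σ.comp R.subtype).codRestrict H fun x => x.2
  rw [← map_subtype_commutator] at hm
  obtain ⟨y, hy, rfl⟩ := hm
  exact congrArg Subtype.val (CfsgLib.Known.SL2Mult.free_of_cyclic τ (fun x hx => mem_center_iff.2 fun g =>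
    Subtype.ext (mem_center_iff.1 (hc (congrArg Subtype.val hx : σ x.1 = 1)) g.1)) y hy (Subtype.ext hz))

/-- A group with at most one subgroup of order `p` is free. -/
theorem free_of_unique (hσ : Function.Surjective σ) (hc : σ.ker ≤ center E) {p : ℕ} [Fact p.Prime]
    {P : Subgroup G} [Finite P] (hP : IsPGroup p P)
    (hu : ∀ x y : P, orderOf x = p → orderOf y = p → x ∈ zpowers y) : Free σ P := by
  rcases CfsgLib.Solvable.isCyclic_or_quaternion hP hu with h | ⟨-, n, ⟨e⟩⟩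
  · exact free_of_cyclic' hc
  · intro z hz hm
    let R := P.comap σ
    let τ : R →* P := (σ.comp R.subtype).codRestrict P fun x => x.2
    have hτs : Function.Surjective τ := fun y => by
      obtain ⟨x, hx⟩ := hσ y.1
      exact ⟨⟨x, show σ x ∈ P by rw [hx]; exact y.2⟩, Subtype.ext hx⟩
    rw [← map_subtype_commutator] at hm
    obtain ⟨y, hy, rfl⟩ := hm
    refine congrArg Subtype.val (CfsgLib.Known.SL2Mult.free_of_trivial (Cfsg.Agent.S3963.result (2 ^ n))
      (e.toMonoidHom.comp τ) (e.surjective.comp hτs) (fun x hx => mem_center_iff.2 fun g =>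
        Subtype.ext (mem_center_iff.1 (hc (congrArg Subtype.val (e.injective (hx.trans (map_one e).symm)) :
          σ x.1 = 1)) g.1)) y hy ?_)
    simp [show τ y = 1 from Subtype.ext hz]

end CfsgLib.Known.SULift
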