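import Cfsg.Agent.Lib.Classical.HermOrder
import Cfsg.Agent.Lib.Chev.CT.Phan.Main
import Cfsg.Agent.Lib.Known.SULift.Central

/-!
# Block subgroups and monomial elements of the special unitary group
-/

set_option autoImplicit false
set_option linter.unusedSectionVars false
set_option linter.unusedSimpArgs false

namespace CfsgLib.Known.SULift

open Matrix Cfsg CfsgLib.Chev.CT.Phan

universe u

variable {F : Type u} [Field F] {q n : ℕ}

/-- The matrix of an element. -/
def mat (g : SU n F q) : Matrix (Fin n) (Fin n) F := g.1.1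

@[simp] theorem mat_one : mat (1 : SU n F q) = 1 := rfl
@[simp] theorem mat_mul (g h : SU n F q) : mat (g * h) = mat g * mat h := rfl
theorem mat_inj {g h : SU n F q} (e : mat g = mat h) : g = h := Subtype.ext (Subtype.ext e)
theorem det_mat (g : SU n F q) : (mat g).det = 1 := g.1.2
theorem mat_form (g : SU n F q) (u v : Fin n → F) : hf q (mat g *ᵥ u) (mat g *ᵥ v) = hf q u v := g.2 u v

/-- The matrix acting as `M` on the coordinates in `S` and trivially on the others. -/
def pMat (S : Finset (Fin n)) (M : Matrix (Fin n) (Fin n) F) : Matrix (Fin n) (Fin n) F :=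
  Matrix.of fun i j => if i ∈ S ∧ j ∈ S then M i j else if i = j then 1 else 0

/-- The entries joining a coordinate in `S` and one outside vanish. -/
def BlkM (S : Finset (Fin n)) (M : Matrix (Fin n) (Fin n) F) : Prop :=
  ∀ i j, ¬(i ∈ S ↔ j ∈ S) → M i j = 0

theorem BlkM.one (S : Finset (Fin n)) : BlkM S (1 : Matrix (Fin n) (Fin n) F) := fun i j h =>
  one_apply_ne fun e => h (by rw [e])

theorem BlkM.mul {S : Finset (Fin n)} {M N : Matrix (Fin n) (Fin n) F} (hM : BlkM S M) (hN : BlkM S N) :
    BlkM S (M * N) := fun i j h => by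
  rw [mul_apply]
  refine Finset.sum_eq_zero fun k _ => ?_
  by_cases hk : i ∈ S ↔ k ∈ S
  · rw [hN k j fun e => h (hk.trans e), mul_zero]
  · rw [hM i k hk, zero_mul]

theorem pMat_one (S : Finset (Fin n)) : pMat S (1 : Matrix (Fin n) (Fin n) F) = 1 := by
  ext i j
  by_cases h : i ∈ S ∧ j ∈ S <;> simp [pMat, h, one_apply]

theorem pMat_mul {S : Finset (Fin n)} {M N : Matrix (Fin n) (Fin n) F} (hM : BlkM S M) :
    pMat S (M * N) = pMat S M * pMat S N := by
  ext i j
  rw [mul_apply]
  by_cases hi : i ∈ S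
  · by_cases hj : j ∈ S
    · simp only [pMat, of_apply, hi, hj, and_self, if_true, mul_apply]
      refine Finset.sum_congr rfl fun k _ => ?_
      by_cases hk : k ∈ S
      · simp [hk]
      · have hik : i ≠ k := fun e => hk (e ▸ hi)
        simp [hk, hM i k (by tauto), hik]
    · rw [Finset.sum_eq_zero]
      · have : i ≠ j := fun e => hj (e ▸ hi)
        simp [pMat, hj, this]
      · intro k _
        by_cases hk : k ∈ S
        · have : k ≠ j := fun e => hj (e ▸ hk)
          simp [pMat, hj, this]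
        · have : i ≠ k := fun e => hk (e ▸ hi)
          simp [pMat, hk, this]
  · rw [Finset.sum_eq_single i]
    · simp [pMat, hi]
    · intro k _ hk
      simp [pMat, hi, Ne.symm hk]
    · simp

theorem pMat_union {S T : Finset (Fin n)} (hd : Disjoint S T) {M : Matrix (Fin n) (Fin n) F} (hS : BlkM S M) :
    pMat (S ∪ T) M = pMat S M * pMat T M := by
  ext i j
  rw [mul_apply]
  by_cases hi : i ∈ S
  · have hiT : i ∉ T := Finset.disjoint_left.1 hd hi
    by_cases hj : j ∈ S
    · have hjT : j ∉ T := Finset.disjoint_left.1 hd hj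
      rw [Finset.sum_eq_single j]
      · simp [pMat, hi, hj, hjT]
      · intro k _ hk
        simp [pMat, hjT, hk]
      · simp
    · rw [Finset.sum_eq_zero]
      · have e : i ≠ j := fun e => hj (e ▸ hi)
        have h0 := hS i j (by tauto)
        simp [pMat, hi, h0, e]
      · intro k _
        by_cases hk : k ∈ S
        · have hkT : k ∉ T := Finset.disjoint_left.1 hd hk
          have : k ≠ j := fun e => hj (e ▸ hk)
          simp [pMat, hkT, this]
        · have : i ≠ k := fun e => hk (e ▸ hi)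
          simp [pMat, hk, this]
  · rw [Finset.sum_eq_single i]
    · by_cases hj : j ∈ S
      · have hjT : j ∉ T := Finset.disjoint_left.1 hd hj
        have e : i ≠ j := fun e => hi (e ▸ hj)
        have h0 := hS i j (by tauto)
        by_cases hiT : i ∈ T <;> simp [pMat, hi, hj, hjT, h0, e]
      · simp [pMat, hi, hj]
    · intro k _ hk
      simp [pMat, hi, Ne.symm hk]
    · simp

theorem pMat_univ (M : Matrix (Fin n) (Fin n) F) : pMat Finset.univ M = M := by
  ext i j; simp [pMat]

theorem pMat_empty (M : Matrix (Fin n) (Fin n) F) : pMat ∅ M = 1 := by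
  ext i j; simp [pMat, one_apply]

theorem pMat_pMat_self (S : Finset (Fin n)) (M : Matrix (Fin n) (Fin n) F) : pMat S (pMat S M) = pMat S M := by
  ext i j; by_cases h : i ∈ S ∧ j ∈ S <;> simp [pMat, h]

theorem pMat_pMat_disj {S T : Finset (Fin n)} (hd : Disjoint S T) (M : Matrix (Fin n) (Fin n) F) :
    pMat S (pMat T M) = 1 := by
  ext i j
  by_cases h : i ∈ S ∧ j ∈ S
  · simp [pMat, h, Finset.disjoint_left.1 hd h.1, one_apply]
  · simp [pMat, h, one_apply]

/-- The determinant on the coordinates in `S`. -/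
noncomputable def bdet (S : Finset (Fin n)) (g : SU n F q) : F := (pMat S (mat g)).det

/-- The elements trivial outside `S`. -/
def Supp (F : Type u) [Field F] (q : ℕ) {n : ℕ} (S : Finset (Fin n)) : Subgroup (SU n F q) where
  carrier := {g | pMat S (mat g) = mat g ∧ BlkM S (mat g)}
  one_mem' := ⟨pMat_one S, BlkM.one S⟩
  mul_mem' := fun {g h} hg hh => ⟨by rw [mat_mul, pMat_mul hg.2, hg.1, hh.1], hg.2.mul hh.2⟩
  inv_mem' := fun {g} hg => by
    have h1 : pMat S (mat g * mat g⁻¹) = 1 := by rw [← mat_mul, mul_inv_cancel, mat_one, pMat_one]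
    rw [pMat_mul hg.2, hg.1] at h1
    have h2 : pMat S (mat g⁻¹) = mat g⁻¹ := by
      calc pMat S (mat g⁻¹) = mat g⁻¹ * (mat g * pMat S (mat g⁻¹)) := by
            rw [← mul_assoc, ← mat_mul, inv_mul_cancel, mat_one, one_mul]
        _ = _ := by rw [h1, mul_one]
    refine ⟨h2, fun i j h => ?_⟩
    rw [← h2]
    have e : i ≠ j := fun e => h (by rw [e])
    have : ¬(i ∈ S ∧ j ∈ S) := fun hh => h ⟨fun _ => hh.2, fun _ => hh.1⟩
    simp [pMat, this, e]

theorem mem_Supp_apply {S : Finset (Fin n)} {g : SU n F q} :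
    g ∈ Supp F q S ↔ ∀ i j, ¬(i ∈ S ∧ j ∈ S) → mat g i j = if i = j then 1 else 0 := by
  constructor
  · intro hg i j h
    rw [← hg.1]
    simp [pMat, h]
  · intro hg
    refine ⟨?_, fun i j h => ?_⟩
    · ext i j
      by_cases h : i ∈ S ∧ j ∈ S
      · simp [pMat, h]
      · rw [hg i j h]; simp [pMat, h]
    · rw [hg i j fun hh => h ⟨fun _ => hh.2, fun _ => hh.1⟩, if_neg fun e => h (by rw [e])]

theorem Supp_mono {S T : Finset (Fin n)} (h : S ⊆ T) : Supp F q S ≤ Supp F q T := fun g hg =>
  mem_Supp_apply.2 fun i j hij => mem_Supp_apply.1 hg i j fun hh => hij ⟨h hh.1, h hh.2⟩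

theorem Supp_blk {S T : Finset (Fin n)} (h : S ⊆ T ∨ Disjoint S T) {g : SU n F q} (hg : g ∈ Supp F q S) :
    BlkM T (mat g) := fun i j hij => by
  rw [mem_Supp_apply.1 hg i j fun hh => hij ?_, if_neg fun e => hij (by rw [e])]
  rcases h with h | h
  · exact ⟨fun _ => h hh.2, fun _ => h hh.1⟩
  · exact ⟨fun hi => absurd hi (Finset.disjoint_left.1 h hh.1), fun hj => absurd hj (Finset.disjoint_left.1 h hh.2)⟩

theorem Supp_comm {S T : Finset (Fin n)} (hd : Disjoint S T) {g h : SU n F q} (hg : g ∈ Supp F q S)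
    (hh : h ∈ Supp F q T) : g * h = h * g := by
  refine mat_inj ?_
  have hu : ∀ {M : Matrix (Fin n) (Fin n) F}, BlkM S M → BlkM T M →
      pMat S M * pMat T M = pMat T M * pMat S M := fun hS hT => by
    rw [← pMat_union hd hS, ← pMat_union hd.symm hT, Finset.union_comm]
  have e1 : BlkM S (mat g * mat h) := hg.2.mul (Supp_blk (Or.inr hd.symm) hh)
  have e2 : BlkM T (mat g * mat h) := (Supp_blk (Or.inr hd) hg).mul hh.2
  have h3 := hu e1 e2
  have p1 : pMat S (mat h) = 1 := by rw [← hh.1, pMat_pMat_disj hd]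
  have p2 : pMat T (mat g) = 1 := by rw [← hg.1, pMat_pMat_disj hd.symm]
  rw [pMat_mul hg.2, pMat_mul (Supp_blk (Or.inr hd) hg), hg.1, hh.1, p1, p2, mul_one, one_mul] at h3
  rw [mat_mul, mat_mul, h3]

theorem Supp_disj {S T : Finset (Fin n)} (hd : Disjoint S T) {g : SU n F q} (hg : g ∈ Supp F q S)
    (hg' : g ∈ Supp F q T) : g = 1 :=
  mat_inj (by rw [mat_one, ← hg'.1, ← hg.1, pMat_pMat_disj hd.symm])

/-- The elements with blocks given by a colouring. -/
def Blk (F : Type u) [Field F] [Fintype F] (q : ℕ) {n : ℕ} {ι : Type} (κ : Fin n → ι) :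
    Subgroup (SU n F q) where
  carrier := {g | ∀ i j, κ i ≠ κ j → mat g i j = 0}
  one_mem' := fun i j h => one_apply_ne fun e => h (by rw [e])
  mul_mem' := fun {g h} hg hh i j hij => by
    rw [mat_mul, mul_apply]
    refine Finset.sum_eq_zero fun k _ => ?_
    by_cases hk : κ i = κ k
    · exact mul_eq_zero_of_right _ (hh k j fun e => hij (hk.trans e))
    · exact mul_eq_zero_of_left (hg i k hk) _
  inv_mem' := fun {g} hg => by
    have hpow : ∀ k, ∀ i j, κ i ≠ κ j → mat (g ^ k) i j = 0 := by
      intro k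
      induction k with
      | zero => exact fun i j h => one_apply_ne fun e => h (by rw [e])
      | succ k ih =>
        intro i j hij
        rw [pow_succ, mat_mul, mul_apply]
        refine Finset.sum_eq_zero fun l _ => ?_
        by_cases hl : κ i = κ l
        · exact mul_eq_zero_of_right _ (hg l j fun e => hij (hl.trans e))
        · exact mul_eq_zero_of_left (ih i l hl) _
    have hfin : IsOfFinOrder g := isOfFinOrder_of_finite g
    rw [show g⁻¹ = g ^ (orderOf g - 1) from inv_eq_of_mul_eq_one_right (by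
      rw [← pow_succ', Nat.sub_add_cancel hfin.orderOf_pos, pow_orderOf_eq_one])]
    exact hpow _

/-- The coordinates of a colour. -/
def col {ι : Type} [DecidableEq ι] (κ : Fin n → ι) (c : ι) : Finset (Fin n) :=
  Finset.univ.filter fun i => κ i = c

variable [Fintype F] {ι : Type} [DecidableEq ι] {κ : Fin n → ι}

theorem blk_col {g : SU n F q} (hg : g ∈ Blk F q κ) (c : ι) : BlkM (col κ c) (mat g) := fun i j h =>
  hg i j fun e => h (by simp [col, e])

theorem blk_union {g : SU n F q} (hg : g ∈ Blk F q κ) (T : Finset ι) :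
    BlkM (Finset.univ.filter fun i => κ i ∈ T) (mat g) := fun i j h =>
  hg i j fun e => h (by simp [e])

theorem Supp_col_le (c : ι) : Supp F q (col κ c) ≤ Blk F q κ := fun g hg i j h => by
  rw [mem_Supp_apply.1 hg i j fun hh => h ?_, if_neg fun e => h (by rw [e])]
  simp [col] at hh
  rw [hh.1, hh.2]

theorem col_disjoint {c d : ι} (h : c ≠ d) : Disjoint (col κ c) (col κ d) :=
  Finset.disjoint_left.2 fun i hi hi' => h (by simp [col] at hi hi'; rw [← hi, hi'])

theorem bdet_mul {g : SU n F q} {S : Finset (Fin n)} (hg : BlkM S (mat g)) (h : SU n F q) :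
    bdet S (g * h) = bdet S g * bdet S h := by
  rw [bdet, mat_mul, pMat_mul hg, det_mul]; rfl

theorem bdet_union {S T : Finset (Fin n)} (hd : Disjoint S T) {g : SU n F q} (hg : BlkM S (mat g)) :
    bdet (S ∪ T) g = bdet S g * bdet T g := by
  rw [bdet, pMat_union hd hg, det_mul]; rfl

theorem bdet_univ (g : SU n F q) : bdet Finset.univ g = 1 := by rw [bdet, pMat_univ, det_mat]

theorem bdet_Supp_self {S : Finset (Fin n)} {g : SU n F q} (hg : g ∈ Supp F q S) : bdet S g = 1 := by
  rw [bdet, hg.1, det_mat]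

theorem bdet_Supp_disj {S T : Finset (Fin n)} (hd : Disjoint S T) {g : SU n F q} (hg : g ∈ Supp F q T) :
    bdet S g = 1 := by
  rw [bdet, ← hg.1, pMat_pMat_disj hd, det_one]

section Parts

variable (U : UF F q)
include U

theorem pMat_form {S : Finset (Fin n)} {g : SU n F q} (hg : BlkM S (mat g)) (u v : Fin n → F) :
    hf q (pMat S (mat g) *ᵥ u) (pMat S (mat g) *ᵥ v) = hf q u v := by
  let cut : (Fin n → F) → Fin n → F := fun u i => if i ∈ S then u i else 0
  have h1 : ∀ (u : Fin n → F) (i : Fin n), (pMat S (mat g) *ᵥ u) i =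
      if i ∈ S then (mat g *ᵥ cut u) i else u i := fun u i => by
    by_cases hi : i ∈ S
    · simp only [hi, if_true, mulVec, dotProduct, cut]
      refine Finset.sum_congr rfl fun j _ => ?_
      by_cases hj : j ∈ S
      · simp [pMat, hi, hj]
      · have : i ≠ j := fun e => hj (e ▸ hi)
        simp [pMat, hj, this]
    · simp only [hi, if_false, mulVec, dotProduct]
      rw [Finset.sum_eq_single i]
      · simp [pMat, hi]
      · intro k _ hk
        simp [pMat, hi, Ne.symm hk]
      · simp
  have h2 : ∀ (u : Fin n → F) (i : Fin n), i ∉ S → (mat g *ᵥ cut u) i = 0 := fun u i hi => by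
    rw [mulVec, dotProduct]
    refine Finset.sum_eq_zero fun j _ => ?_
    by_cases hj : j ∈ S
    · simp [hg i j (by tauto)]
    · simp [cut, hj]
  have e := mat_form g (cut u) (cut v)
  simp only [U.hf_eq] at e ⊢
  rw [← Finset.sum_add_sum_compl S, ← Finset.sum_add_sum_compl S (fun i => cut u i * U.σ (cut v i))] at e
  rw [← Finset.sum_add_sum_compl S, ← Finset.sum_add_sum_compl S (fun i => u i * U.σ (v i))]
  have k1 : ∑ i ∈ Sᶜ, (mat g *ᵥ cut u) i * U.σ ((mat g *ᵥ cut v) i) = 0 :=
    Finset.sum_eq_zero fun i hi => by rw [h2 u i (Finset.mem_compl.1 hi), zero_mul]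
  have k2 : ∑ i ∈ Sᶜ, cut u i * U.σ (cut v i) = 0 :=
    Finset.sum_eq_zero fun i hi => by simp [cut, Finset.mem_compl.1 hi]
  rw [k1, k2, add_zero, add_zero] at e
  congr 1
  · refine Eq.trans (Finset.sum_congr rfl fun i hi => ?_) (e.trans (Finset.sum_congr rfl fun i hi => ?_))
    · simp [h1, hi]
    · simp [cut, hi]
  · refine Finset.sum_congr rfl fun i hi => ?_
    simp [h1, Finset.mem_compl.1 hi]

/-- The part of an element on the coordinates in `S`. -/
def part (S : Finset (Fin n)) (g : SU n F q) (hg : BlkM S (mat g)) (h1 : bdet S g = 1) : SU n F q :=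
  CfsgLib.Classical.suMk (pMat S (mat g)) h1 (pMat_form U hg)

theorem mat_part (S : Finset (Fin n)) (g : SU n F q) (hg : BlkM S (mat g)) (h1 : bdet S g = 1) :
    mat (part U S g hg h1) = pMat S (mat g) := rfl

theorem part_mem (S : Finset (Fin n)) (g : SU n F q) (hg : BlkM S (mat g)) (h1 : bdet S g = 1) :
    part U S g hg h1 ∈ Supp F q S :=
  mem_Supp_apply.2 fun i j h => by
    rw [mat_part]; simp [pMat, h]

/-- The elements of the blocks with all block determinants one are products of their parts. -/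
theorem mem_iSup_Supp [Fintype ι] {g : SU n F q} (hg : g ∈ Blk F q κ) (h1 : ∀ c, bdet (col κ c) g = 1) :
    g ∈ ⨆ c, Supp F q (col κ c) := by
  have key : ∀ T : Finset ι, ∃ h ∈ ⨆ c, Supp F q (col κ c),
      mat h = pMat (Finset.univ.filter fun i => κ i ∈ T) (mat g) := by
    intro T
    induction T using Finset.induction with
    | empty => exact ⟨1, one_mem _, by simp [pMat_empty]⟩
    | insert c T hc ih =>
      obtain ⟨h, hh, e⟩ := ih
      refine ⟨part U (col κ c) g (blk_col hg c) (h1 c) * h,
        mul_mem (Subgroup.mem_iSup_of_mem c (part_mem U _ _ _ _)) hh, ?_⟩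
      rw [mat_mul, mat_part, e, ← pMat_union ?_ (blk_col hg c)]
      · congr 1
        ext i
        simp [col]
      · exact Finset.disjoint_left.2 fun i hi hi' => hc (by simp [col] at hi hi'; rwa [← hi])
  obtain ⟨h, hh, e⟩ := key Finset.univ
  simp only [Finset.mem_univ, Finset.filter_true, pMat_univ] at e
  rwa [← mat_inj e]

theorem bdet_norm {S : Finset (Fin n)} {g : SU n F q} (hg : BlkM S (mat g)) :
    bdet S g * U.σ (bdet S g) = 1 := by
  set P := pMat S (mat g)
  have h : Pᵀ * U.σ.mapMatrix P = 1 := by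
    ext i j
    have e := pMat_form U hg (Pi.single i 1) (Pi.single j 1)
    simp only [U.hf_eq] at e
    simpa [mul_apply, Pi.single_apply, one_apply, eq_comm] using e
  have h2 := congrArg Matrix.det h
  rwa [det_mul, det_transpose, ← RingHom.map_det, det_one] at h2

end Parts

section Monomial

/-- The monomial matrix taking coordinate `π i` to `i` with coefficient `u i`. -/
def monoMat (π : Equiv.Perm (Fin n)) (u : Fin n → F) : Matrix (Fin n) (Fin n) F :=
  Matrix.of fun i j => if π i = j then u i else 0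

theorem monoMat_mulVec (π : Equiv.Perm (Fin n)) (u : Fin n → F) (v : Fin n → F) (i : Fin n) :
    (monoMat π u *ᵥ v) i = u i * v (π i) := by
  simp only [mulVec, dotProduct, monoMat, of_apply]
  rw [Finset.sum_eq_single (π i)] <;> simp +contextual [eq_comm]

theorem det_monoMat (π : Equiv.Perm (Fin n)) (u : Fin n → F) :
    (monoMat π u).det = (Equiv.Perm.sign π : ℤ) * ∏ i, u i := by
  have : monoMat π u = diagonal u * π.permMatrix F := by
    ext i j
    simp [monoMat, Equiv.Perm.permMatrix, diagonal_mul, PEquiv.toMatrix_apply, eq_comm]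
  rw [this, det_mul, det_diagonal, det_permutation, mul_comm]

/-- A monomial element. -/
def mono (U : UF F q) (π : Equiv.Perm (Fin n)) (u : Fin n → F) (hu : ∀ i, u i * U.σ (u i) = 1)
    (hdet : ((Equiv.Perm.sign π : ℤ) : F) * ∏ i, u i = 1) : SU n F q :=
  CfsgLib.Classical.suMk (monoMat π u) ((det_monoMat π u).trans hdet) fun x y => by
    show hf q (monoMat π u *ᵥ x) (monoMat π u *ᵥ y) = hf q x y
    rw [U.hf_eq, U.hf_eq]
    conv_rhs => rw [← Equiv.sum_comp π]
    refine Finset.sum_congr rfl fun i _ => ?_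
    rw [monoMat_mulVec, monoMat_mulVec, map_mul]
    linear_combination (x (π i) * U.σ (y (π i))) * hu i

theorem mat_mono (U : UF F q) (π : Equiv.Perm (Fin n)) (u : Fin n → F)
    (hu : ∀ i, u i * U.σ (u i) = 1) (hdet : ((Equiv.Perm.sign π : ℤ) : F) * ∏ i, u i = 1) :
    mat (mono U π u hu hdet) = monoMat π u := rfl

variable (U : UF F q)
include U

/-- A diagonal element. -/
def dg (u : Fin n → F) (hu : ∀ i, u i * U.σ (u i) = 1) (h : ∏ i, u i = 1) : SU n F q :=
  mono U 1 u hu (by simpa using h)

theorem mat_dg (u : Fin n → F) (hu : ∀ i, u i * U.σ (u i) = 1) (h : ∏ i, u i = 1) :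
    mat (dg U u hu h) = diagonal u := by
  ext i j
  by_cases hij : i = j <;> simp [dg, mat_mono, monoMat, diagonal_apply, hij]

theorem dg_mem_blk {ι : Type} (κ : Fin n → ι) (u : Fin n → F) (hu : ∀ i, u i * U.σ (u i) = 1)
    (h : ∏ i, u i = 1) : dg U u hu h ∈ Blk F q κ := fun i j hij => by
  rw [mat_dg, diagonal_apply_ne _ fun e => hij (by rw [e])]

theorem bdet_dg (S : Finset (Fin n)) (u : Fin n → F) (hu : ∀ i, u i * U.σ (u i) = 1) (h : ∏ i, u i = 1) :
    bdet S (dg U u hu h) = ∏ i ∈ S, u i := by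
  have e : pMat S (diagonal u) = diagonal fun i => if i ∈ S then u i else 1 := by
    ext i j
    by_cases hij : i = j
    · subst hij; by_cases hi : i ∈ S <;> simp [pMat, hi]
    · simp [pMat, hij]
  rw [bdet, mat_dg, e, det_diagonal, Finset.prod_ite_mem, Finset.univ_inter]

theorem dg_mul (u u' : Fin n → F) (hu : ∀ i, u i * U.σ (u i) = 1) (h : ∏ i, u i = 1)
    (hu' : ∀ i, u' i * U.σ (u' i) = 1) (h' : ∏ i, u' i = 1) :
    dg U u hu h * dg U u' hu' h' = dg U (u * u')
      (fun i => by simp only [Pi.mul_apply, map_mul]; linear_combination (u' i * U.σ (u' i)) * hu i + hu' i)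
      (by simp only [Pi.mul_apply]; rw [Finset.prod_mul_distrib, h, h', one_mul]) :=
  mat_inj (by rw [mat_mul, mat_dg, mat_dg, mat_dg, diagonal_mul_diagonal]; rfl)

end Monomial

end CfsgLib.Known.SULift
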