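import Cfsg.Agent.Lib.Known.SULift.Blocks

/-!
# The special unitary group on a set of coordinates
-/

set_option autoImplicit false
set_option linter.unusedSectionVars false

namespace CfsgLib.Known.SULift

open Matrix Cfsg CfsgLib.Chev.CT.Phan

universe u

variable {F : Type u} [Field F] [Fintype F] {q n : ℕ}

/-- The coordinates, split along `S`. -/
noncomputable def splitEq (S : Finset (Fin n)) : Fin S.card ⊕ {i : Fin n // i ∉ S} ≃ Fin n :=
  (Equiv.sumCongr S.equivFin.symm (Equiv.refl _)).trans (Equiv.sumCompl fun i => i ∈ S)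

theorem splitEq_inl_mem (S : Finset (Fin n)) (a : Fin S.card) : splitEq S (Sum.inl a) ∈ S := by
  simp [splitEq]

theorem splitEq_inr (S : Finset (Fin n)) (k : {i : Fin n // i ∉ S}) : splitEq S (Sum.inr k) = k.1 := by
  simp [splitEq]

/-- A matrix on the coordinates in `S`. -/
noncomputable def exMat (S : Finset (Fin n)) (A : Matrix (Fin S.card) (Fin S.card) F) :
    Matrix (Fin n) (Fin n) F :=
  (fromBlocks A 0 0 1).submatrix (splitEq S).symm (splitEq S).symm

theorem exMat_mulVec (S : Finset (Fin n)) (A : Matrix (Fin S.card) (Fin S.card) F) (v : Fin n → F) :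
    exMat S A *ᵥ v = Sum.elim (A *ᵥ fun i => v (splitEq S (Sum.inl i)))
      (fun k => v k.1) ∘ (splitEq S).symm := by
  rw [exMat, submatrix_mulVec_equiv, fromBlocks_mulVec]
  congr 1
  funext s
  cases s <;> simp [zero_mulVec, one_mulVec, splitEq_inr, Function.comp_def]

/-- The embedding on the coordinates in `S`. -/
noncomputable def emb (S : Finset (Fin n)) : SU S.card F q →* SU n F q where
  toFun A := ⟨⟨exMat S A.1.1, by simp [exMat, A.1.2]⟩, fun u v => by
    show hermForm n F q (exMat S A.1.1 *ᵥ u) (exMat S A.1.1 *ᵥ v) = hermForm n F q u v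
    simp only [hermForm]
    rw [← (splitEq S).sum_comp, ← (splitEq S).sum_comp]
    simp only [exMat_mulVec, Function.comp_apply, Equiv.symm_apply_apply, Fintype.sum_sum_type,
      Sum.elim_inl, Sum.elim_inr, splitEq_inr]
    exact congrArg (· + _) (A.2 _ _)⟩
  map_one' := Subtype.ext (Subtype.ext (by
    show exMat S (1 : Matrix (Fin S.card) (Fin S.card) F) = 1
    simp [exMat]))
  map_mul' A B := Subtype.ext (Subtype.ext (by
    show exMat S (A.1.1 * B.1.1) = exMat S A.1.1 * exMat S B.1.1
    simp [exMat, fromBlocks_multiply]))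

theorem emb_injective (S : Finset (Fin n)) : Function.Injective (emb (F := F) (q := q) S) := by
  intro A B h
  have hM : exMat S A.1.1 = exMat S B.1.1 := congrArg (fun x : SU n F q => x.1.1) h
  refine Subtype.ext (Subtype.ext (Matrix.ext fun i j => ?_))
  simpa [exMat] using congrFun (congrFun hM (splitEq S (Sum.inl i))) (splitEq S (Sum.inl j))

theorem range_emb (U : UF F q) (S : Finset (Fin n)) : (emb (F := F) (q := q) S).range = Supp F q S := by
  refine le_antisymm ?_ fun g hg => ?_
  · rintro _ ⟨A, rfl⟩
    refine mem_Supp_apply.2 fun i j h => ?_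
    obtain ⟨s, rfl⟩ := (splitEq S).surjective i
    obtain ⟨t, rfl⟩ := (splitEq S).surjective j
    show exMat S A.1.1 _ _ = _
    simp only [exMat, submatrix_apply, Equiv.symm_apply_apply, (splitEq S).injective.eq_iff]
    rcases s with a | a <;> rcases t with b | b
    · exact absurd ⟨splitEq_inl_mem S a, splitEq_inl_mem S b⟩ h
    · simp
    · simp
    · simp [one_apply]
  · set A : Matrix (Fin S.card) (Fin S.card) F :=
      fun a b => mat g (splitEq S (Sum.inl a)) (splitEq S (Sum.inl b)) with hA
    have hM : mat g = exMat S A := by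
      ext i j
      obtain ⟨s, rfl⟩ := (splitEq S).surjective i
      obtain ⟨t, rfl⟩ := (splitEq S).surjective j
      simp only [exMat, submatrix_apply, Equiv.symm_apply_apply]
      rcases s with a | a <;> rcases t with b | b
      · rfl
      all_goals
        rw [mem_Supp_apply.1 hg _ _ fun hh => ?_]
        · simp [one_apply, (splitEq S).injective.eq_iff]
      · exact b.2 (splitEq_inr S b ▸ hh.2)
      · exact a.2 (splitEq_inr S a ▸ hh.1)
      · exact a.2 (splitEq_inr S a ▸ hh.1)
    have hdet : A.det = 1 := by
      have h := det_mat g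
      rw [hM] at h
      simpa [exMat] using h
    refine ⟨⟨⟨A, hdet⟩, fun u v => ?_⟩, mat_inj hM.symm⟩
    let ex : (Fin S.card → F) → Fin n → F := fun u => Sum.elim u 0 ∘ (splitEq S).symm
    have hex : ∀ u, mat g *ᵥ ex u = Sum.elim (A *ᵥ u) 0 ∘ (splitEq S).symm := fun u => by
      rw [hM, exMat_mulVec]
      congr 1
      funext s
      rcases s with i | k
      · simp [ex]
      · have : (splitEq S).symm k.1 = Sum.inr k := by
          rw [Equiv.symm_apply_eq, splitEq_inr]
        simp [ex, this]
    have hq : ∀ u v : Fin S.card → F, hermForm n F q (Sum.elim u 0 ∘ (splitEq S).symm)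
        (Sum.elim v 0 ∘ (splitEq S).symm) = hermForm S.card F q u v := fun u v => by
      simp only [hermForm]
      rw [← (splitEq S).sum_comp]
      simp only [Function.comp_apply, Equiv.symm_apply_apply, Fintype.sum_sum_type, Sum.elim_inl,
        Sum.elim_inr, Pi.zero_apply, zero_mul, Finset.sum_const_zero, add_zero]
    show hermForm S.card F q (A *ᵥ u) (A *ᵥ v) = hermForm S.card F q u v
    rw [← hq, ← hex, ← hex]
    exact (mat_form g (ex u) (ex v)).trans (hq u v)

theorem card_Supp (U : UF F q) (S : Finset (Fin n)) :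
    Nat.card (Supp F q S) = Nat.card (SU S.card F q) := by
  rw [← range_emb U S]
  exact (Nat.card_congr (MonoidHom.ofInjective (emb_injective S)).toEquiv).symm

end CfsgLib.Known.SULift
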