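import Mathlib

/-!
# Biadditive maps of a finite field invariant under scalars
-/

set_option autoImplicit false

namespace CfsgLib.Known.SULift

open Polynomial

universe u v

/-- Roots of the same minimal polynomial over the prime field differ by a power of Frobenius. -/
theorem exists_pow_of_aeval_minpoly {F : Type u} [Field F] [Finite F] {p : ℕ} [Fact p.Prime] [Algebra (ZMod p) F]
    {x y : F} (h : aeval y (minpoly (ZMod p) x) = 0) : ∃ r : ℕ, y = x ^ p ^ r := by
  haveI : Module.Finite (ZMod p) F := Module.Finite.of_finite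
  obtain ⟨φ, hφ⟩ := minpoly.exists_algEquiv_of_root' (K := ZMod p) (x := y) (y := x)
    (Algebra.IsAlgebraic.isAlgebraic _) h
  obtain ⟨i, hi⟩ := (FiniteField.bijective_frobeniusAlgHom_pow (ZMod p) F).2 φ.toAlgHom
  refine ⟨i, ?_⟩
  have h2 := congrArg (fun f : F →ₐ[ZMod p] F => f x) hi
  simp only [AlgHom.coe_pow, FiniteField.coe_frobeniusAlgHom, pow_iterate, ZMod.card] at h2
  rw [h2]
  exact hφ.symm

/-- A biadditive map invariant under scaling by `μ` and `ν` is zero when `μ` and `ν⁻¹` are not conjugate. -/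
theorem eq_zero_of_invariant {F : Type u} [Field F] [Finite F] {p : ℕ} [Fact p.Prime] [CharP F p] {A : Type v}
    [AddCommGroup A] (B : F →+ F →+ A) {μ ν : F} (hν : ν ≠ 0) (hinv : ∀ a b, B (μ * a) (ν * b) = B a b)
    (hgood : ∀ r : ℕ, μ ^ p ^ r * ν ≠ 1) : B = 0 := by
  letI := ZMod.algebra F p
  set P := minpoly (ZMod p) μ
  obtain ⟨P', hP'⟩ := Polynomial.map_surjective (Int.castRingHom (ZMod p)) ZMod.intCast_surjective P
  have key : ∀ (Q : ℤ[X]) a b, B (aeval μ Q * a) b = B a (aeval ν⁻¹ Q * b) := by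
    intro Q
    induction Q using Polynomial.induction_on with
    | C z =>
      intro a b
      simp only [eq_intCast, map_intCast, ← zsmul_eq_mul, map_zsmul, AddMonoidHom.smul_apply]
    | add Q R hQ hR => intro a b; simp only [map_add, add_mul, AddMonoidHom.add_apply, hQ, hR]
    | monomial k z ih =>
      intro a b
      rw [pow_succ, ← mul_assoc]
      simp only [map_mul (aeval μ) (C z * X ^ k) X, map_mul (aeval ν⁻¹) (C z * X ^ k) X, aeval_X]
      rw [mul_assoc, ih, mul_assoc]
      have h := hinv a (ν⁻¹ * (aeval ν⁻¹ (C z * X ^ k) * b))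
      rw [mul_inv_cancel_left₀ hν] at h
      rw [h, mul_left_comm]
  have hP : ∀ z : F, aeval z P' = aeval z P := fun z => by
    rw [← hP', ← aeval_map_algebraMap (ZMod p) z P']
    rfl
  have hne : aeval ν⁻¹ P' ≠ 0 := fun h => by
    rw [hP] at h
    obtain ⟨r, hr⟩ := exists_pow_of_aeval_minpoly h
    exact hgood r (by rw [← hr, inv_mul_cancel₀ hν])
  ext a b
  have h := key P' a ((aeval ν⁻¹ P')⁻¹ * b)
  rw [hP μ, minpoly.aeval, zero_mul, map_zero, AddMonoidHom.zero_apply, mul_inv_cancel_left₀ hne] at h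
  exact h.symm

end CfsgLib.Known.SULift
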