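import Cfsg.Agent.Lib.Known.SULift.Central
import Cfsg.Agent.Lib.Known.SULift.Vanish

/-!
# Central extensions over a group of class two acted on by commuting symmetries
-/

set_option autoImplicit false
set_option linter.unusedSectionVars false

namespace CfsgLib.Known.SULift

open CfsgLib.Known.SL2Lift Subgroup
open scoped commutatorElement

universe u v w

/-- A subgroup mapped onto a commutative group, every element of the kernel being a commutator. -/
structure Rad (G : Type v) [Group G] (V : Type w) [AddCommGroup V] where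
  Q : Subgroup G
  pr : G → V
  pr_mul : ∀ x ∈ Q, ∀ y ∈ Q, pr (x * y) = pr x + pr y
  pr_surj : ∀ a, ∃ x ∈ Q, pr x = a
  comm : ∀ z ∈ Q, pr z = 0 → ∃ x ∈ Q, ∃ y ∈ Q, ⁅x, y⁆ = z
  central : ∀ z ∈ Q, pr z = 0 → ∀ x ∈ Q, z * x = x * z

variable {E : Type u} {G : Type v} [Group E] [Group G] {σ : E →* G} {V : Type w} [AddCommGroup V]

namespace Rad

variable (R : Rad G V)

/-- Conjugation by `g` induces `L`. -/
def Acts (g : G) (L : V →+ V) : Prop :=
  (∀ x ∈ R.Q, g * x * g⁻¹ ∈ R.Q) ∧ ∀ x ∈ R.Q, R.pr (g * x * g⁻¹) = L (R.pr x)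

theorem pr_one : R.pr 1 = 0 := by
  have h := R.pr_mul 1 (one_mem _) 1 (one_mem _)
  rwa [mul_one, left_eq_add] at h

theorem pr_inv {x : G} (hx : x ∈ R.Q) : R.pr x⁻¹ = - R.pr x := by
  have h := R.pr_mul x hx x⁻¹ (inv_mem hx)
  rw [mul_inv_cancel, R.pr_one] at h
  exact eq_neg_of_add_eq_zero_right h.symm

theorem pr_commutator {x y : G} (hx : x ∈ R.Q) (hy : y ∈ R.Q) : R.pr ⁅x, y⁆ = 0 := by
  rw [commutatorElement_def, R.pr_mul _ (mul_mem (mul_mem hx hy) (inv_mem hx)) _ (inv_mem hy),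
    R.pr_mul _ (mul_mem hx hy) _ (inv_mem hx), R.pr_mul _ hx _ hy, R.pr_inv hx, R.pr_inv hy]
  abel

theorem commutator_mem {x y : G} (hx : x ∈ R.Q) (hy : y ∈ R.Q) : ⁅x, y⁆ ∈ R.Q := by
  rw [commutatorElement_def]
  exact mul_mem (mul_mem (mul_mem hx hy) (inv_mem hx)) (inv_mem hy)

theorem Acts.pow {g : G} {L : V →+ V} (h : R.Acts g L) (k : ℕ) :
    ∀ x ∈ R.Q, g ^ k * x * (g ^ k)⁻¹ ∈ R.Q ∧ R.pr (g ^ k * x * (g ^ k)⁻¹) = (⇑L)^[k] (R.pr x) := by
  induction k with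
  | zero => intro x hx; simp [hx]
  | succ k ih =>
    intro x hx
    obtain ⟨h1, h2⟩ := ih x hx
    rw [show g ^ (k + 1) * x * (g ^ (k + 1))⁻¹ = g * (g ^ k * x * (g ^ k)⁻¹) * g⁻¹ by rw [pow_succ']; group]
    exact ⟨h.1 _ h1, by rw [h.2 _ h1, h2, Function.iterate_succ_apply']⟩

/-- An invariant homomorphism to a commutative group is trivial when the symmetries move everything. -/
theorem kill_hom {A : Type u} [CommGroup A] (d : R.Q →* A) (Γ : Set (G × (V →+ V)))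
    (hΓ : ∀ γ ∈ Γ, R.Acts γ.1 γ.2)
    (hinv : ∀ γ ∈ Γ, ∀ x (hx : x ∈ R.Q) (hx' : γ.1 * x * γ.1⁻¹ ∈ R.Q), d ⟨_, hx'⟩ = d ⟨x, hx⟩)
    (hgen : AddSubgroup.closure {a | ∃ γ ∈ Γ, ∃ b, γ.2 b - b = a} = ⊤) : d = 1 := by
  have hz : ∀ z : R.Q, R.pr z = 0 → d z = 1 := fun z hz => by
    obtain ⟨x, hx, y, hy, e⟩ := R.comm z z.2 hz
    rw [show z = ⁅(⟨x, hx⟩ : R.Q), ⟨y, hy⟩⁆ from Subtype.ext e.symm, map_commutatorElement,
      commutatorElement_eq_one_iff_mul_comm, mul_comm]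
  let T : AddSubgroup V :=
    { carrier := {a | ∃ x : R.Q, R.pr x = a ∧ d x = 1}
      zero_mem' := ⟨1, R.pr_one, map_one d⟩
      add_mem' := fun {a b} ⟨x, hx, hx'⟩ ⟨y, hy, hy'⟩ => ⟨x * y, by
        rw [Subgroup.coe_mul, R.pr_mul _ x.2 _ y.2, hx, hy], by rw [map_mul, hx', hy', one_mul]⟩
      neg_mem' := fun {a} ⟨x, hx, hx'⟩ => ⟨x⁻¹, by rw [Subgroup.coe_inv, R.pr_inv x.2, hx], by
        rw [map_inv, hx', inv_one]⟩ }
  have hT : T = ⊤ := by
    rw [eq_top_iff, ← hgen, AddSubgroup.closure_le]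
    rintro _ ⟨γ, hγ, b, rfl⟩
    obtain ⟨x, hx, rfl⟩ := R.pr_surj b
    have hx' := (hΓ γ hγ).1 x hx
    refine ⟨⟨_, hx'⟩ * ⟨x, hx⟩⁻¹, ?_, ?_⟩
    · show R.pr (γ.1 * x * γ.1⁻¹ * x⁻¹) = _
      rw [R.pr_mul _ hx' _ (inv_mem hx), R.pr_inv hx, (hΓ γ hγ).2 x hx, sub_eq_add_neg]
    · rw [map_mul, map_inv, hinv γ hγ x hx hx', mul_inv_cancel]
  refine MonoidHom.ext fun x => ?_
  obtain ⟨x', hx', hd⟩ : R.pr x ∈ T := hT ▸ AddSubgroup.mem_top _
  have h := hz (x'⁻¹ * x) (by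
    rw [Subgroup.coe_mul, Subgroup.coe_inv, R.pr_mul _ (inv_mem x'.2) _ x.2, R.pr_inv x'.2, hx',
      neg_add_cancel])
  rwa [map_mul, map_inv, hd, inv_one, one_mul] at h

end Rad

theorem comm_congr (hc : σ.ker ≤ center E) {a a' b b' : E} (ha : σ a = σ a') (hb : σ b = σ b') :
    ⁅a, b⁆ = ⁅a', b'⁆ := by
  rw [comm_central_left hc ha, comm_central_right hc hb]

theorem conj_congr (hc : σ.ker ≤ center E) {g g' : E} (h : σ g = σ g') (a : E) :
    g * a * g⁻¹ = g' * a * g'⁻¹ := by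
  have hk : g'⁻¹ * g ∈ σ.ker := by rw [MonoidHom.mem_ker, map_mul, map_inv, h, inv_mul_cancel]
  have h2 := mem_center_iff.1 (hc hk) a
  calc g * a * g⁻¹ = g' * (g'⁻¹ * g * a) * g⁻¹ := by group
    _ = g' * (a * (g'⁻¹ * g)) * g⁻¹ := by rw [h2]
    _ = _ := by group

/-- Lifts of an element of order prime to `p` and of an element commuting with it commute. -/
theorem commute_coprime (hc : σ.ker ≤ center E) {p : ℕ} (hp : p.Prime) (hk : IsPGroup p σ.ker)
    {g z : E} {o : ℕ} (ho : ¬ p ∣ o) (hg : σ g ^ o = 1) (hz : σ g * σ z = σ z * σ g) : Commute g z := by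
  have hk' : ⁅g, z⁆ ∈ σ.ker := by
    rw [MonoidHom.mem_ker, map_commutatorElement, commutatorElement_eq_one_iff_mul_comm, hz]
  have hcz := mem_center_iff.1 (hc hk')
  have hpow : ∀ j : ℕ, g ^ j * z * (g ^ j)⁻¹ = ⁅g, z⁆ ^ j * z := by
    intro j
    induction j with
    | zero => simp
    | succ j ih =>
      rw [show g ^ (j + 1) * z * (g ^ (j + 1))⁻¹ = g * (g ^ j * z * (g ^ j)⁻¹) * g⁻¹ by rw [pow_succ']; group,
        ih, show g * (⁅g, z⁆ ^ j * z) * g⁻¹ = (g * ⁅g, z⁆ ^ j * g⁻¹) * (g * z * g⁻¹) by group,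
        show g * ⁅g, z⁆ ^ j * g⁻¹ = ⁅g, z⁆ ^ j by
          rw [mem_center_iff.1 (pow_mem (hc hk') j) g, mul_inv_cancel_right],
        pow_succ, show g * z * g⁻¹ = ⁅g, z⁆ * z by rw [commutatorElement_def, inv_mul_cancel_right], mul_assoc]
  have h1 := hpow o
  rw [mem_center_iff.1 (inv_mem (hc (show g ^ o ∈ σ.ker by rw [MonoidHom.mem_ker, map_pow, hg]))) (g ^ o * z),
    inv_mul_cancel_left, right_eq_mul] at h1
  obtain ⟨k, e⟩ := hk ⟨_, hk'⟩
  exact commutatorElement_eq_one_iff_mul_comm.1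
    (eq_one_of_pow hp ho (by simpa using congrArg Subtype.val e) h1)

namespace Rad

variable (R : Rad G V)

/-- The preimage. -/
abbrev pre (σ : E →* G) : Subgroup E := R.Q.comap σ

/-- The lifts of the kernel of the coordinates are central in the preimage. -/
def ZCentral (σ : E →* G) : Prop :=
  ∀ a b : E, σ a ∈ R.Q → R.pr (σ a) = 0 → σ b ∈ R.Q → Commute a b

theorem zcentral (hσ : Function.Surjective σ) (hc : σ.ker ≤ center E) (Γ : Set (G × (V →+ V)))
    (hΓ : ∀ γ ∈ Γ, R.Acts γ.1 γ.2) (hfix : ∀ γ ∈ Γ, ∀ z ∈ R.Q, R.pr z = 0 → γ.1 * z * γ.1⁻¹ = z)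
    (hgen : AddSubgroup.closure {a | ∃ γ ∈ Γ, ∃ b, γ.2 b - b = a} = ⊤) : R.ZCentral σ := by
  intro a b ha ha0 hb
  have hcomm : ∀ x ∈ R.Q, x * σ a = σ a * x := fun x hx => (R.central _ ha ha0 x hx).symm
  let A := σ.ker
  letI : CommGroup A :=
    { (inferInstance : Group σ.ker) with
      mul_comm := fun p r => Subtype.ext (mem_center_iff.1 (hc r.2) p.1) }
  have hmem : ∀ x : R.Q, ⁅Function.surjInv hσ (x : G), a⁆ ∈ σ.ker := fun x => by
    rw [MonoidHom.mem_ker, map_commutatorElement, Function.surjInv_eq hσ,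
      commutatorElement_eq_one_iff_mul_comm]
    exact hcomm x x.2
  let d : R.Q →* A := MonoidHom.mk' (fun x => ⟨_, hmem x⟩) fun x x' => Subtype.ext (by
    show ⁅Function.surjInv hσ ((x : G) * x'), a⁆ = ⁅Function.surjInv hσ (x : G), a⁆ * _
    rw [comm_central_left hc (a' := Function.surjInv hσ (x : G) * Function.surjInv hσ (x' : G))
      (by rw [map_mul, Function.surjInv_eq hσ, Function.surjInv_eq hσ, Function.surjInv_eq hσ]),
      comm_mul_left, mem_center_iff.1 (hc (hmem x')) _, mul_inv_cancel_right]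
    exact (mem_center_iff.1 (hc (hmem x')) _).symm)
  have h1 := R.kill_hom d Γ hΓ (fun γ hγ x hx hx' => Subtype.ext (by
    obtain ⟨g, hg⟩ := hσ γ.1
    show ⁅Function.surjInv hσ (γ.1 * x * γ.1⁻¹), a⁆ = ⁅Function.surjInv hσ x, a⁆
    rw [comm_congr hc (a' := g * Function.surjInv hσ x * g⁻¹) (b' := g * a * g⁻¹)
      (by simp [Function.surjInv_eq hσ, hg]) (by simp [hg, hfix γ hγ _ ha ha0]),
      ← conjugate_commutatorElement, mem_center_iff.1 (hc (hmem ⟨x, hx⟩)) g, mul_inv_cancel_right])) hgen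
  have h2 : ⁅Function.surjInv hσ (σ b), a⁆ = 1 :=
    congrArg (fun f : R.Q →* A => (f ⟨σ b, hb⟩).1) h1
  rw [comm_central_left hc (Function.surjInv_eq hσ (σ b)), commutatorElement_eq_one_iff_mul_comm] at h2
  exact h2.symm

/-- The derived group of the preimage. -/
def der (σ : E →* G) : Subgroup E := ⁅R.pre σ, R.pre σ⁆

theorem der_le : R.der σ ≤ R.pre σ := commutator_le_self _

theorem pr_der {y : E} (hy : y ∈ R.der σ) : R.pr (σ y) = 0 := by
  let T : Subgroup E :=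
    { carrier := {y | σ y ∈ R.Q ∧ R.pr (σ y) = 0}
      one_mem' := ⟨by rw [map_one]; exact one_mem _, by rw [map_one, R.pr_one]⟩
      mul_mem' := fun {a b} ha hb => ⟨by rw [map_mul]; exact mul_mem ha.1 hb.1, by
        rw [map_mul, R.pr_mul _ ha.1 _ hb.1, ha.2, hb.2, add_zero]⟩
      inv_mem' := fun {a} ha => ⟨by rw [map_inv]; exact inv_mem ha.1, by
        rw [map_inv, R.pr_inv ha.1, ha.2, neg_zero]⟩ }
  refine ((commutator_le.2 fun a ha b hb => ?_ : R.der σ ≤ T) hy).2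
  exact ⟨by rw [map_commutatorElement]; exact R.commutator_mem ha hb, by
    rw [map_commutatorElement]; exact R.pr_commutator ha hb⟩

variable (hσ : Function.Surjective σ) (hc : σ.ker ≤ center E) (hZ : R.ZCentral σ)
include hσ hc hZ

theorem der_comm {y b : E} (hy : y ∈ R.der σ) (hb : σ b ∈ R.Q) : Commute y b :=
  hZ y b (R.der_le hy) (R.pr_der hy) hb

omit hc hZ in
/-- A lift of an element with given coordinates. -/
noncomputable def lft (a : V) : E := Function.surjInv hσ (R.pr_surj a).choose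

omit hc hZ in
theorem lft_spec (a : V) : σ (R.lft hσ a) ∈ R.Q ∧ R.pr (σ (R.lft hσ a)) = a := by
  rw [lft, Function.surjInv_eq hσ]
  exact (R.pr_surj a).choose_spec

omit hc hZ in
/-- The commutator form. -/
noncomputable def form (a b : V) : E := ⁅R.lft hσ a, R.lft hσ b⁆

omit hc hZ in
theorem form_mem (a b : V) : R.form hσ a b ∈ R.der σ :=
  commutator_mem_commutator (R.lft_spec hσ a).1 (R.lft_spec hσ b).1

theorem form_eq {x y : E} (hx : σ x ∈ R.Q) (hy : σ y ∈ R.Q) :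
    ⁅x, y⁆ = R.form hσ (R.pr (σ x)) (R.pr (σ y)) := by
  have key : ∀ {x : E}, σ x ∈ R.Q → ∃ z, x = R.lft hσ (R.pr (σ x)) * z ∧ σ z ∈ R.Q ∧ R.pr (σ z) = 0 := by
    intro x hx
    obtain ⟨h1, h2⟩ := R.lft_spec hσ (R.pr (σ x))
    refine ⟨(R.lft hσ (R.pr (σ x)))⁻¹ * x, (mul_inv_cancel_left _ _).symm, ?_, ?_⟩
    · rw [map_mul, map_inv]; exact mul_mem (inv_mem h1) hx
    · rw [map_mul, map_inv, R.pr_mul _ (inv_mem h1) _ hx, R.pr_inv h1, h2, neg_add_cancel]
  obtain ⟨z, ez, hz1, hz2⟩ := key hx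
  obtain ⟨z', ez', hz1', hz2'⟩ := key hy
  set a := R.lft hσ (R.pr (σ x))
  set b := R.lft hσ (R.pr (σ y))
  show _ = ⁅a, b⁆
  have hb : σ b ∈ R.Q := (R.lft_spec hσ _).1
  have ha : σ a ∈ R.Q := (R.lft_spec hσ _).1
  have h1 : Commute z y := hZ z y hz1 hz2 hy
  have h2 : Commute z' a := hZ z' a hz1' hz2' ha
  rw [ez, comm_mul_left, commutatorElement_eq_one_iff_mul_comm.2 h1.eq, mul_one, mul_inv_cancel, one_mul, ez',
    comm_mul_right, commutatorElement_eq_one_iff_mul_comm.2 h2.symm.eq, mul_one, mul_inv_cancel, mul_one]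

theorem form_add_left (a a' b : V) : R.form hσ (a + a') b = R.form hσ a b * R.form hσ a' b := by
  obtain ⟨h1, e1⟩ := R.lft_spec hσ a
  obtain ⟨h2, e2⟩ := R.lft_spec hσ a'
  obtain ⟨h3, e3⟩ := R.lft_spec hσ b
  have h := R.form_eq hσ hc hZ (x := R.lft hσ a * R.lft hσ a') (y := R.lft hσ b)
    (by rw [map_mul]; exact mul_mem h1 h2) h3
  rw [map_mul, R.pr_mul _ h1 _ h2, e1, e2, e3] at h
  rw [← h, comm_mul_left]
  show _ * R.form hσ a' b * _ * _ = _
  rw [← (R.der_comm hσ hc hZ (R.form_mem hσ a' b) h1).eq, mul_inv_cancel_right]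
  exact (R.der_comm hσ hc hZ (R.form_mem hσ a' b) (R.der_le (R.form_mem hσ a b))).eq

theorem form_add_right (a b b' : V) : R.form hσ a (b + b') = R.form hσ a b * R.form hσ a b' := by
  obtain ⟨h1, e1⟩ := R.lft_spec hσ a
  obtain ⟨h2, e2⟩ := R.lft_spec hσ b
  obtain ⟨h3, e3⟩ := R.lft_spec hσ b'
  have h := R.form_eq hσ hc hZ (x := R.lft hσ a) (y := R.lft hσ b * R.lft hσ b') h1
    (by rw [map_mul]; exact mul_mem h2 h3)
  rw [map_mul, R.pr_mul _ h2 _ h3, e1, e2, e3] at h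
  rw [← h, comm_mul_right]
  show _ * (_ * R.form hσ a b' * _) = _
  rw [← (R.der_comm hσ hc hZ (R.form_mem hσ a b') h2).eq, mul_inv_cancel_right]
  rfl

theorem form_self (a : V) : R.form hσ a a = 1 := commutatorElement_self _

theorem der_eq_closure : R.der σ = closure (Set.range fun t : V × V => R.form hσ t.1 t.2) := by
  refine le_antisymm (commutator_le.2 fun x hx y hy => ?_) ((closure_le _).2 ?_)
  · rw [R.form_eq hσ hc hZ hx hy]
    exact subset_closure ⟨(R.pr (σ x), R.pr (σ y)), rfl⟩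
  · rintro _ ⟨t, rfl⟩
    exact R.form_mem hσ t.1 t.2

theorem conj_form {g : G} {L : V →+ V} (hg : R.Acts g L) {h : E} (hh : σ h = g) (a b : V) :
    h * R.form hσ a b * h⁻¹ = R.form hσ (L a) (L b) := by
  obtain ⟨h1, e1⟩ := R.lft_spec hσ a
  obtain ⟨h2, e2⟩ := R.lft_spec hσ b
  rw [form, conjugate_commutatorElement, R.form_eq hσ hc hZ (by simpa [hh] using hg.1 _ h1)
    (by simpa [hh] using hg.1 _ h2)]
  simp only [map_mul, map_inv, hh, hg.2 _ h1, hg.2 _ h2, e1, e2]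

theorem conj_der {g : G} {L : V →+ V} (hg : R.Acts g L) {h : E} (hh : σ h = g) {y : E} (hy : y ∈ R.der σ) :
    h * y * h⁻¹ ∈ R.der σ := by
  rw [R.der_eq_closure hσ hc hZ] at hy
  refine (show closure (Set.range fun t : V × V => R.form hσ t.1 t.2) ≤
    (R.der σ).comap (MulAut.conj h).toMonoidHom from (closure_le _).2 ?_) hy
  rintro _ ⟨t, rfl⟩
  show h * R.form hσ t.1 t.2 * h⁻¹ ∈ R.der σ
  rw [R.conj_form hσ hc hZ hg hh]
  exact R.form_mem hσ _ _

omit hσ hc in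
/-- The derived group of the preimage is commutative. -/
@[reducible] def derCommGroup : CommGroup (R.der σ) :=
  { (inferInstance : Group (R.der σ)) with
    mul_comm := fun x y => Subtype.ext (hZ x.1 y.1 (R.der_le x.2) (R.pr_der x.2) (R.der_le y.2)).eq }

/-- The norm operators of the symmetries kill the intersection of the kernel with the derived group. -/
theorem der_ker_eq_one [Finite E] {p : ℕ} (hp : p.Prime) (hk : IsPGroup p σ.ker) {o : ℕ} (ho : ¬ p ∣ o)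
    (gs : List (G × (V →+ V))) (hgs : ∀ γ ∈ gs, R.Acts γ.1 γ.2) {ι : Type*} (P : ι → Set (V × V))
    (hPL : ∀ γ ∈ gs, ∀ i, ∀ t ∈ P i, (γ.2 t.1, γ.2 t.2) ∈ P i)
    (hspan : ∀ a b, R.form hσ a b ∈ closure ((fun t : V × V => R.form hσ t.1 t.2) '' ⋃ i, P i))
    (hgood : ∀ i, ∃ γ ∈ gs, ∀ t ∈ P i, (letI := R.derCommGroup hZ
      ∏ k ∈ Finset.range o, (⟨R.form hσ ((⇑γ.2)^[k] t.1) ((⇑γ.2)^[k] t.2), R.form_mem hσ _ _⟩ : R.der σ)) = 1)
    {y : E} (hy : y ∈ R.der σ) (hy0 : σ y = 1) : y = 1 := by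
  letI := R.derCommGroup hZ
  let K := R.der σ
  have hconj : ∀ γ ∈ gs, ∀ k : ℕ, ∀ z ∈ K,
      Function.surjInv hσ γ.1 ^ k * z * (Function.surjInv hσ γ.1 ^ k)⁻¹ ∈ K := by
    intro γ hγ k
    induction k with
    | zero => intro z hz; simpa using hz
    | succ k ih =>
      intro z hz
      rw [show ∀ g : E, g ^ (k + 1) * z * (g ^ (k + 1))⁻¹ = g * (g ^ k * z * (g ^ k)⁻¹) * g⁻¹ from fun g => by
        rw [pow_succ']; group]
      exact R.conj_der hσ hc hZ (hgs γ hγ) (Function.surjInv_eq hσ _) (ih z hz)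
  let φ : ∀ γ ∈ gs, ℕ → K →* K := fun γ hγ k => MonoidHom.mk'
    (fun z => ⟨_, hconj γ hγ k z z.2⟩) fun a b => Subtype.ext (by
      show _ * ((a : E) * b) * _ = _ * _
      group)
  let N : ∀ γ ∈ gs, K →* K := fun γ hγ => ∏ k ∈ Finset.range o, φ γ hγ k
  have hφform : ∀ γ (hγ : γ ∈ gs) (k : ℕ) (t : V × V), φ γ hγ k ⟨_, R.form_mem hσ t.1 t.2⟩ =
      ⟨R.form hσ ((⇑γ.2)^[k] t.1) ((⇑γ.2)^[k] t.2), R.form_mem hσ _ _⟩ := by
    intro γ hγ k t
    refine Subtype.ext ?_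
    show _ * R.form hσ t.1 t.2 * _ = R.form hσ _ _
    induction k with
    | zero => simp
    | succ k ih =>
      rw [show ∀ g : E, ∀ z, g ^ (k + 1) * z * (g ^ (k + 1))⁻¹ = g * (g ^ k * z * (g ^ k)⁻¹) * g⁻¹ from
        fun g z => by rw [pow_succ']; group, ih, R.conj_form hσ hc hZ (hgs γ hγ) (Function.surjInv_eq hσ _),
        Function.iterate_succ_apply', Function.iterate_succ_apply']
  let Cl : ι → Subgroup K := fun i =>
    closure ((fun t : V × V => (⟨_, R.form_mem hσ t.1 t.2⟩ : K)) '' P i)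
  have hNle : ∀ γ (hγ : γ ∈ gs) i, (Cl i).map (N γ hγ) ≤ Cl i := by
    intro γ hγ i
    rw [MonoidHom.map_closure, closure_le]
    rintro _ ⟨_, ⟨t, ht, rfl⟩, rfl⟩
    simp only [N, MonoidHom.finsetProd_apply, hφform]
    refine prod_mem fun k hk' => subset_closure ⟨((⇑γ.2)^[k] t.1, (⇑γ.2)^[k] t.2), ?_, rfl⟩
    clear hk'
    induction k with
    | zero => exact ht
    | succ k ih =>
      rw [Function.iterate_succ_apply', Function.iterate_succ_apply']
      exact hPL γ hγ i _ ih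
  have main : ∀ L : List (G × (V →+ V)), L ⊆ gs → ∃ M : K →* K, ∃ e : ℕ, ¬ p ∣ e ∧
      (∀ z : K, σ z = 1 → M z = z ^ e) ∧ (∀ i, (Cl i).map M ≤ Cl i) ∧
      ∀ i, (∃ γ ∈ L, ∀ t ∈ P i, ∏ k ∈ Finset.range o,
        (⟨R.form hσ ((⇑γ.2)^[k] t.1) ((⇑γ.2)^[k] t.2), R.form_mem hσ _ _⟩ : K) = 1) →
        (Cl i).map M = ⊥ := by
    intro L hL
    induction L with
    | nil => exact ⟨MonoidHom.id _, 1, hp.not_dvd_one, fun z _ => (pow_one z).symm, fun i => by
        rw [Subgroup.map_id], fun i ⟨γ, h, _⟩ => absurd h (List.not_mem_nil)⟩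
    | cons γ L ih =>
      obtain ⟨hγ, hL'⟩ := List.cons_subset.1 hL
      obtain ⟨M, e, he, h1, h2, h3⟩ := ih hL'
      refine ⟨M.comp (N γ hγ), o * e, fun h => (hp.dvd_mul.1 h).elim ho he, fun z hz => ?_, fun i => ?_,
        fun i hi => ?_⟩
      · have hfix : N γ hγ z = z ^ o := by
          simp only [N, MonoidHom.finsetProd_apply]
          rw [Finset.prod_eq_pow_card (b := z) fun k _ => Subtype.ext ?_, Finset.card_range]
          show _ * (z : E) * _ = z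
          rw [mem_center_iff.1 (hc (show (z : E) ∈ σ.ker from hz)), mul_inv_cancel_right]
        show M (N γ hγ z) = _
        rw [hfix, map_pow, h1 z hz, ← pow_mul, mul_comm]
      · rw [← Subgroup.map_map]
        exact (map_mono (hNle γ hγ i)).trans (h2 i)
      · rw [← Subgroup.map_map, eq_bot_iff]
        obtain ⟨γ', hγ', hgood'⟩ := hi
        rcases List.mem_cons.1 hγ' with rfl | hmem
        · have hbot : (Cl i).map (N γ' hγ) = ⊥ := by
            rw [MonoidHom.map_closure, closure_eq_bot_iff]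
            rintro _ ⟨_, ⟨t, ht, rfl⟩, rfl⟩
            simp only [N, MonoidHom.finsetProd_apply, hφform, Set.mem_singleton_iff]
            exact hgood' t ht
          rw [hbot, Subgroup.map_bot]
        · exact (map_mono (hNle γ hγ i)).trans (h3 i ⟨γ', hmem, hgood'⟩).le
  obtain ⟨M, e, he, h1, -, h3⟩ := main gs (List.Subset.refl _)
  have hker : ∀ z : K, M z = 1 := by
    have hle : closure ((fun t : V × V => R.form hσ t.1 t.2) '' ⋃ i, P i) ≤ M.ker.map K.subtype := by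
      rw [closure_le]
      rintro _ ⟨t, ht, rfl⟩
      obtain ⟨i, hti⟩ := Set.mem_iUnion.1 ht
      refine ⟨⟨_, R.form_mem hσ t.1 t.2⟩, ?_, rfl⟩
      have hm : M ⟨_, R.form_mem hσ t.1 t.2⟩ ∈ (Cl i).map M := mem_map_of_mem _ (subset_closure ⟨t, hti, rfl⟩)
      rw [h3 i (hgood i), mem_bot] at hm
      exact hm
    intro z
    have hz : (z : E) ∈ M.ker.map K.subtype := by
      have hz : (z : E) ∈ R.der σ := z.2
      rw [R.der_eq_closure hσ hc hZ] at hz
      refine (closure_le _).2 ?_ hz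
      rintro _ ⟨t, rfl⟩
      exact hle (hspan t.1 t.2)
    obtain ⟨z', hz', e'⟩ := hz
    exact (Subtype.ext e' : z' = z) ▸ hz'
  obtain ⟨k, ek⟩ := hk ⟨y, hy0⟩
  refine eq_one_of_pow hp he (k := k) (by simpa using congrArg Subtype.val ek) ?_
  have := (h1 ⟨y, hy⟩ hy0).symm.trans (hker _)
  simpa using congrArg Subtype.val this

/-- The vanishing of an orbit sum on a pair of coordinates. -/
theorem orbit_prod_eq_one {F : Type*} [Field F] [Finite F] {p : ℕ} [Fact p.Prime] [CharP F p] (ι ι' : F →+ V)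
    {L : V →+ V} {μ ν : F} (hν : ν ≠ 0) (hL : ∀ a, L (ι a) = ι (μ * a)) (hL' : ∀ a, L (ι' a) = ι' (ν * a))
    {o : ℕ} (hμo : μ ^ o = 1) (hνo : ν ^ o = 1) (hgood : ∀ r : ℕ, μ ^ p ^ r * ν ≠ 1) (a b : F) :
    (letI := R.derCommGroup hZ
      ∏ k ∈ Finset.range o, (⟨R.form hσ ((⇑L)^[k] (ι a)) ((⇑L)^[k] (ι' b)), R.form_mem hσ _ _⟩ : R.der σ)) = 1 := by
  letI := R.derCommGroup hZ
  have hk : ∀ (k : ℕ) a, (⇑L)^[k] (ι a) = ι (μ ^ k * a) := fun k => by
    induction k with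
    | zero => simp
    | succ k ih => intro a; rw [Function.iterate_succ_apply', ih, hL, pow_succ', mul_assoc]
  have hk' : ∀ (k : ℕ) a, (⇑L)^[k] (ι' a) = ι' (ν ^ k * a) := fun k => by
    induction k with
    | zero => simp
    | succ k ih => intro a; rw [Function.iterate_succ_apply', ih, hL', pow_succ', mul_assoc]
  simp only [hk, hk']
  let B : F →+ F →+ Additive (R.der σ) := AddMonoidHom.mk'
    (fun a => AddMonoidHom.mk' (fun b => ∑ k ∈ Finset.range o,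
      Additive.ofMul (⟨R.form hσ (ι (μ ^ k * a)) (ι' (ν ^ k * b)), R.form_mem hσ _ _⟩ : R.der σ))
      fun b b' => by
        rw [← Finset.sum_add_distrib]
        refine Finset.sum_congr rfl fun k _ => congrArg Additive.ofMul (Subtype.ext ?_)
        show R.form hσ _ _ = R.form hσ _ _ * R.form hσ _ _
        rw [mul_add, map_add, R.form_add_right hσ hc hZ])
    fun a a' => AddMonoidHom.ext fun b => by
      simp only [AddMonoidHom.add_apply, AddMonoidHom.mk'_apply]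
      rw [← Finset.sum_add_distrib]
      refine Finset.sum_congr rfl fun k _ => congrArg Additive.ofMul (Subtype.ext ?_)
      show R.form hσ _ _ = R.form hσ _ _ * R.form hσ _ _
      rw [mul_add, map_add, R.form_add_left hσ hc hZ]
  have hB : B = 0 := by
    refine eq_zero_of_invariant B hν (fun a b => ?_) hgood
    let f : ℕ → Additive (R.der σ) := fun k =>
      Additive.ofMul (⟨R.form hσ (ι (μ ^ k * a)) (ι' (ν ^ k * b)), R.form_mem hσ _ _⟩ : R.der σ)
    have h1 := Finset.sum_range_succ f o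
    rw [Finset.sum_range_succ'] at h1
    have hfo : f o = f 0 := by simp only [f, hμo, hνo, pow_zero]
    rw [hfo] at h1
    simp only [B, AddMonoidHom.mk'_apply]
    refine Eq.trans (Finset.sum_congr rfl fun k _ => ?_) (add_right_cancel h1)
    simp only [f, pow_succ, mul_assoc]
  have h := DFunLike.congr_fun (DFunLike.congr_fun hB a) b
  simp only [B, AddMonoidHom.mk'_apply, AddMonoidHom.zero_apply] at h
  exact Additive.ofMul.injective ((ofMul_prod _ _).trans h)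

omit hσ hc hZ in
/-- A symmetry of the preimage. -/
def pconj {h : E} (hh : ∀ x ∈ R.pre σ, h * x * h⁻¹ ∈ R.pre σ) : R.pre σ →* R.pre σ :=
  MonoidHom.mk' (fun x => ⟨_, hh x x.2⟩) fun a b => Subtype.ext (by
    show h * ((a : E) * b) * h⁻¹ = _ * _
    group)

omit hσ hc hZ in
theorem pre_conj {g : G} {L : V →+ V} (hg : R.Acts g L) {h : E} (hh : σ h = g) :
    ∀ x ∈ R.pre σ, h * x * h⁻¹ ∈ R.pre σ := fun x hx => by
  rw [Rad.pre, mem_comap, map_mul, map_mul, map_inv, hh]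
  exact hg.1 _ hx

/-- The sum of the commutator maps with the symmetries splits off the kernel. -/
theorem exists_complement (hdk : ∀ y ∈ R.der σ, σ y = 1 → y = 1) (gs : List (G × (V →+ V)))
    (hgs : ∀ γ ∈ gs, R.Acts γ.1 γ.2)
    (hD : Function.Bijective fun a : V => (gs.map fun γ => γ.2 a - a).sum) :
    ∃ Qh : Subgroup E, Qh ≤ R.pre σ ∧ R.der σ ≤ Qh ∧ (∀ y ∈ Qh, σ y = 1 → y = 1) ∧
      (∀ x ∈ R.Q, ∃ y ∈ Qh, σ y = x) ∧
      ∀ (m : G) (L : V →+ V), R.Acts m L → (∀ γ ∈ gs, m * γ.1 = γ.1 * m) →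
        ∀ e, σ e = m → ∀ y ∈ Qh, e * y * e⁻¹ ∈ Qh := by
  classical
  let Ab := Abelianization (R.pre σ)
  let ψ : G × (V →+ V) → (R.pre σ →* Ab) := fun γ =>
    if hγ : R.Acts γ.1 γ.2 then
      (Abelianization.of.comp (R.pconj (R.pre_conj hγ (Function.surjInv_eq hσ γ.1)))) / Abelianization.of
    else 1
  let Ψ : R.pre σ →* Ab := (gs.map ψ).prod
  -- the coordinates on the abelianisation
  let prA : R.pre σ →* Multiplicative V := MonoidHom.mk' (fun x => Multiplicative.ofAdd (R.pr (σ x.1)))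
    fun a b => by
      show Multiplicative.ofAdd (R.pr (σ ((a : E) * b))) = _
      rw [map_mul, R.pr_mul _ (mem_comap.1 a.2) _ (mem_comap.1 b.2)]
      rfl
  let π : Ab →* Multiplicative V := Abelianization.lift prA
  have hπ : ∀ x, (π (Ψ x)).toAdd = (gs.map fun γ => γ.2 (R.pr (σ x.1)) - R.pr (σ x.1)).sum := by
    intro x
    have : ∀ L : List (G × (V →+ V)), L ⊆ gs →
        (π ((L.map ψ).prod x)).toAdd = (L.map fun γ => γ.2 (R.pr (σ x.1)) - R.pr (σ x.1)).sum := by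
      intro L hL
      induction L with
      | nil => simp
      | cons γ L ih =>
        obtain ⟨hγ, hL'⟩ := List.cons_subset.1 hL
        rw [List.map_cons, List.prod_cons, MonoidHom.mul_apply, map_mul, toAdd_mul, ih hL', List.map_cons,
          List.sum_cons]
        congr 1
        simp only [ψ, dif_pos (hgs γ hγ), MonoidHom.div_apply, MonoidHom.comp_apply, map_div, toAdd_div]
        show R.pr (σ (Function.surjInv hσ γ.1 * (x : E) * (Function.surjInv hσ γ.1)⁻¹)) - R.pr (σ x.1) = _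
        rw [map_mul, map_mul, map_inv, Function.surjInv_eq hσ, (hgs γ hγ).2 _ x.2]
    exact this gs (List.Subset.refl _)
  have hΨder : ∀ {x : R.pre σ}, R.pr (σ x.1) = 0 → Ψ x = 1 := by
    intro x hx
    obtain ⟨a, ha, b, hb, e⟩ := R.comm _ x.2 hx
    obtain ⟨a', ha'⟩ := hσ a
    obtain ⟨b', hb'⟩ := hσ b
    let a'' : R.pre σ := ⟨a', by rw [Rad.pre, mem_comap, ha']; exact ha⟩
    let b'' : R.pre σ := ⟨b', by rw [Rad.pre, mem_comap, hb']; exact hb⟩
    have hk : σ (⁅a'', b''⁆⁻¹ * x).1 = 1 := by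
      show σ (⁅a', b'⁆⁻¹ * x.1) = 1
      rw [map_mul, map_inv, map_commutatorElement, ha', hb', e, inv_mul_cancel]
    have hx' : x = ⁅a'', b''⁆ * (⁅a'', b''⁆⁻¹ * x) := (mul_inv_cancel_left _ _).symm
    rw [hx', map_mul, map_commutatorElement, commutatorElement_eq_one_iff_mul_comm.2 (mul_comm _ _), one_mul]
    generalize (⁅a'', b''⁆⁻¹ * x) = k at hk
    have : ∀ γ, ψ γ k = 1 := fun γ => by
      simp only [ψ]
      split_ifs with hγ
      · rw [MonoidHom.div_apply, div_eq_one]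
        refine congrArg Abelianization.of (Subtype.ext ?_)
        show _ * (k : E) * _ = k
        rw [mem_center_iff.1 (hc (show (k : E) ∈ σ.ker from hk)), mul_inv_cancel_right]
      · rfl
    show (gs.map ψ).prod k = 1
    induction gs with
    | nil => simp
    | cons γ L ih => rw [List.map_cons, List.prod_cons, MonoidHom.mul_apply, this, one_mul]; clear ih; exact
        (List.recOn L (by simp) fun γ L h => by rw [List.map_cons, List.prod_cons, MonoidHom.mul_apply, this, one_mul, h] :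
          (L.map ψ).prod k = 1)
  let Qh : Subgroup E := (Ψ.range.comap Abelianization.of).map (R.pre σ).subtype
  have hderQ : R.der σ ≤ Qh := fun y hy => by
    rw [Rad.der, ← map_subtype_commutator] at hy
    obtain ⟨y', hy', rfl⟩ := hy
    exact ⟨y', ⟨1, by rw [map_one]; exact ((QuotientGroup.eq_one_iff _).2 hy').symm⟩, rfl⟩
  refine ⟨Qh, map_subtype_le _, hderQ, ?_, ?_, ?_⟩
  · rintro _ ⟨y, ⟨x, hx⟩, rfl⟩ hy
    have h1 := hπ x
    rw [hx] at h1
    have h1 : R.pr (σ y.1) = (gs.map fun γ => γ.2 (R.pr (σ x.1)) - R.pr (σ x.1)).sum := h1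
    rw [show σ (y : E) = 1 from hy, R.pr_one] at h1
    have h2 : R.pr (σ x.1) = 0 := hD.1 (by simpa using h1.symm)
    rw [hΨder h2] at hx
    refine hdk _ ?_ hy
    rw [Rad.der, ← map_subtype_commutator]
    exact ⟨y, (QuotientGroup.eq_one_iff _).1 hx.symm, rfl⟩
  · intro q hq
    obtain ⟨v, hv⟩ := hD.2 (R.pr q)
    obtain ⟨h1, e1⟩ := R.lft_spec hσ v
    obtain ⟨y, hy⟩ := QuotientGroup.mk_surjective (Ψ (⟨R.lft hσ v, h1⟩ : R.pre σ))
    have hyQ : (y : E) ∈ Qh := ⟨y, ⟨_, hy.symm⟩, rfl⟩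
    have hpr : R.pr (σ y.1) = R.pr q := by
      have h := hπ ⟨R.lft hσ v, h1⟩
      rw [← hy] at h
      rw [e1] at h
      exact h.trans hv
    obtain ⟨a, ha, b, hb, e⟩ := R.comm ((σ y.1)⁻¹ * q) (mul_mem (inv_mem y.2) hq)
      (by rw [R.pr_mul _ (inv_mem y.2) _ hq, R.pr_inv y.2, hpr, neg_add_cancel])
    obtain ⟨a', rfl⟩ := hσ a
    obtain ⟨b', rfl⟩ := hσ b
    refine ⟨y.1 * ⁅a', b'⁆, mul_mem hyQ (hderQ (commutator_mem_commutator ha hb)), ?_⟩
    rw [map_mul, map_commutatorElement, e, mul_inv_cancel_left]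
  · rintro m L hm hcomm e he _ ⟨y, ⟨x, hx⟩, rfl⟩
    have hpe := R.pre_conj hm he
    refine ⟨R.pconj hpe y, ⟨R.pconj hpe x, ?_⟩, rfl⟩
    show Ψ (R.pconj hpe x) = Abelianization.of (R.pconj hpe y)
    rw [← Abelianization.map_of, ← hx]
    have : ∀ L : List (G × (V →+ V)), L ⊆ gs →
        (L.map ψ).prod (R.pconj hpe x) = Abelianization.map (R.pconj hpe) ((L.map ψ).prod x) := by
      intro L hL
      induction L with
      | nil => simp
      | cons γ L ih =>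
        obtain ⟨hγ, hL'⟩ := List.cons_subset.1 hL
        rw [List.map_cons, List.prod_cons, MonoidHom.mul_apply, MonoidHom.mul_apply, map_mul, ih hL']
        congr 1
        simp only [ψ, dif_pos (hgs γ hγ), MonoidHom.div_apply, MonoidHom.comp_apply, map_div,
          Abelianization.map_of]
        refine congrArg (fun a => Abelianization.of a / _) (Subtype.ext ?_)
        set g := Function.surjInv hσ γ.1
        show g * (e * x.1 * e⁻¹) * g⁻¹ = e * (g * x.1 * g⁻¹) * e⁻¹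
        rw [show g * (e * x.1 * e⁻¹) * g⁻¹ = (g * e) * x.1 * (g * e)⁻¹ by group,
          show e * (g * x.1 * g⁻¹) * e⁻¹ = (e * g) * x.1 * (e * g)⁻¹ by group]
        refine conj_congr hc ?_ _
        rw [map_mul, map_mul, Function.surjInv_eq hσ, he, hcomm γ hγ]
    exact this gs (List.Subset.refl _)

end Rad

/-- Two sections over a subgroup fixed by symmetries moving everything agree. -/
theorem eq_of_two_sections (hσ : Function.Surjective σ) (hc : σ.ker ≤ center E) (R₁ : Rad G V)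
    (L Qh : Subgroup E) (hLk : ∀ y ∈ L, σ y = 1 → y = 1) (hQk : ∀ y ∈ Qh, σ y = 1 → y = 1)
    (hL : ∀ x ∈ R₁.Q, ∃ y ∈ L, σ y = x) (hQ : ∀ x ∈ R₁.Q, ∃ y ∈ Qh, σ y = x) (Γ : Set (G × (V →+ V)))
    (hΓ : ∀ γ ∈ Γ, R₁.Acts γ.1 γ.2)
    (hnL : ∀ γ ∈ Γ, ∀ e, σ e = γ.1 → ∀ y ∈ L, σ y ∈ R₁.Q → e * y * e⁻¹ ∈ L)
    (hnQ : ∀ γ ∈ Γ, ∀ e, σ e = γ.1 → ∀ y ∈ Qh, σ y ∈ R₁.Q → e * y * e⁻¹ ∈ Qh)
    (hgen : AddSubgroup.closure {a | ∃ γ ∈ Γ, ∃ b, γ.2 b - b = a} = ⊤) :
    ∀ y ∈ L, σ y ∈ R₁.Q → y ∈ Qh := by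
  choose l hl hl' using hL
  choose r hr hr' using hQ
  letI : CommGroup σ.ker :=
    { (inferInstance : Group σ.ker) with
      mul_comm := fun a b => Subtype.ext (mem_center_iff.1 (hc b.2) a.1) }
  have hmem : ∀ x : R₁.Q, (r x.1 x.2)⁻¹ * l x.1 x.2 ∈ σ.ker := fun x => by
    rw [MonoidHom.mem_ker, map_mul, map_inv, hr', hl', inv_mul_cancel]
  have uL : ∀ {x : G} (hx : x ∈ R₁.Q) {y : E}, y ∈ L → σ y = x → y = l x hx := fun hx y hy e =>
    (eq_of_inv_mul_eq_one (hLk _ (mul_mem (inv_mem (hl _ hx)) hy) (by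
      rw [map_mul, map_inv, hl', e, inv_mul_cancel]))).symm
  have uQ : ∀ {x : G} (hx : x ∈ R₁.Q) {y : E}, y ∈ Qh → σ y = x → y = r x hx := fun hx y hy e =>
    (eq_of_inv_mul_eq_one (hQk _ (mul_mem (inv_mem (hr _ hx)) hy) (by
      rw [map_mul, map_inv, hr', e, inv_mul_cancel]))).symm
  let d : R₁.Q →* σ.ker := MonoidHom.mk' (fun x => ⟨_, hmem x⟩) fun x x' => Subtype.ext (by
    have e1 := uL (x * x').2 (mul_mem (hl _ x.2) (hl _ x'.2)) (by rw [map_mul, hl', hl']; rfl)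
    have e2 := uQ (x * x').2 (mul_mem (hr _ x.2) (hr _ x'.2)) (by rw [map_mul, hr', hr']; rfl)
    show (r _ (x * x').2)⁻¹ * l _ (x * x').2 = _ * _
    rw [← e1, ← e2]
    have hz := mem_center_iff.1 (hc (hmem x))
    calc (r x.1 x.2 * r x'.1 x'.2)⁻¹ * (l x.1 x.2 * l x'.1 x'.2)
        = (r x'.1 x'.2)⁻¹ * ((r x.1 x.2)⁻¹ * l x.1 x.2) * l x'.1 x'.2 := by group
      _ = _ := by rw [hz, mul_assoc])
  have h1 := R₁.kill_hom d Γ hΓ (fun γ hγ x hx hx' => Subtype.ext (by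
    obtain ⟨e, he⟩ := hσ γ.1
    show (r _ hx')⁻¹ * l _ hx' = (r x hx)⁻¹ * l x hx
    rw [← uL hx' (hnL γ hγ e he _ (hl x hx) (by rw [hl']; exact hx)) (by simp [he, hl']),
      ← uQ hx' (hnQ γ hγ e he _ (hr x hx) (by rw [hr']; exact hx)) (by simp [he, hr'])]
    calc (e * r x hx * e⁻¹)⁻¹ * (e * l x hx * e⁻¹) = e * ((r x hx)⁻¹ * l x hx) * e⁻¹ := by group
      _ = _ := by rw [mem_center_iff.1 (hc (hmem ⟨x, hx⟩)) e, mul_inv_cancel_right])) hgen
  intro y hy hyQ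
  have h2 : (r _ hyQ)⁻¹ * l _ hyQ = 1 := congrArg (fun f : R₁.Q →* σ.ker => (f ⟨σ y, hyQ⟩).1) h1
  rw [uL hyQ hy rfl, ← eq_of_inv_mul_eq_one h2]
  exact hr _ hyQ

/-- A semidirect product with an invariant complement over the normal part. -/
theorem free_semidirect (hσ : Function.Surjective σ) (hc : σ.ker ≤ center E) {Q M : Subgroup G} (Qh : Subgroup E)
    (hle : Qh ≤ Q.comap σ) (hk : ∀ y ∈ Qh, σ y = 1 → y = 1) (hsurj : ∀ x ∈ Q, ∃ y ∈ Qh, σ y = x)
    (hinv : ∀ e, σ e ∈ M → ∀ y ∈ Qh, e * y * e⁻¹ ∈ Qh) (hd : ∀ g ∈ Q, g ∈ M → g = 1) (hM : Free σ M) :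
    Free σ (Q ⊔ M) := by
  intro z hz hm
  set Mt := M.comap σ
  have hn : Mt ≤ normalizer (Qh : Set E) := fun e he => mem_normalizer_iff.2 fun y =>
    ⟨hinv e he y, fun h => by
      have := hinv e⁻¹ (by rw [map_inv]; exact inv_mem he) _ h
      rwa [inv_inv, mul_assoc e y, inv_mul_cancel_left, inv_mul_cancel_right] at this⟩
  have hdec : ∀ g ∈ (Q ⊔ M).comap σ, g ∈ Qh ⊔ Mt := by
    intro g hg
    refine (sup_le ?_ le_sup_right : Q.comap σ ⊔ Mt ≤ Qh ⊔ Mt) (comap_sup_le hσ Q M hg)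
    intro x hx
    obtain ⟨y, hy, e⟩ := hsurj _ hx
    rw [← mul_inv_cancel_left y x]
    exact mul_mem (mem_sup_left hy) (mem_sup_right (show σ (y⁻¹ * x) ∈ M by
      rw [map_mul, map_inv, e, inv_mul_cancel]; exact one_mem _))
  have hn' : ⁅Mt, Mt⁆ ≤ normalizer (Qh : Set E) := (commutator_le_self _).trans hn
  have hcl : ⁅Qh ⊔ Mt, Qh ⊔ Mt⁆ ≤ Qh ⊔ ⁅Mt, Mt⁆ := by
    set W := Qh ⊔ Mt
    have hnW : W ≤ normalizer (Qh : Set E) := sup_le le_normalizer hn
    have hQW : (Qh.subgroupOf W).Normal := (normal_subgroupOf_iff_le_normalizer le_sup_left).2 hnW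
    rw [commutator_le]
    intro a ha b hb
    have hd : ∀ g ∈ W, ∃ x ∈ Qh, ∃ m ∈ Mt, g = x * m := fun g hg => by
      have hg' : g ∈ (↑W : Set E) := hg
      rw [show (W : Set E) = (↑(Qh ⊔ Mt) : Set E) from rfl, sup_comm, coe_mul_of_left_le_normalizer_right _ _ hn]
        at hg'
      obtain ⟨m, hm, x, hx, rfl⟩ := hg'
      exact ⟨m * x * m⁻¹, hinv m hm x hx, m, hm, (inv_mul_cancel_right _ _).symm⟩
    obtain ⟨x, hx, m, hm, rfl⟩ := hd a ha
    obtain ⟨x', hx', m', hm', rfl⟩ := hd b hb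
    let π := QuotientGroup.mk' (Qh.subgroupOf W)
    have hπ : ∀ {g h : E} (hg : g ∈ W) (hh : h ∈ Qh), π ⟨h * g, mul_mem (mem_sup_left hh) hg⟩ = π ⟨g, hg⟩ :=
      fun {g h} hg hh => by
        rw [show (⟨h * g, mul_mem (mem_sup_left hh) hg⟩ : W) = ⟨h, mem_sup_left hh⟩ * ⟨g, hg⟩ from rfl, map_mul,
          show π ⟨h, mem_sup_left hh⟩ = 1 from (QuotientGroup.eq_one_iff _).2 (mem_subgroupOf.2 hh), one_mul]
    let e : W := ⁅(⟨x * m, mul_mem (mem_sup_left hx) (mem_sup_right hm)⟩ : W),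
      ⟨x' * m', mul_mem (mem_sup_left hx') (mem_sup_right hm')⟩⁆ *
        ⁅(⟨m, mem_sup_right hm⟩ : W), ⟨m', mem_sup_right hm'⟩⁆⁻¹
    have h1 : π e = 1 := by
      rw [map_mul, map_inv, map_commutatorElement, map_commutatorElement, hπ (mem_sup_right hm) hx,
        hπ (mem_sup_right hm') hx', mul_inv_cancel]
    have h2 : ⁅x * m, x' * m'⁆ * ⁅m, m'⁆⁻¹ ∈ Qh := mem_subgroupOf.1 ((QuotientGroup.eq_one_iff _).1 h1)
    rw [← inv_mul_cancel_right ⁅x * m, x' * m'⁆ ⁅m, m'⁆]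
    exact mul_mem (mem_sup_left h2) (mem_sup_right (commutator_mem_commutator hm hm'))
  have hz' : z ∈ Qh ⊔ ⁅Mt, Mt⁆ := hcl (commutator_mono hdec hdec hm)
  have hz'' : z ∈ (↑(⁅Mt, Mt⁆ ⊔ Qh) : Set E) := by rwa [sup_comm] at hz'
  rw [coe_mul_of_left_le_normalizer_right _ _ hn'] at hz''
  obtain ⟨a, ha, x, hx, rfl⟩ := hz''
  rw [map_mul, mul_eq_one_iff_eq_inv'] at hz
  have hx1 : σ x = 1 := hd _ (hle hx) (by rw [hz]; exact inv_mem (commutator_le_self Mt ha : σ a ∈ M))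
  have h := hk x hx hx1
  subst h
  rw [map_one, eq_comm, inv_eq_one] at hz
  show a * 1 = 1
  rw [mul_one]
  exact hM a hz ha

end CfsgLib.Known.SULift
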