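import Cfsg.Agent.Lib.Known.SULift.Monomial
import Cfsg.Agent.Lib.Known.SULift.Rad

/-!
# The radical of the stabiliser of an isotropic vector
-/

set_option autoImplicit false
set_option linter.unusedSectionVars false

namespace CfsgLib.Known.SULift

open Matrix Cfsg CfsgLib.Chev.CT.Phan
open scoped commutatorElement

universe u

variable {F : Type u} [Field F] [Fintype F] {q n : ℕ}

/-- Two isotropic vectors with product one on two coordinates. -/
structure Frame (U : UF F q) (n : ℕ) where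
  i0 : Fin n
  i1 : Fin n
  h01 : i0 ≠ i1
  ω : F
  hω : ω * U.σ ω = -1
  z0 : F
  hz0 : z0 + U.σ z0 = -1

variable {U : UF F q}

theorem exists_frame (U : UF F q) {i0 i1 : Fin n} (h01 : i0 ≠ i1) :
    ∃ fr : Frame U n, fr.i0 = i0 ∧ fr.i1 = i1 := by
  obtain ⟨ω, hω⟩ := U.exists_norm (-1) (by simp)
  obtain ⟨z, hz⟩ := U.exists_trace
  exact ⟨⟨i0, i1, h01, ω, hω, -z, by rw [map_neg, ← neg_add, hz]⟩, rfl, rfl⟩

namespace Frame

variable (fr : Frame U n)

/-- The first isotropic vector. -/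
def e : Fin n → F := Pi.single fr.i0 1 + fr.ω • Pi.single fr.i1 1

/-- The second isotropic vector. -/
def f : Fin n → F := fr.z0 • fr.e + Pi.single fr.i0 1

theorem hf_single_r (U : UF F q) (x : Fin n → F) (i : Fin n) : hf q x (Pi.single i 1) = x i := by
  rw [U.hf_eq, Finset.sum_eq_single i]
  · simp
  · intro j _ hj; simp [hj]
  · simp

theorem hf_single_l (U : UF F q) (x : Fin n → F) (i : Fin n) : hf q (Pi.single i 1) x = U.σ (x i) := by
  rw [← U.swap, hf_single_r U]

theorem hf_e_r (x : Fin n → F) : hf q x fr.e = x fr.i0 + U.σ fr.ω * x fr.i1 := by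
  rw [e, U.add_r, U.smul_r, hf_single_r U, hf_single_r U]

theorem e_i0 : fr.e fr.i0 = 1 := by simp [e, fr.h01]
theorem e_i1 : fr.e fr.i1 = fr.ω := by simp [e, fr.h01.symm]
theorem e_of_ne {i : Fin n} (h0 : i ≠ fr.i0) (h1 : i ≠ fr.i1) : fr.e i = 0 := by simp [e, h0, h1]
theorem f_i0 : fr.f fr.i0 = fr.z0 + 1 := by simp [f, fr.e_i0]
theorem f_i1 : fr.f fr.i1 = fr.z0 * fr.ω := by simp [f, fr.e_i1, fr.h01.symm]
theorem f_of_ne {i : Fin n} (h0 : i ≠ fr.i0) (h1 : i ≠ fr.i1) : fr.f i = 0 := by simp [f, fr.e_of_ne h0 h1, h0]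

theorem hf_ee : hf q fr.e fr.e = 0 := by
  rw [hf_e_r, fr.e_i0, fr.e_i1]; linear_combination fr.hω

theorem hf_ef : hf q fr.e fr.f = 1 := by
  rw [f, U.add_r, U.smul_r, fr.hf_ee, hf_single_r U, fr.e_i0, mul_zero, zero_add]

theorem hf_fe : hf q fr.f fr.e = 1 := by rw [← U.swap, fr.hf_ef, map_one]

theorem hf_ff : hf q fr.f fr.f = 0 := by
  have h : hf q fr.f fr.f = U.σ fr.z0 * hf q fr.f fr.e + fr.f fr.i0 := by
    conv_lhs => arg 3; rw [f]
    rw [U.add_r, U.smul_r, hf_single_r U]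
  rw [h, fr.hf_fe, fr.f_i0]
  linear_combination fr.hz0

/-- A set of coordinates away from the frame. -/
def Away (S : Finset (Fin n)) : Prop := fr.i0 ∉ S ∧ fr.i1 ∉ S

/-- The vectors supported on `S`. -/
def coords (F : Type u) [Field F] (S : Finset (Fin n)) : AddSubgroup (Fin n → F) where
  carrier := {v | ∀ i, i ∉ S → v i = 0}
  zero_mem' := fun _ _ => rfl
  add_mem' := fun {a b} ha hb i hi => by simp [ha i hi, hb i hi]
  neg_mem' := fun {a} ha i hi => by simp [ha i hi]

variable {S : Finset (Fin n)}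

theorem perp_e (hS : fr.Away S) {v : Fin n → F} (hv : v ∈ coords F S) : hf q v fr.e = 0 := by
  rw [hf_e_r, hv _ hS.1, hv _ hS.2]; ring

theorem perp_e' (hS : fr.Away S) {v : Fin n → F} (hv : v ∈ coords F S) : hf q fr.e v = 0 :=
  U.swap_eq_zero (fr.perp_e hS hv)

theorem perp_f (hS : fr.Away S) {v : Fin n → F} (hv : v ∈ coords F S) : hf q v fr.f = 0 := by
  rw [f, U.add_r, U.smul_r, hf_single_r U, fr.perp_e hS hv, hv _ hS.1]; ring

theorem perp_f' (hS : fr.Away S) {v : Fin n → F} (hv : v ∈ coords F S) : hf q fr.f v = 0 :=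
  U.swap_eq_zero (fr.perp_f hS hv)

/-- The matrix of an element of the radical. -/
def TM (v : Fin n → F) (a : F) : Matrix (Fin n) (Fin n) F :=
  1 + vecMulVec v (fun j => U.σ (fr.e j)) - vecMulVec fr.e (fun j => U.σ (v j))
    + a • vecMulVec fr.e (fun j => U.σ (fr.e j))

theorem TM_mulVec (v : Fin n → F) (a : F) (x : Fin n → F) :
    fr.TM v a *ᵥ x = x + hf q x fr.e • v - hf q x v • fr.e + (a * hf q x fr.e) • fr.e := by
  have h : ∀ (w z : Fin n → F), vecMulVec w (fun j => U.σ (z j)) *ᵥ x = hf q x z • w := fun w z => by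
    funext i
    simp only [mulVec, dotProduct, vecMulVec_apply, Pi.smul_apply, smul_eq_mul, U.hf_eq, Finset.sum_mul]
    exact Finset.sum_congr rfl fun j _ => by ring
  rw [TM, add_mulVec, sub_mulVec, add_mulVec, one_mulVec, smul_mulVec, h, h, h, smul_smul]

theorem TM_zero : fr.TM 0 0 = 1 := Matrix.ext_of_mulVec_single fun i => by
  rw [TM_mulVec, U.zero_r, one_mulVec]; simp

theorem TM_mul (hS : fr.Away S) {v w : Fin n → F} (hv : v ∈ coords F S) (hw : w ∈ coords F S) (a b : F) :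
    fr.TM v a * fr.TM w b = fr.TM (v + w) (a + b - hf q w v) := by
  refine Matrix.ext_of_mulVec_single fun i => ?_
  generalize (Pi.single i (1 : F) : Fin n → F) = x
  simp only [← mulVec_mulVec, TM_mulVec, U.add_l, U.sub_l, U.smul_l, U.add_r, fr.perp_e hS hw, fr.hf_ee,
    fr.perp_e' hS hv]
  funext j
  simp only [Pi.add_apply, Pi.sub_apply, Pi.smul_apply, smul_eq_mul]
  ring

theorem TM_form (hS : fr.Away S) {v : Fin n → F} (hv : v ∈ coords F S) {a : F}
    (ha : a + U.σ a + hf q v v = 0) (x y : Fin n → F) :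
    hf q (fr.TM v a *ᵥ x) (fr.TM v a *ᵥ y) = hf q x y := by
  simp only [TM_mulVec, U.add_l, U.sub_l, U.smul_l, U.add_r, U.sub_r, U.smul_r, fr.perp_e hS hv, fr.hf_ee,
    fr.perp_e' hS hv, map_mul, U.swap]
  linear_combination (hf q x fr.e * hf q fr.e y) * ha

theorem coords_smul {v : Fin n → F} (hv : v ∈ coords F S) (c : F) : c • v ∈ coords F S := fun i hi => by
  simp [hv i hi]

theorem det_TM (hS : fr.Away S) {v : Fin n → F} (hv : v ∈ coords F S) (a : F) : (fr.TM v a).det = 1 := by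
  obtain ⟨p, hp⟩ := CharP.exists F
  haveI := hp
  haveI : Fact p.Prime := ⟨CharP.char_is_prime F p⟩
  have h1 : ∀ k : ℕ, ∃ c, fr.TM v a ^ k = fr.TM ((k : F) • v) c := by
    intro k
    induction k with
    | zero => exact ⟨0, by rw [pow_zero, Nat.cast_zero, zero_smul, TM_zero]⟩
    | succ k ih =>
      obtain ⟨c, hc⟩ := ih
      exact ⟨_, by rw [pow_succ, hc, fr.TM_mul hS (coords_smul hv _) hv, Nat.cast_succ, add_smul, one_smul]⟩
  have h2 : ∀ (c : F) (k : ℕ), fr.TM 0 c ^ k = fr.TM 0 ((k : F) * c) := by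
    intro c k
    induction k with
    | zero => rw [pow_zero, Nat.cast_zero, zero_mul, TM_zero]
    | succ k ih =>
      rw [pow_succ, ih, fr.TM_mul hS (zero_mem _) (zero_mem _), U.zero_r, add_zero, sub_zero, Nat.cast_succ,
        add_one_mul]
  obtain ⟨c, hc⟩ := h1 p
  rw [CharP.cast_eq_zero, zero_smul] at hc
  have h3 : (fr.TM v a ^ (p ^ 2)).det = 1 := by
    rw [sq, pow_mul, hc, h2, CharP.cast_eq_zero, zero_mul, TM_zero, det_one]
  rw [det_pow] at h3
  have h4 : ((fr.TM v a).det - 1) ^ (p ^ 2) = 0 := by rw [sub_pow_char_pow, h3, one_pow, sub_self]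
  exact sub_eq_zero.1 (eq_zero_of_pow_eq_zero h4)

/-- The radical on the coordinates in `S`. -/
def Q (fr : Frame U n) (S : Finset (Fin n)) (hS : fr.Away S) : Subgroup (SU n F q) where
  carrier := {g | ∃ v ∈ coords F S, ∃ a, a + U.σ a + hf q v v = 0 ∧ mat g = fr.TM v a}
  one_mem' := ⟨0, zero_mem _, 0, by simp [U.zero_r], by rw [TM_zero]; rfl⟩
  mul_mem' := by
    rintro g h ⟨v, hv, a, ha, eg⟩ ⟨w, hw, b, hb, eh⟩
    refine ⟨v + w, add_mem hv hw, a + b - hf q w v, ?_, by rw [mat_mul, eg, eh, fr.TM_mul hS hv hw]⟩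
    rw [U.add_l, U.add_r, U.add_r, map_sub, map_add, U.swap]
    linear_combination ha + hb
  inv_mem' := by
    rintro g ⟨v, hv, a, ha, eg⟩
    refine ⟨-v, neg_mem hv, U.σ a, ?_, ?_⟩
    · rw [U.hσσ]
      have : hf q (-v) (-v) = hf q v v := by simp [U.hf_eq]
      rw [this]; linear_combination ha
    · have h : fr.TM (-v) (U.σ a) * mat g = 1 := by
        rw [eg, fr.TM_mul hS (neg_mem hv) hv, neg_add_cancel]
        have e : U.σ a + a - hf q v (-v) = 0 := by
          rw [show hf q v (-v) = - hf q v v by simp [U.hf_eq]]; linear_combination ha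
        rw [e, TM_zero]
      calc mat g⁻¹ = fr.TM (-v) (U.σ a) * mat g * mat g⁻¹ := by rw [h, one_mul]
        _ = _ := by rw [mul_assoc, ← mat_mul, mul_inv_cancel, mat_one, mul_one]

/-- An element of the radical. -/
def tEl (hS : fr.Away S) {v : Fin n → F} (hv : v ∈ coords F S) {a : F} (ha : a + U.σ a + hf q v v = 0) :
    SU n F q :=
  CfsgLib.Classical.suMk (fr.TM v a) (fr.det_TM hS hv a) (fr.TM_form hS hv ha)

theorem tEl_mem (hS : fr.Away S) {v : Fin n → F} (hv : v ∈ coords F S) {a : F}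
    (ha : a + U.σ a + hf q v v = 0) : fr.tEl hS hv ha ∈ fr.Q S hS := ⟨v, hv, a, ha, rfl⟩

theorem TM_f (hS : fr.Away S) {v : Fin n → F} (hv : v ∈ coords F S) (a : F) :
    fr.TM v a *ᵥ fr.f = fr.f + v + a • fr.e := by
  rw [TM_mulVec, fr.hf_fe, fr.perp_f' hS hv, one_smul, zero_smul, sub_zero, mul_one]

/-- The coordinates of an element. -/
def pr (S : Finset (Fin n)) (g : SU n F q) : coords F S :=
  ⟨fun i => if i ∈ S then (mat g *ᵥ fr.f) i else 0, fun i hi => if_neg hi⟩

theorem pr_TM (hS : fr.Away S) {v : Fin n → F} (hv : v ∈ coords F S) {a : F} {g : SU n F q}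
    (hg : mat g = fr.TM v a) : (fr.pr S g : Fin n → F) = v := by
  funext i
  show (if i ∈ S then (mat g *ᵥ fr.f) i else 0) = v i
  split_ifs with h
  · have h0 : i ≠ fr.i0 := fun e => hS.1 (e ▸ h)
    have h1 : i ≠ fr.i1 := fun e => hS.2 (e ▸ h)
    rw [hg, fr.TM_f hS hv]
    simp [fr.e_of_ne h0 h1, fr.f_of_ne h0 h1]
  · exact (hv i h).symm

theorem exists_skew_value (U : UF F q) {a : F} (ha : a + U.σ a = 0) : ∃ l, l - U.σ l = a := by
  obtain ⟨z, hz⟩ := U.exists_trace
  refine ⟨z * a, ?_⟩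
  rw [map_mul]
  linear_combination a * hz - U.σ z * ha

theorem exists_value (U : UF F q) (v : Fin n → F) : ∃ a, a + U.σ a + hf q v v = 0 := by
  obtain ⟨z, hz⟩ := U.exists_trace
  refine ⟨-(z * hf q v v), ?_⟩
  rw [map_neg, map_mul, U.hf_self_fix]
  linear_combination -(hf q v v) * hz

theorem single_mem {k : Fin n} (hk : k ∈ S) (a : F) : (Pi.single k a : Fin n → F) ∈ coords F S := fun i hi => by
  have : i ≠ k := fun e => hi (e ▸ hk)
  simp [this]

/-- The radical with its coordinates. -/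
def rad (hS : fr.Away S) (hne : S.Nonempty) : Rad (SU n F q) (coords F S) where
  Q := fr.Q S hS
  pr := fr.pr S
  pr_mul := by
    rintro x ⟨v, hv, a, -, ex⟩ y ⟨w, hw, b, -, ey⟩
    refine Subtype.ext ?_
    rw [fr.pr_TM hS (add_mem hv hw) (a := a + b - hf q w v) (by rw [mat_mul, ex, ey, fr.TM_mul hS hv hw]),
      AddSubgroup.coe_add, fr.pr_TM hS hv ex, fr.pr_TM hS hw ey]
  pr_surj := fun v => by
    obtain ⟨a, ha⟩ := exists_value U (v : Fin n → F)
    exact ⟨_, fr.tEl_mem hS v.2 ha, Subtype.ext (fr.pr_TM hS v.2 rfl)⟩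
  comm := by
    rintro z ⟨v, hv, a, ha, ez⟩ hz
    have hv0 : v = 0 := by rw [← fr.pr_TM hS hv ez, hz]; rfl
    subst hv0
    rw [U.zero_r, add_zero] at ha
    obtain ⟨l, hl⟩ := exists_skew_value U ha
    obtain ⟨k, hk⟩ := hne
    obtain ⟨b, hb⟩ := exists_value U (Pi.single k l : Fin n → F)
    obtain ⟨c, hc⟩ := exists_value U (Pi.single k 1 : Fin n → F)
    set x := fr.tEl hS (single_mem hk l) hb
    set y := fr.tEl hS (single_mem hk 1) hc
    refine ⟨x, fr.tEl_mem hS _ hb, y, fr.tEl_mem hS _ hc, ?_⟩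
    have e : x * y = z * (y * x) := mat_inj (by
      rw [mat_mul, mat_mul, mat_mul, ez, show mat x = fr.TM (Pi.single k l) b from rfl,
        show mat y = fr.TM (Pi.single k 1) c from rfl, fr.TM_mul hS (single_mem hk l) (single_mem hk 1),
        fr.TM_mul hS (single_mem hk 1) (single_mem hk l),
        fr.TM_mul hS (zero_mem _) (add_mem (single_mem hk 1) (single_mem hk l)), zero_add,
        add_comm (Pi.single k (1 : F) : Fin n → F) (Pi.single k l)]
      congr 1
      rw [U.zero_r, hf_single_r U, hf_single_l U, Pi.single_eq_same]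
      linear_combination hl)
    rw [commutatorElement_def, mul_inv_eq_iff_eq_mul, mul_inv_eq_iff_eq_mul, mul_assoc]
    exact e
  central := by
    rintro z ⟨v, hv, a, -, ez⟩ hz x ⟨w, hw, b, -, ex⟩
    have hv0 : v = 0 := by rw [← fr.pr_TM hS hv ez, hz]; rfl
    subst hv0
    refine mat_inj ?_
    rw [mat_mul, mat_mul, ez, ex, fr.TM_mul hS hv hw, fr.TM_mul hS hw hv, zero_add, add_zero, U.zero_r,
      U.zero_l, add_comm a b]

theorem rad_Q (hS : fr.Away S) (hne : S.Nonempty) : (fr.rad hS hne).Q = fr.Q S hS := rfl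

theorem rad_pr (hS : fr.Away S) (hne : S.Nonempty) : (fr.rad hS hne).pr = fr.pr S := rfl

/-- The induced map on the coordinates. -/
def lin (U : UF F q) (g : SU n F q) (lam : F) (hgS : ∀ v ∈ coords F S, mat g *ᵥ v ∈ coords F S) : coords F S →+ coords F S :=
  AddMonoidHom.mk' (fun v => ⟨U.σ lam • (mat g *ᵥ v.1), coords_smul (hgS v.1 v.2) _⟩) fun v w =>
    Subtype.ext (by
      show U.σ lam • (mat g *ᵥ (v.1 + w.1)) = U.σ lam • (mat g *ᵥ v.1) + U.σ lam • (mat g *ᵥ w.1)
      rw [mulVec_add, smul_add])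

theorem conj_TM (hS : fr.Away S) {g : SU n F q} {lam : F} (hge : mat g *ᵥ fr.e = lam • fr.e)
    {v : Fin n → F} (hv : v ∈ coords F S) {a : F} {x : SU n F q} (hx : mat x = fr.TM v a) :
    mat (g * x * g⁻¹) = fr.TM (U.σ lam • (mat g *ᵥ v)) (lam * U.σ lam * a) := by
  have e : mat g * fr.TM v a = fr.TM (U.σ lam • (mat g *ᵥ v)) (lam * U.σ lam * a) * mat g := by
    refine Matrix.ext_of_mulVec_single fun i => ?_
    generalize (Pi.single i (1 : F) : Fin n → F) = y
    have h1 : U.σ lam * hf q (mat g *ᵥ y) fr.e = hf q y fr.e := by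
      rw [← U.smul_r, ← hge, mat_form]
    simp only [← mulVec_mulVec, TM_mulVec, mulVec_add, mulVec_sub, mulVec_smul, hge, U.smul_r, U.hσσ, mat_form]
    funext j
    simp only [Pi.add_apply, Pi.sub_apply, Pi.smul_apply, smul_eq_mul]
    linear_combination (-((mat g *ᵥ v) j) - a * lam * fr.e j) * h1
  rw [mat_mul, mat_mul, hx, e, mul_assoc, ← mat_mul, mul_inv_cancel, mat_one, mul_one]

theorem conj_mem (hS : fr.Away S) {g : SU n F q} {lam : F} (hge : mat g *ᵥ fr.e = lam • fr.e)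
    (hgS : ∀ v ∈ coords F S, mat g *ᵥ v ∈ coords F S) {x : SU n F q} (hx : x ∈ fr.Q S hS) :
    g * x * g⁻¹ ∈ fr.Q S hS := by
  obtain ⟨v, hv, a, ha, ex⟩ := hx
  refine ⟨_, coords_smul (hgS v hv) _, _, ?_, fr.conj_TM hS hge hv ex⟩
  rw [U.smul_l, U.smul_r, mat_form, U.hσσ, map_mul, map_mul, U.hσσ]
  linear_combination (lam * U.σ lam) * ha

theorem acts (hS : fr.Away S) (hne : S.Nonempty) {g : SU n F q} {lam : F}
    (hge : mat g *ᵥ fr.e = lam • fr.e) (hgS : ∀ v ∈ coords F S, mat g *ᵥ v ∈ coords F S) :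
    (fr.rad hS hne).Acts g (lin U g lam hgS) := by
  refine ⟨fun x hx => fr.conj_mem hS hge hgS hx, ?_⟩
  rintro x ⟨v, hv, a, -, ex⟩
  refine Subtype.ext ?_
  show (fr.pr S (g * x * g⁻¹) : Fin n → F) = U.σ lam • (mat g *ᵥ (fr.pr S x).1)
  rw [fr.pr_TM hS (coords_smul (hgS v hv) _) (fr.conj_TM hS hge hv ex), fr.pr_TM hS hv ex]

theorem fix_centre (hS : fr.Away S) {g : SU n F q} {lam : F} (hge : mat g *ᵥ fr.e = lam • fr.e)
    (hl : lam * U.σ lam = 1) {z : SU n F q} (hz : z ∈ fr.Q S hS) (hz0 : fr.pr S z = 0) :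
    g * z * g⁻¹ = z := by
  obtain ⟨v, hv, a, -, ez⟩ := hz
  have hv0 : v = 0 := by rw [← fr.pr_TM hS hv ez, hz0]; rfl
  subst hv0
  refine mat_inj ?_
  rw [fr.conj_TM hS hge hv ez, ez, mulVec_zero, smul_zero, hl, one_mul]

/-- The change of coordinates to the frame. -/
def P (fr : Frame U n) : Matrix (Fin n) (Fin n) F :=
  Matrix.of fun r c => if c = fr.i0 then fr.e r else if c = fr.i1 then fr.f r else (1 : Matrix (Fin n) (Fin n) F) r c

theorem P_single (c : Fin n) : fr.P *ᵥ Pi.single c 1 =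
    if c = fr.i0 then fr.e else if c = fr.i1 then fr.f else Pi.single c 1 := by
  funext r
  rw [mulVec_single_one]
  show fr.P r c = _
  simp only [P, of_apply]
  split_ifs <;> simp [one_apply, Pi.single_apply]

/-- The vector without its coordinates on the frame. -/
def rest (x : Fin n → F) : Fin n → F := fun i => if i = fr.i0 ∨ i = fr.i1 then 0 else x i

theorem P_mulVec (x : Fin n → F) : fr.P *ᵥ x = x fr.i0 • fr.e + x fr.i1 • fr.f + fr.rest x := by
  funext r
  have hr : ∀ c, fr.P r c * x c = (if c = fr.i0 then x fr.i0 * fr.e r else 0) +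
      (if c = fr.i1 then x fr.i1 * fr.f r else 0) + if c = r then fr.rest x r else 0 := fun c => by
    simp only [P, of_apply, rest]
    by_cases h0 : c = fr.i0
    · subst h0
      by_cases hr : fr.i0 = r
      · subst hr; simp [fr.h01, mul_comm]
      · simp [fr.h01, hr, mul_comm]
    · by_cases h1 : c = fr.i1
      · subst h1
        by_cases hr : fr.i1 = r
        · subst hr; simp [fr.h01.symm, mul_comm]
        · simp [fr.h01.symm, hr, mul_comm]
      · by_cases hr : c = r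
        · subst hr; simp [h0, h1]
        · simp [h0, h1, hr, one_apply, Ne.symm hr]
  simp only [mulVec, dotProduct, hr, Finset.sum_add_distrib, Finset.sum_ite_eq', Finset.mem_univ, if_true,
    Pi.add_apply, Pi.smul_apply, smul_eq_mul]

theorem rest_mem (x : Fin n → F) : fr.rest x ∈ coords F (({fr.i0, fr.i1} : Finset (Fin n))ᶜ) := fun i hi => by
  simp only [Finset.mem_compl, not_not, Finset.mem_insert, Finset.mem_singleton] at hi
  simp [rest, hi]

theorem away_compl : fr.Away (({fr.i0, fr.i1} : Finset (Fin n))ᶜ) := ⟨by simp, by simp⟩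

theorem hf_P (x y : Fin n → F) : hf q (fr.P *ᵥ x) (fr.P *ᵥ y) =
    x fr.i0 * U.σ (y fr.i1) + x fr.i1 * U.σ (y fr.i0) + hf q (fr.rest x) (fr.rest y) := by
  have hx := fr.rest_mem x
  have hy := fr.rest_mem y
  have hA := fr.away_compl
  simp only [P_mulVec, U.add_l, U.add_r, U.smul_l, U.smul_r, fr.hf_ee, fr.hf_ef, fr.hf_fe, fr.hf_ff,
    fr.perp_e hA hx, fr.perp_f hA hx, fr.perp_e' hA hy, fr.perp_f' hA hy]
  ring

theorem isUnit_det_P : IsUnit fr.P.det := by
  rw [← isUnit_iff_isUnit_det, ← mulVec_injective_iff_isUnit]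
  intro x y hxy
  have h0 : fr.P *ᵥ (x - y) = 0 := by rw [mulVec_sub, hxy, sub_self]
  funext i
  refine sub_eq_zero.1 ?_
  set z := x - y
  show z i = 0
  have h := fun w => (fr.hf_P z w).symm.trans (by rw [h0, U.zero_l])
  have hrest : ∀ c, fr.rest (Pi.single c (1 : F)) = if c = fr.i0 ∨ c = fr.i1 then 0 else Pi.single c 1 := by
    intro c
    funext r
    by_cases hc : c = fr.i0 ∨ c = fr.i1
    · by_cases hr : r = fr.i0 ∨ r = fr.i1
      · simp [rest, hr, hc]
      · have : r ≠ c := fun e => hr (e ▸ hc)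
        simp [rest, hr, hc, this]
    · by_cases hr : r = fr.i0 ∨ r = fr.i1
      · have : r ≠ c := fun e => hc (e ▸ hr)
        simp [rest, hr, hc, this]
      · simp [rest, hr, hc]
  by_cases h0' : i = fr.i0
  · subst h0'
    simpa [hrest, U.zero_r, fr.h01, fr.h01.symm] using h (Pi.single fr.i1 1)
  by_cases h1' : i = fr.i1
  · subst h1'
    simpa [hrest, U.zero_r, fr.h01, fr.h01.symm] using h (Pi.single fr.i0 1)
  have := h (Pi.single i 1)
  simpa [hrest, h0', h1', hf_single_r U, rest, Ne.symm h0', Ne.symm h1'] using this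

/-- The weights of a torus element. -/
def wt (d : F) (u : Fin n → F) : Fin n → F := fun i => if i = fr.i0 then d else if i = fr.i1 then (U.σ d)⁻¹ else u i

variable {d : F} {u : Fin n → F}

/-- The matrix of a torus element. -/
noncomputable def torusMat (fr : Frame U n) (d : F) (u : Fin n → F) : Matrix (Fin n) (Fin n) F :=
  fr.P * diagonal (fr.wt d u) * fr.P⁻¹

theorem torusMat_P (x : Fin n → F) :
    torusMat fr d u *ᵥ (fr.P *ᵥ x) = fr.P *ᵥ (fr.wt d u * x) := by
  rw [torusMat, mulVec_mulVec, mul_assoc, nonsing_inv_mul _ fr.isUnit_det_P, mul_one, ← mulVec_mulVec]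
  congr 1
  funext i
  rw [mulVec_diagonal]
  rfl

theorem P_surj (y : Fin n → F) : ∃ x, fr.P *ᵥ x = y :=
  ⟨fr.P⁻¹ *ᵥ y, by rw [mulVec_mulVec, mul_nonsing_inv _ fr.isUnit_det_P, one_mulVec]⟩

theorem torusMat_form (hd : d ≠ 0) (hu : ∀ i, i ≠ fr.i0 → i ≠ fr.i1 → u i * U.σ (u i) = 1) (x y : Fin n → F) :
    hf q (torusMat fr d u *ᵥ x) (torusMat fr d u *ᵥ y) = hf q x y := by
  obtain ⟨x, rfl⟩ := fr.P_surj x
  obtain ⟨y, rfl⟩ := fr.P_surj y
  rw [fr.torusMat_P, fr.torusMat_P, fr.hf_P, fr.hf_P]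
  have hd' : U.σ d ≠ 0 := by simpa using hd
  congr 1
  · simp only [Pi.mul_apply, wt, if_true, fr.h01.symm, if_false, map_mul, map_inv₀, U.hσσ]
    field_simp
  · simp only [U.hf_eq]
    refine Finset.sum_congr rfl fun i _ => ?_
    by_cases h : i = fr.i0 ∨ i = fr.i1
    · simp [rest, h]
    · rw [not_or] at h
      simp only [rest, h.1, h.2, or_self, if_false, Pi.mul_apply, wt, map_mul]
      linear_combination (x i * U.σ (y i)) * hu i h.1 h.2

/-- A torus element. -/
noncomputable def torus (hd : d ≠ 0) (hu : ∀ i, i ≠ fr.i0 → i ≠ fr.i1 → u i * U.σ (u i) = 1)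
    (hw : ∏ i, fr.wt d u i = 1) : SU n F q :=
  CfsgLib.Classical.suMk (torusMat fr d u) (by
    rw [torusMat, det_mul, det_mul, det_diagonal, hw, mul_one, ← det_mul,
      mul_nonsing_inv _ fr.isUnit_det_P, det_one]) (fr.torusMat_form hd hu)

theorem torus_e {g : SU n F q} (hg : mat g = torusMat fr d u) : mat g *ᵥ fr.e = d • fr.e := by
  have h : fr.e = fr.P *ᵥ Pi.single fr.i0 1 := by rw [P_single, if_pos rfl]
  rw [hg]
  conv_lhs => rw [h, torusMat_P]
  rw [show fr.wt d u * Pi.single fr.i0 1 = d • Pi.single fr.i0 1 from ?_, mulVec_smul, ← h]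
  funext i
  by_cases hi : i = fr.i0
  · subst hi; simp [wt]
  · simp [hi]

theorem P_coords (hS : fr.Away S) {v : Fin n → F} (hv : v ∈ coords F S) : fr.P *ᵥ v = v := by
  rw [P_mulVec, hv _ hS.1, hv _ hS.2, zero_smul, zero_smul, zero_add, zero_add]
  funext i
  by_cases hi : i = fr.i0 ∨ i = fr.i1
  · rcases hi with rfl | rfl <;> simp [rest, hv _ hS.1, hv _ hS.2]
  · simp [rest, hi]

theorem torus_coords (hS : fr.Away S) {v : Fin n → F} (hv : v ∈ coords F S) {g : SU n F q}
    (hg : mat g = torusMat fr d u) : mat g *ᵥ v = u * v := by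
  have hw : fr.wt d u * v = u * v := funext fun i => by
    by_cases hi : i = fr.i0
    · subst hi; simp [hv _ hS.1]
    by_cases hi' : i = fr.i1
    · subst hi'; simp [hv _ hS.2]
    simp [wt, hi, hi']
  rw [hg]
  conv_lhs => rw [← fr.P_coords hS hv, torusMat_P, hw]
  exact fr.P_coords hS fun i hi => by simp [hv i hi]

/-- Torus elements commute. -/
theorem torus_comm {d' : F} {u' : Fin n → F} {g h : SU n F q} (hg : mat g = torusMat fr d u)
    (hh : mat h = torusMat fr d' u') : g * h = h * g := by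
  refine mat_inj ?_
  refine Matrix.ext_of_mulVec_single fun i => ?_
  obtain ⟨x, hx⟩ := fr.P_surj (Pi.single i 1)
  rw [← hx, mat_mul, mat_mul, ← mulVec_mulVec, ← mulVec_mulVec, hg, hh, torusMat_P, torusMat_P, torusMat_P,
    torusMat_P, mul_left_comm]

theorem supp_mulVec {T : Finset (Fin n)} {m : SU n F q} (hm : m ∈ Supp F q T) (x : Fin n → F) (i : Fin n) :
    (mat m *ᵥ x) i = if i ∈ T then ∑ j ∈ T, mat m i j * x j else x i := by
  split_ifs with hi
  · rw [mulVec, dotProduct]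
    refine (Finset.sum_subset (Finset.subset_univ T) fun j _ hj => ?_).symm
    rw [mem_Supp_apply.1 hm i j fun h => hj h.2, if_neg fun e : i = j => hj (e ▸ hi), zero_mul]
  · rw [mulVec, dotProduct, Finset.sum_eq_single i]
    · rw [mem_Supp_apply.1 hm i i fun h => hi h.1, if_pos rfl, one_mul]
    · intro j _ hj
      rw [mem_Supp_apply.1 hm i j fun h => hi h.1, if_neg (Ne.symm hj), zero_mul]
    · simp

theorem supp_fix {T : Finset (Fin n)} {m : SU n F q} (hm : m ∈ Supp F q T) {x : Fin n → F}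
    (hx : ∀ i ∈ T, x i = 0) : mat m *ᵥ x = x := funext fun i => by
  rw [supp_mulVec hm]
  split_ifs with hi
  · rw [hx i hi]; exact Finset.sum_eq_zero fun j hj => by rw [hx j hj, mul_zero]
  · rfl

theorem supp_e {T : Finset (Fin n)} (hT : fr.Away T) {m : SU n F q} (hm : m ∈ Supp F q T) :
    mat m *ᵥ fr.e = (1 : F) • fr.e := by
  rw [one_smul]
  exact supp_fix hm fun i hi => fr.e_of_ne (fun e => hT.1 (e ▸ hi)) fun e => hT.2 (e ▸ hi)

theorem supp_f {T : Finset (Fin n)} (hT : fr.Away T) {m : SU n F q} (hm : m ∈ Supp F q T) :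
    mat m *ᵥ fr.f = fr.f :=
  supp_fix hm fun i hi => fr.f_of_ne (fun e => hT.1 (e ▸ hi)) fun e => hT.2 (e ▸ hi)

theorem supp_coords {T : Finset (Fin n)} (hTS : T ⊆ S) {m : SU n F q} (hm : m ∈ Supp F q T) {v : Fin n → F}
    (hv : v ∈ coords F S) : mat m *ᵥ v ∈ coords F S := fun i hi => by
  rw [supp_mulVec hm, if_neg fun h => hi (hTS h), hv i hi]

/-- A torus element constant on `T` commutes with the elements supported on `T`. -/
theorem torus_comm_supp {T : Finset (Fin n)} (hT : fr.Away T) (hc : ∀ i ∈ T, ∀ j ∈ T, u i = u j)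
    {g m : SU n F q} (hg : mat g = torusMat fr d u) (hm : m ∈ Supp F q T) : m * g = g * m := by
  have hP : ∀ x, mat m *ᵥ (fr.P *ᵥ x) = fr.P *ᵥ (mat m *ᵥ x) := fun x => by
    rw [P_mulVec, P_mulVec, mulVec_add, mulVec_add, mulVec_smul, mulVec_smul, fr.supp_e hT hm, one_smul,
      fr.supp_f hT hm, supp_mulVec hm x fr.i0, if_neg hT.1, supp_mulVec hm x fr.i1, if_neg hT.2]
    congr 1
    funext i
    rw [supp_mulVec hm]
    by_cases hi : i ∈ T
    · have h0 : i ≠ fr.i0 := fun e => hT.1 (e ▸ hi)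
      have h1 : i ≠ fr.i1 := fun e => hT.2 (e ▸ hi)
      rw [if_pos hi, rest, if_neg (by simp [h0, h1]), supp_mulVec hm, if_pos hi]
      refine Finset.sum_congr rfl fun j hj => ?_
      rw [rest, if_neg (by rintro (e | e) <;> [exact hT.1 (e ▸ hj); exact hT.2 (e ▸ hj)])]
    · rw [if_neg hi, rest, rest, supp_mulVec hm, if_neg hi]
  refine mat_inj ?_
  refine Matrix.ext_of_mulVec_single fun i => ?_
  obtain ⟨x, hx⟩ := fr.P_surj (Pi.single i 1)
  rw [← hx, mat_mul, mat_mul, ← mulVec_mulVec, ← mulVec_mulVec, hg, torusMat_P, hP, hP, torusMat_P]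
  congr 1
  funext k
  rw [Pi.mul_apply, supp_mulVec hm, supp_mulVec hm]
  split_ifs with hk
  · rw [Finset.mul_sum]
    refine Finset.sum_congr rfl fun j hj => ?_
    have h0 : k ≠ fr.i0 := fun e => hT.1 (e ▸ hk)
    have h1 : k ≠ fr.i1 := fun e => hT.2 (e ▸ hk)
    have h0' : j ≠ fr.i0 := fun e => hT.1 (e ▸ hj)
    have h1' : j ≠ fr.i1 := fun e => hT.2 (e ▸ hj)
    simp only [Pi.mul_apply, wt, h0, h1, h0', h1', if_false]
    rw [hc j hj k hk]; ring
  · rfl

theorem Q_le_Supp (hS : fr.Away S) : fr.Q S hS ≤ Supp F q ({fr.i0, fr.i1} ∪ S) := by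
  rintro g ⟨v, hv, a, -, eg⟩
  refine mem_Supp_apply.2 fun i j h => ?_
  have hout : ∀ k, k ∉ ({fr.i0, fr.i1} ∪ S : Finset (Fin n)) → fr.e k = 0 ∧ v k = 0 := fun k hk => by
    simp only [Finset.mem_union, Finset.mem_insert, Finset.mem_singleton, not_or] at hk
    exact ⟨fr.e_of_ne hk.1.1 hk.1.2, hv k hk.2⟩
  rw [eg, TM]
  simp only [Matrix.add_apply, Matrix.sub_apply, Matrix.smul_apply, vecMulVec_apply, one_apply, smul_eq_mul]
  rcases not_and_or.1 h with h | h <;> obtain ⟨he, hv'⟩ := hout _ h <;> simp [he, hv']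

theorem Q_disj {T : Finset (Fin n)} (hS : fr.Away S) (hT : fr.Away T) {g : SU n F q} (hg : g ∈ fr.Q S hS)
    (hg' : g ∈ Supp F q T) : g = 1 := by
  obtain ⟨v, hv, a, -, eg⟩ := hg
  have h := fr.supp_f hT hg'
  rw [eg, fr.TM_f hS hv, add_assoc, add_eq_left] at h
  have hv0 : v = 0 := funext fun i => by
    by_cases hi : i ∈ S
    · have := congrFun h i
      simpa [fr.e_of_ne (fun e => hS.1 (e ▸ hi)) (fun e => hS.2 (e ▸ hi))] using this
    · exact hv i hi
  subst hv0
  have ha : a = 0 := by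
    have := congrFun h fr.i0
    simpa [fr.e_i0] using this
  exact mat_inj (by rw [eg, ha, TM_zero]; rfl)

theorem card_skew (U : UF F q) (hF : Fintype.card F = q ^ 2) : Nat.card {a : F // a + U.σ a = 0} = q := by
  classical
  have hq := CfsgLib.Classical.two_le_q hF
  let t : F →+ F := AddMonoidHom.id F + U.σ.toAddMonoidHom
  have hroot : ∀ c : F, Nat.card {a : F // a ^ q = c * a} ≤ q := by
    intro c
    set P : Polynomial F := Polynomial.X ^ q - Polynomial.C c * Polynomial.X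
    have hdeg : (Polynomial.C c * Polynomial.X).degree < (q : WithBot ℕ) :=
      lt_of_le_of_lt (Polynomial.degree_C_mul_X_le c) (by exact_mod_cast hq)
    have hP : P.degree = q := by
      rw [Polynomial.degree_sub_eq_left_of_degree_lt (by rw [Polynomial.degree_X_pow]; exact hdeg),
        Polynomial.degree_X_pow]
    have hP0 : P ≠ 0 := fun e => by simp [e] at hP
    rw [Nat.card_eq_fintype_card, Fintype.card_subtype]
    refine (Finset.card_le_card (t := P.roots.toFinset) fun a ha => ?_).trans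
      ((Multiset.toFinset_card_le _).trans ((Polynomial.card_roots' P).trans
        (Polynomial.natDegree_eq_of_degree_eq_some hP).le))
    rw [Finset.mem_filter] at ha
    rw [Multiset.mem_toFinset, Polynomial.mem_roots hP0, Polynomial.IsRoot.def]
    simp [P, ha.2]
  have hker : Nat.card t.ker = Nat.card {a : F // a + U.σ a = 0} :=
    Nat.card_congr (Equiv.subtypeEquivRight fun a => Iff.rfl)
  have h1 : Nat.card {a : F // a + U.σ a = 0} ≤ q :=
    le_trans (le_of_eq (Nat.card_congr (Equiv.subtypeEquivRight fun a => by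
      rw [U.hσ, neg_one_mul, ← add_eq_zero_iff_eq_neg', add_comm]))) (hroot (-1))
  have h2 : Nat.card t.range ≤ q := le_trans (Nat.card_le_card_of_injective
    (fun x : t.range => (⟨x.1, by
      obtain ⟨a, ha⟩ := x.2
      rw [one_mul, ← U.hσ, ← ha]
      show U.σ (a + U.σ a) = a + U.σ a
      rw [map_add, U.hσσ, add_comm]⟩ : {a : F // a ^ q = 1 * a}))
    fun x y h => Subtype.ext (congrArg (fun z : {a : F // a ^ q = 1 * a} => z.1) h)) (hroot 1)
  have h3 := t.ker.card_eq_card_quotient_mul_card_addSubgroup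
  rw [Nat.card_congr (QuotientAddGroup.quotientKerEquivRange t).toEquiv, Nat.card_eq_fintype_card, hF, hker] at h3
  rcases h1.lt_or_eq with h | h
  · exfalso; nlinarith
  · exact h

theorem card_Q (hF : Fintype.card F = q ^ 2) (hS : fr.Away S) :
    Nat.card (fr.Q S hS) = q ^ (2 * S.card + 1) := by
  classical
  choose a0 ha0 using exists_value (n := n) U
  let ψ : coords F S × {a : F // a + U.σ a = 0} → fr.Q S hS := fun x =>
    ⟨fr.tEl hS x.1.2 (a := a0 x.1.1 + x.2.1) (by
      rw [map_add]; linear_combination ha0 x.1.1 + x.2.2), fr.tEl_mem hS _ _⟩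
  have hψ : Function.Bijective ψ := by
    refine ⟨fun x y h => ?_, fun g => ?_⟩
    · have h' : fr.TM x.1.1 (a0 x.1.1 + x.2.1) = fr.TM y.1.1 (a0 y.1.1 + y.2.1) :=
        congrArg (fun g : fr.Q S hS => mat g.1) h
      have h2 := congrArg (fun M => hf q (M *ᵥ fr.f) fr.f) h'
      have h3 : x.1 = y.1 := Subtype.ext (by
        rw [← fr.pr_TM hS x.1.2 (g := (ψ x).1) rfl, h, fr.pr_TM hS y.1.2 (g := (ψ y).1) rfl])
      simp only [fr.TM_f hS x.1.2, fr.TM_f hS y.1.2, U.add_l, U.smul_l, fr.hf_ff, fr.hf_ef,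
        fr.perp_f hS x.1.2, fr.perp_f hS y.1.2, zero_add, add_zero, mul_one, h3, add_right_inj] at h2
      exact Prod.ext h3 (Subtype.ext h2)
    · obtain ⟨v, hv, a, ha, eg⟩ := g.2
      refine ⟨(⟨v, hv⟩, ⟨a - a0 v, by rw [map_sub]; linear_combination ha - ha0 v⟩), Subtype.ext (mat_inj ?_)⟩
      show fr.TM v (a0 v + (a - a0 v)) = mat g.1
      rw [eg, add_sub_cancel]
  rw [← Nat.card_congr (Equiv.ofBijective ψ hψ), Nat.card_prod, card_skew U hF]
  let ε : coords F S ≃ (S → F) :=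
    { toFun := fun v i => v.1 i
      invFun := fun v => ⟨fun i => if h : i ∈ S then v ⟨i, h⟩ else 0, fun i hi => dif_neg hi⟩
      left_inv := fun v => Subtype.ext (funext fun i => by
        by_cases h : i ∈ S
        · exact dif_pos h
        · exact (dif_neg h).trans (v.2 i h).symm)
      right_inv := fun v => funext fun i => dif_pos i.2 }
  rw [Nat.card_congr ε, Nat.card_fun, Nat.card_eq_fintype_card, hF, Nat.card_eq_fintype_card, Fintype.card_coe,
    pow_succ q (2 * S.card), pow_mul]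

end Frame

end CfsgLib.Known.SULift
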