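import Cfsg.Agent.Lib.Known.SULift.Embed
import Cfsg.Agent.Lib.Classical.UnitaryPSU
import Cfsg.Agent.Lib.Classical.SU2
import Cfsg.Agent.Lib.Classical.SLBasic

/-!
# Special unitary groups have no quotient groups of order prime to the characteristic
-/

set_option autoImplicit false
set_option linter.unusedSectionVars false

namespace CfsgLib.Known.SULift

open Matrix Cfsg CfsgLib.Chev.CT.Phan
open scoped commutatorElement

universe u w

/-- A group generated by elements of order dividing `p ^ a`. -/
theorem perp_of_gens {S : Type u} [Group S] {ℓ p : ℕ} (hℓ : ℓ.Prime) (hp : p.Prime) (hne : ℓ ≠ p) {T : Set S}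
    (hT : Subgroup.closure T = ⊤) (h : ∀ t ∈ T, ∃ a, t ^ p ^ a = 1) : Perp.{u, w} ℓ S := by
  intro A _ f x k e
  have key : ∀ y : S, ∃ a, f y ^ p ^ a = 1 := fun y => by
    refine Subgroup.closure_induction (p := fun y _ => ∃ a, f y ^ p ^ a = 1) ?_ ?_ ?_ ?_
      (hT ▸ Subgroup.mem_top y)
    · exact fun t ht => (h t ht).imp fun a ha => by rw [← map_pow, ha, map_one]
    · exact ⟨0, by simp⟩
    · rintro a b - - ⟨i, hi⟩ ⟨j, hj⟩
      refine ⟨i + j, ?_⟩
      rw [map_mul, mul_pow, pow_add, pow_mul, hi, one_pow, one_mul, mul_comm, pow_mul, hj, one_pow]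
    · rintro a - ⟨i, hi⟩
      exact ⟨i, by rw [map_inv, inv_pow, hi, inv_one]⟩
  obtain ⟨a, ha⟩ := key x
  exact eq_one_of_pow hℓ (fun hd => hne ((Nat.prime_dvd_prime_iff_eq hℓ hp).1 (hℓ.dvd_of_dvd_pow hd))) e ha

/-- The transvection matrices have order the characteristic. -/
theorem one_add_pow {F : Type u} [Field F] {m p : ℕ} [CharP F p] (N : Matrix (Fin m) (Fin m) F)
    (hN : N * N = 0) : (1 + N) ^ p = 1 := by
  have h : ∀ k : ℕ, (1 + N) ^ k = 1 + (k : F) • N := by
    intro k
    induction k with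
    | zero => simp
    | succ k ih =>
      rw [pow_succ, ih, Matrix.add_mul, one_mul, Matrix.smul_mul, Matrix.mul_add, mul_one, hN, add_zero,
        add_assoc, Nat.cast_succ, add_smul, one_smul, add_comm N]
  rw [h, CharP.cast_eq_zero, zero_smul, add_zero]

variable {F : Type u} [Field F] [Fintype F] {q : ℕ}

theorem perp_su_two (hF : Fintype.card F = q ^ 2) {ℓ p : ℕ} [CharP F p] (hℓ : ℓ.Prime) (hne : ℓ ≠ p) :
    Perp.{u, w} ℓ (SU 2 F q) := by
  classical
  obtain ⟨σ, hσ, -, -⟩ := CfsgLib.Classical.exists_qPow hF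
  let K : Subfield F := σ.eqLocusField (RingHom.id F)
  haveI : Fintype K := Fintype.ofFinite _
  have hK : Fintype.card K = q := by
    have hfin := CfsgLib.Classical.card_norm_one hF
    have h : Nat.card {x : F // x ^ q = x} = q := by
      have hq := CfsgLib.Classical.two_le_q hF
      have hcard : Nat.card Fˣ = (q + 1) * (q - 1) := by
        rw [Nat.card_units, Nat.card_eq_fintype_card, hF, ← Nat.sq_sub_sq, one_pow]
      have hker : Nat.card (powMonoidHom (q - 1) : Fˣ →* Fˣ).ker = q - 1 := by
        rw [IsCyclic.card_powMonoidHom_ker, hcard, Nat.gcd_eq_right (Dvd.intro_left _ rfl)]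
      let e : Option (powMonoidHom (q - 1) : Fˣ →* Fˣ).ker → {x : F // x ^ q = x} := fun o =>
        o.elim ⟨0, zero_pow (by omega)⟩ fun u => ⟨(u.1 : F), by
          have := congrArg Units.val (MonoidHom.mem_ker.1 u.2)
          simp only [powMonoidHom_apply, Units.val_pow_eq_pow_val, Units.val_one] at this
          calc (u.1 : F) ^ q = (u.1 : F) ^ (q - 1 + 1) := by rw [Nat.sub_add_cancel (by omega : 1 ≤ q)]
            _ = _ := by rw [pow_succ, this, one_mul]⟩
      have he : Function.Bijective e := by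
        refine ⟨?_, fun x => ?_⟩
        · rintro (_ | a) (_ | b) h
          · rfl
          · exact absurd (congrArg Subtype.val h).symm b.1.ne_zero
          · exact absurd (congrArg Subtype.val h) a.1.ne_zero
          · exact congrArg some (Subtype.ext (Units.ext (congrArg Subtype.val h)))
        · by_cases hx : x.1 = 0
          · exact ⟨none, Subtype.ext hx.symm⟩
          · refine ⟨some ⟨Units.mk0 x.1 hx, MonoidHom.mem_ker.2 (Units.ext (mul_right_cancel₀ hx ?_))⟩, rfl⟩
            simp only [powMonoidHom_apply, Units.val_pow_eq_pow_val, Units.val_one, Units.val_mk0, one_mul]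
            rw [← pow_succ, Nat.sub_add_cancel (by omega : 1 ≤ q)]
            exact x.2
      rw [← Nat.card_congr (Equiv.ofBijective e he), Finite.card_option, hker]
      omega
    rw [← Nat.card_eq_fintype_card, ← h]
    refine Nat.card_congr (Equiv.subtypeEquivRight fun x => ?_)
    show σ x = x ↔ _
    rw [hσ]
  obtain ⟨e⟩ := CfsgLib.Classical.su_two_equiv_sl_two hF hK
  haveI : CharP K p := (RingHom.charP_iff_charP K.subtype p).2 inferInstance
  haveI : Fact p.Prime := ⟨CharP.char_is_prime F p⟩
  refine perp_mulEquiv (perp_of_gens hℓ (Fact.out : p.Prime) hne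
    (T := {M | ∃ (i j : Fin 2) (h : i ≠ j) (c : K), M = Matrix.SpecialLinearGroup.transvection h c}) ?_ ?_)
    e.symm.toMonoidHom e.symm.surjective
  · exact CfsgLib.Classical.SL_le_of_transvections _ fun i j h c => Subgroup.subset_closure ⟨i, j, h, c, rfl⟩
  · rintro _ ⟨i, j, h, c, rfl⟩
    refine ⟨1, Subtype.ext ?_⟩
    rw [pow_one, Matrix.SpecialLinearGroup.coe_pow, Matrix.SpecialLinearGroup.coe_one]
    show (1 + Matrix.single i j c) ^ p = 1
    exact one_add_pow _ (by simp [Matrix.single_mul_single_of_ne, h.symm])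

/-- Away from `SU 3` over four elements. -/
theorem perp_su_gen (hF : Fintype.card F = q ^ 2) {ℓ p : ℕ} [CharP F p] (hℓ : ℓ.Prime) (hne : ℓ ≠ p) {m : ℕ}
    (hm : 3 ≤ m) (h32 : ¬(m = 3 ∧ q = 2)) : Perp.{u, w} ℓ (SU m F q) := by
  obtain ⟨U⟩ := UF.of_card (F := F) hF
  haveI : Fact p.Prime := ⟨CharP.char_is_prime F p⟩
  refine perp_of_gens hℓ (Fact.out : p.Prime) hne (CfsgLib.Classical.Unitary.su_closure_transvections hF hm h32) ?_
  rintro A ⟨v, c, hv, hA⟩
  refine ⟨1, Subtype.ext (Subtype.ext ?_)⟩
  rw [pow_one]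
  show ((A : SpecialLinearGroup (Fin m) F) : Matrix (Fin m) (Fin m) F) ^ p = 1
  rw [hA]
  refine one_add_pow _ ?_
  rw [Matrix.smul_mul, Matrix.mul_smul, Matrix.vecMulVec_mul_vecMulVec]
  have h0 : (fun j => v j ^ q) ⬝ᵥ v = 0 := by
    rw [dotProduct_comm]; exact hv
  simp [h0]

/-- `SU 3` over four elements. -/
theorem perp_su_three_two (hF : Fintype.card F = 2 ^ 2) {ℓ : ℕ} (hℓ : ℓ.Prime) (hne : ℓ ≠ 2) :
    Perp.{u, w} ℓ (SU 3 F 2) := by
  classical
  obtain ⟨U⟩ := UF.of_card (F := F) hF
  have hcard : Nat.card (SU 3 F 2) = 216 := by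
    have h := CfsgLib.Classical.card_su (n := 3) hF (by norm_num)
    simp only [CfsgLib.Classical.unitaryOrder, Finset.prod_range_succ, Finset.prod_range_zero,
      show Even 0 from ⟨0, rfl⟩, show ¬Even 1 from by decide, show Even 2 from ⟨1, rfl⟩, if_true,
      if_false] at h
    omega
  have h2 : (2 : F) = 0 := by
    have := Nat.cast_card_eq_zero F
    rw [hF] at this
    have h4 : (2 : F) ^ 2 = 0 := by rw [← this]; norm_num
    exact eq_zero_of_pow_eq_zero h4
  obtain ⟨ω, hω1, hω⟩ : ∃ ω : F, ω ≠ 1 ∧ ω ^ 3 = 1 := by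
    obtain ⟨a, ha⟩ := IsCyclic.exists_ofOrder_eq_natCard (α := Fˣ)
    rw [Nat.card_units, Nat.card_eq_fintype_card, hF] at ha
    refine ⟨a, fun e => ?_, ?_⟩
    swap
    · rw [← Units.val_pow_eq_pow_val, show (3 : ℕ) = orderOf a by rw [ha]; norm_num, pow_orderOf_eq_one,
        Units.val_one]
    rw [show a = 1 from Units.ext e, orderOf_one] at ha
    norm_num at ha
  have hnm : ∀ k : ℕ, ω ^ k * U.σ (ω ^ k) = 1 := fun k => by
    rw [U.hσ, ← pow_succ', ← pow_mul, mul_comm, pow_mul, hω, one_pow]
  have hsign : ∀ π : Equiv.Perm (Fin 3), ((Equiv.Perm.sign π : ℤ) : F) = 1 := fun π => by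
    rcases Int.units_eq_one_or (Equiv.Perm.sign π) with h | h <;> rw [h]
    · simp
    · push_cast; linear_combination -h2
  intro A _ f x k e
  -- commutators of monomial elements
  let P : Equiv.Perm (Fin 3) → SU 3 F 2 := fun π => mono U π (fun _ => 1) (fun _ => by simp) (by simp [hsign])
  let D : Fin 3 → Fin 3 → SU 3 F 2 := fun i j => if h : i = j then 1 else
    dg U (fun r => if r = i then ω else if r = j then ω ^ 2 else 1)
      (fun r => by
        split_ifs
        · simpa using hnm 1
        · exact hnm 2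
        · simp)
      (by
        rw [Fin.prod_univ_three]
        fin_cases i <;> fin_cases j <;> simp at h ⊢ <;> linear_combination hω)
  have hcomm : ∀ a b : SU 3 F 2, f (a * b * a⁻¹ * b⁻¹) = 1 := fun a b => by
    simp only [map_mul, map_inv]; rw [mul_comm (f a), mul_inv_cancel_right, mul_inv_cancel]
  have hconjD : ∀ (π : Equiv.Perm (Fin 3)) (u : Fin 3 → F) (hu : ∀ r, u r * U.σ (u r) = 1) (h : ∏ r, u r = 1),
      f (dg U u hu h) = f (dg U (u ∘ π) (fun r => hu _) (by rw [← h]; exact Equiv.prod_comp π u)) := by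
    intro π u hu h
    have e' : P π * dg U u hu h = dg U (u ∘ π) (fun r => hu _) (by rw [← h]; exact Equiv.prod_comp π u) * P π := by
      refine mat_inj ?_
      rw [mat_mul, mat_mul, mat_dg, mat_dg, mat_mono]
      ext i j
      simp only [mul_diagonal, diagonal_mul, monoMat, of_apply, Function.comp_apply]
      split_ifs with hh
      · subst hh; ring
      · ring
    have := congrArg f e'
    rw [map_mul, map_mul, mul_comm (f (P π))] at this
    exact mul_right_cancel this
  -- the diagonal elements of the form `(t, t², 1)` are in the kernel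
  have hD : ∀ i j, i ≠ j → f (D i j) = 1 := by
    have hP : ∀ i j : Fin 3, i ≠ j → ∀ k, k ≠ i → k ≠ j → f (D i j) = f (D j i) := by
      intro i j hij k hki hkj
      simp only [D, dif_neg hij, dif_neg hij.symm]
      rw [hconjD (Equiv.swap i j)]
      congr 1
      refine mat_inj ?_
      rw [mat_dg, mat_dg]
      congr 1
      funext r
      simp only [Function.comp_apply, Equiv.swap_apply_def]
      by_cases hri : r = i
      · subst hri; simp [hij, hij.symm]
      · by_cases hrj : r = j
        · subst hrj; simp [hri]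
        · simp [hri, hrj]
    intro i j hij
    obtain ⟨k, hki, hkj⟩ : ∃ k : Fin 3, k ≠ i ∧ k ≠ j := by fin_cases i <;> fin_cases j <;> simp_all <;> decide
    have hinv : D i j * D j i = 1 := by
      simp only [D, dif_neg hij, dif_neg hij.symm]
      rw [dg_mul]
      refine mat_inj ?_
      rw [mat_dg, mat_one, ← diagonal_one]
      congr 1
      funext r
      simp only [Pi.mul_apply]
      by_cases hri : r = i
      · subst hri; simp [hij]; linear_combination hω
      · by_cases hrj : r = j
        · subst hrj; simp [hri]; linear_combination hω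
        · simp [hri, hrj]
    have hsq : f (D i j) * f (D i j) = 1 := by
      conv_lhs => arg 2; rw [hP i j hij k hki hkj]
      rw [← map_mul, hinv, map_one]
    have hcube : f (D i j) * f (D i j) * f (D i j) = 1 := by
      rw [← map_mul, ← map_mul, show D i j * D i j * D i j = 1 from ?_, map_one]
      simp only [D, dif_neg hij, dg_mul]
      refine mat_inj ?_
      rw [mat_dg, mat_one, ← diagonal_one]
      congr 1
      funext r
      simp only [Pi.mul_apply]
      split_ifs
      · linear_combination hω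
      · linear_combination (ω ^ 3 + 1) * hω
      · ring
    rwa [hsq, one_mul] at hcube
  let c3 : Equiv.Perm (Fin 3) := Equiv.swap 0 1 * Equiv.swap 1 2
  have hc : f (P c3) = 1 := by
    have key : P c3 = (P (Equiv.swap 0 1)) * (P (Equiv.swap 1 2)) * (P (Equiv.swap 0 1))⁻¹ *
        (P (Equiv.swap 1 2))⁻¹ := by
      rw [eq_mul_inv_iff_mul_eq, eq_mul_inv_iff_mul_eq]
      refine mat_inj ?_
      simp only [mat_mul, P, mat_mono]
      ext i j
      simp only [mul_apply, monoMat, of_apply, Fin.sum_univ_three]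
      fin_cases i <;> fin_cases j <;> simp [c3, Equiv.swap_apply_def]
    rw [key]; exact hcomm _ _
  have hc3 : P c3 ^ 3 = 1 := by
    refine mat_inj ?_
    simp only [pow_succ, pow_zero, one_mul, mat_mul, mat_one, P, mat_mono]
    ext i j
    simp only [mul_apply, monoMat, of_apply, Fin.sum_univ_three]
    fin_cases i <;> fin_cases j <;> simp [c3, Equiv.swap_apply_def, one_apply]
  let N : Subgroup (SU 3 F 2) := Blk F 2 (id : Fin 3 → Fin 3) ⊓ f.ker
  have hexp : ∀ g ∈ N, g ^ 3 = 1 := fun g hg => by
    have hd : mat g = diagonal fun r => mat g r r := by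
      ext i j
      by_cases h : i = j
      · subst h; simp
      · rw [diagonal_apply_ne _ h]; exact hg.1 i j h
    refine mat_inj ?_
    simp only [pow_succ, pow_zero, one_mul, mat_one, mat_mul]
    rw [hd, diagonal_mul_diagonal, diagonal_mul_diagonal, ← diagonal_one]
    congr 1
    funext r
    have e2 := mat_form g (Pi.single r 1) (Pi.single r 1)
    rw [hd] at e2
    have hu : mat g r r * U.σ (mat g r r) = 1 := by
      simpa [U.hf_eq, Pi.single_apply, mulVec_diagonal] using e2
    rw [U.hσ] at hu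
    linear_combination hu
  haveI : Fact (Nat.Prime 3) := ⟨Nat.prime_three⟩
  have hN3 : IsPGroup 3 N := fun g => ⟨1, Subtype.ext (by simpa using hexp g.1 g.2)⟩
  have hcN : Subgroup.zpowers (P c3) ≤ Subgroup.normalizer (N : Set (SU 3 F 2)) := by
    rw [Subgroup.zpowers_le, Subgroup.mem_normalizer_iff]
    have hblk : ∀ g : SU 3 F 2, g ∈ Blk F 2 (id : Fin 3 → Fin 3) ↔
        P c3 * g * (P c3)⁻¹ ∈ Blk F 2 (id : Fin 3 → Fin 3) := by
      intro g
      have key : ∀ i j, mat (P c3 * g * (P c3)⁻¹) i j = mat g (c3 i) (c3 j) := by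
        intro i j
        have e' : mat (P c3 * g * (P c3)⁻¹) * mat (P c3) = mat (P c3) * mat g := by
          rw [← mat_mul, inv_mul_cancel_right, mat_mul]
        have h1 : (mat (P c3 * g * (P c3)⁻¹) * mat (P c3)) i (c3 j) = mat (P c3 * g * (P c3)⁻¹) i j := by
          rw [mul_apply, Finset.sum_eq_single j]
          · simp [P, mat_mono, monoMat]
          · intro l _ hl
            simp [P, mat_mono, monoMat, hl]
          · simp
        rw [← h1, e', mul_apply, Finset.sum_eq_single (c3 i)]
        · simp [P, mat_mono, monoMat]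
        · intro l _ hl
          simp [P, mat_mono, monoMat, Ne.symm hl]
        · simp
      constructor
      · intro hg i j hij
        rw [key]; exact hg _ _ fun h => hij (c3.injective h)
      · intro hg i j hij
        have := key (c3.symm i) (c3.symm j)
        simp only [Equiv.apply_symm_apply] at this
        rw [← this]; exact hg _ _ fun h => hij (c3.symm.injective h)
    intro g
    constructor
    · exact fun hg => ⟨(hblk g).1 hg.1, f.normal_ker.conj_mem g hg.2 _⟩
    · exact fun hg => ⟨(hblk g).2 hg.1, by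
        have := f.normal_ker.conj_mem _ hg.2 (P c3)⁻¹
        simpa [mul_assoc] using this⟩
  have hK3 : IsPGroup 3 (Subgroup.zpowers (P c3) ⊔ N : Subgroup (SU 3 F 2)) :=
    IsPGroup.to_sup_of_normal_right' (IsPGroup.of_card (n := 1) (by
      rw [Nat.card_zpowers, pow_one]
      refine orderOf_eq_prime hc3 fun h => ?_
      have h01 := congrFun (congrFun (congrArg mat h) 0) (c3 0)
      simp [P, mat_mono, monoMat, c3, Equiv.swap_apply_def] at h01)) hN3 hcN
  have hle : Subgroup.zpowers (P c3) ⊔ N ≤ f.ker := sup_le (Subgroup.zpowers_le.2 hc) inf_le_right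
  have h9 : 9 ≤ Nat.card N := by
    have hmem : ∀ t : Fin 3 × Fin 3, D 0 1 ^ (t.1 : ℕ) * D 1 2 ^ (t.2 : ℕ) ∈ N := fun t => by
      refine mul_mem (pow_mem (Subgroup.mem_inf.2 ⟨?_, MonoidHom.mem_ker.2 (hD 0 1 (by decide))⟩) _)
        (pow_mem (Subgroup.mem_inf.2 ⟨?_, MonoidHom.mem_ker.2 (hD 1 2 (by decide))⟩) _)
      all_goals
        simp only [D, show ((0 : Fin 3) = 1) = False by simp, show ((1 : Fin 3) = 2) = False by simp, dite_false]
        exact dg_mem_blk U _ _ _ _
    have hdk : ∀ (u : Fin 3 → F) hu h (k : ℕ), mat ((dg U u hu h) ^ k : SU 3 F 2) = diagonal (u ^ k) := by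
      intro u hu h k
      induction k with
      | zero => simp [← diagonal_one]
      | succ k ih => rw [pow_succ, mat_mul, ih, mat_dg, diagonal_mul_diagonal, pow_succ u k]; rfl
    have h0 : ω ≠ 0 := fun e => by rw [e] at hω; norm_num at hω
    have h22 : ω ^ 2 ≠ 1 := fun e => hω1 (by linear_combination hω - ω * e)
    have h12 : ω ≠ ω ^ 2 := fun e => hω1 (mul_left_cancel₀ h0 (by linear_combination -e))
    have hpow : ∀ a b : Fin 3, ω ^ (a : ℕ) = ω ^ (b : ℕ) → a = b := by
      intro a b hab
      fin_cases a <;> fin_cases b <;>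
        simp [hω1, Ne.symm hω1, h22, Ne.symm h22, h12, Ne.symm h12] at hab ⊢
    have := Nat.card_le_card_of_injective (fun t => (⟨_, hmem t⟩ : N)) fun a b hab => by
      have h := congrArg (fun g : N => mat g.1) hab
      simp only [mat_mul, D, show ((0 : Fin 3) = 1) = False by simp, show ((1 : Fin 3) = 2) = False by simp,
        dite_false, hdk, diagonal_mul_diagonal] at h
      have hr := diagonal_injective h
      have e0 : a.1 = b.1 := hpow _ _ (by simpa using congrFun hr 0)
      have e1 := congrFun hr 1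
      rw [e0] at e1
      refine Prod.ext e0 (hpow _ _ (mul_left_cancel₀ (pow_ne_zero (b.1 : ℕ) (pow_ne_zero 2 h0)) ?_))
      simpa using e1
    simpa [Nat.card_prod] using this
  have h27 : 27 ∣ Nat.card f.ker := by
    obtain ⟨s, hs⟩ := IsPGroup.iff_card.1 hK3
    have hlt : Nat.card N < 3 ^ s := by
      rw [← hs]
      by_contra hcon
      have heq := Subgroup.eq_of_le_of_card_ge (le_sup_right (a := Subgroup.zpowers (P c3))) (not_lt.1 hcon)
      have hm : P c3 ∈ N := by rw [heq]; exact Subgroup.mem_sup_left (Subgroup.mem_zpowers _)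
      have := hm.1 0 (c3 0) (by decide)
      simp [P, mat_mono, monoMat] at this
    have hs3 : 3 ≤ s := by
      by_contra hs3
      have : 3 ^ s ≤ 3 ^ 2 := Nat.pow_le_pow_right (by norm_num) (by omega)
      omega
    exact (show 27 = 3 ^ 3 by norm_num) ▸ (pow_dvd_pow 3 hs3).trans (hs ▸ Subgroup.card_dvd_of_le hle)
  by_cases hl3 : ℓ = 3
  · subst hl3
    obtain ⟨d, hd⟩ := h27
    have hidx := Subgroup.index_mul_card f.ker
    rw [hcard, hd] at hidx
    have h8 : f.ker.index ∣ 8 := ⟨d, by linarith⟩
    refine eq_one_of_pow hℓ (m := 8) (by norm_num) e ?_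
    obtain ⟨t, ht⟩ := h8
    rw [ht, pow_mul, ← map_pow, MonoidHom.mem_ker.1 (Subgroup.pow_index_mem f.ker x), one_pow]
  · refine eq_one_of_pow hℓ (m := 216) ?_ e ?_
    · intro hd
      rw [show (216 : ℕ) = 2 ^ 3 * 3 ^ 3 by norm_num] at hd
      rcases hℓ.dvd_mul.1 hd with h | h
      · exact hne ((Nat.prime_dvd_prime_iff_eq hℓ Nat.prime_two).1 (hℓ.dvd_of_dvd_pow h))
      · exact hl3 ((Nat.prime_dvd_prime_iff_eq hℓ Nat.prime_three).1 (hℓ.dvd_of_dvd_pow h))
    · rw [← map_pow, ← hcard, pow_card_eq_one', map_one]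

/-- No quotient groups of order prime to the characteristic. -/
theorem perp_su (hF : Fintype.card F = q ^ 2) {ℓ p : ℕ} [CharP F p] (hℓ : ℓ.Prime) (hne : ℓ ≠ p) (m : ℕ) :
    Perp.{u, w} ℓ (SU m F q) := by
  rcases le_or_gt m 1 with hm | hm
  · intro A _ f x k _
    have : x = 1 := by
      refine mat_inj ?_
      interval_cases m
      · exact Subsingleton.elim _ _
      · ext i j
        obtain rfl : i = 0 := Subsingleton.elim _ _
        obtain rfl : j = 0 := Subsingleton.elim _ _
        have := det_mat x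
        rwa [det_fin_one] at this
    rw [this, map_one]
  rcases Nat.lt_or_ge m 3 with hm3 | hm3
  · obtain rfl : m = 2 := by omega
    exact perp_su_two hF hℓ hne
  by_cases h32 : m = 3 ∧ q = 2
  · obtain ⟨rfl, rfl⟩ := h32
    obtain rfl : p = 2 := by
      obtain ⟨k, hp, hk⟩ := FiniteField.card F p
      rw [hF] at hk
      exact (Nat.prime_dvd_prime_iff_eq hp Nat.prime_two).1 (hp.dvd_of_dvd_pow (hk ▸ dvd_pow_self p k.pos.ne'))
    exact perp_su_three_two hF hℓ hne
  · exact perp_su_gen hF hℓ hne hm3 h32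

theorem perp_Supp (hF : Fintype.card F = q ^ 2) {ℓ p : ℕ} [CharP F p] (hℓ : ℓ.Prime) (hne : ℓ ≠ p) {n : ℕ}
    (S : Finset (Fin n)) : Perp.{u, u} ℓ (Supp F q S) := by
  obtain ⟨U⟩ := UF.of_card (F := F) hF
  exact perp_mulEquiv (perp_su hF hℓ hne S.card)
    ((emb S).codRestrict (Supp F q S) fun A => range_emb U S ▸ ⟨A, rfl⟩)
    fun y => by
      obtain ⟨A, hA⟩ : y.1 ∈ (emb (F := F) (q := q) S).range := by rw [range_emb U S]; exact y.2
      exact ⟨A, Subtype.ext hA⟩

end CfsgLib.Known.SULift
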