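import Cfsg.Agent.Lib.Known.SULift.Blocks

/-!
# Conjugation of blocks by monomial elements
-/

set_option autoImplicit false
set_option linter.unusedSectionVars false

namespace CfsgLib.Known.SULift

open Matrix Cfsg CfsgLib.Chev.CT.Phan

universe u

variable {F : Type u} [Field F] [Fintype F] {q n : ℕ} {ι : Type} [DecidableEq ι] {κ : Fin n → ι}

theorem blk_entries {g : SU n F q} (hg : g ∈ Blk F q κ) {i j : Fin n} (h : κ i ≠ κ j) : mat g i j = 0 := hg i j h

/-- The product of the block determinants is one. -/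
theorem prod_bdet [Fintype ι] {g : SU n F q} (hg : g ∈ Blk F q κ) : ∏ c, bdet (col κ c) g = 1 := by
  have key : ∀ T : Finset ι, ∏ c ∈ T, bdet (col κ c) g = bdet (Finset.univ.filter fun i => κ i ∈ T) g := by
    intro T
    induction T using Finset.induction with
    | empty => simp [bdet, pMat_empty]
    | insert c T hc ih =>
      rw [Finset.prod_insert hc, ih, ← bdet_union ?_ (blk_col hg c)]
      · congr 1
        ext i
        simp [col]
      · exact Finset.disjoint_left.2 fun i hi hi' => hc (by simp [col] at hi hi'; rwa [← hi])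
  simpa [bdet_univ] using key Finset.univ

theorem bdet_inv {g : SU n F q} {S : Finset (Fin n)} (hg : BlkM S (mat g)) : bdet S g * bdet S g⁻¹ = 1 := by
  rw [← bdet_mul hg, mul_inv_cancel, bdet, mat_one, pMat_one, det_one]

/-- The block subgroup normalises the blocks. -/
theorem conj_Supp_mem [Fintype ι] {g h : SU n F q} (hg : g ∈ Blk F q κ) (c : ι)
    (hh : h ∈ Supp F q (col κ c)) : g * h * g⁻¹ ∈ Supp F q (col κ c) := by
  have hb : g * h * g⁻¹ ∈ Blk F q κ := mul_mem (mul_mem hg (Supp_col_le c hh)) (inv_mem hg)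
  set S := col κ c
  have hS := blk_col hb c
  have hd : Disjoint S Sᶜ := disjoint_compl_right
  have hSc : ∀ {x : SU n F q}, BlkM S (mat x) → BlkM Sᶜ (mat x) := fun hx i j hij =>
    hx i j fun e => hij (by simp [e])
  have hgS := blk_col hg c
  have e : pMat Sᶜ (mat (g * h * g⁻¹)) = 1 := by
    rw [mat_mul, pMat_mul (hSc (blk_col (mul_mem hg (Supp_col_le c hh)) c)), mat_mul, pMat_mul (hSc hgS),
      show pMat Sᶜ (mat h) = 1 by rw [← hh.1, pMat_pMat_disj disjoint_compl_left], mul_one,
      ← pMat_mul (hSc hgS), ← mat_mul, mul_inv_cancel, mat_one, pMat_one]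
  refine ⟨?_, hS⟩
  have := pMat_union hd hS
  rw [Finset.union_compl, pMat_univ, e, mul_one] at this
  exact this.symm

theorem normalizes_iSup [Fintype ι] {g : SU n F q} (hg : g ∈ Blk F q κ) {h : SU n F q}
    (hh : h ∈ ⨆ c, Supp F q (col κ c)) : g * h * g⁻¹ ∈ ⨆ c, Supp F q (col κ c) := by
  have hle : (⨆ c, Supp F q (col κ c)).map (MulAut.conj g).toMonoidHom ≤ ⨆ c, Supp F q (col κ c) := by
    rw [Subgroup.map_iSup]
    exact iSup_le fun c => by
      rintro _ ⟨x, hx, rfl⟩
      exact Subgroup.mem_iSup_of_mem c (conj_Supp_mem hg c hx)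
  exact hle ⟨h, hh, rfl⟩

theorem iSup_Supp_le_Blk : ⨆ c, Supp F q (col κ c) ≤ Blk F q κ := iSup_le fun c => Supp_col_le c

theorem bdet_iSup [Fintype ι] {g : SU n F q} (hg : g ∈ ⨆ c, Supp F q (col κ c)) (d : ι) :
    bdet (col κ d) g = 1 := by
  let T : Subgroup (SU n F q) :=
    { carrier := {g | g ∈ Blk F q κ ∧ bdet (col κ d) g = 1}
      one_mem' := ⟨one_mem _, by rw [bdet, mat_one, pMat_one, det_one]⟩
      mul_mem' := fun {a b} ha hb => ⟨mul_mem ha.1 hb.1, by rw [bdet_mul (blk_col ha.1 d), ha.2, hb.2, mul_one]⟩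
      inv_mem' := fun {a} ha => ⟨inv_mem ha.1, by
        have := bdet_inv (blk_col ha.1 d)
        rwa [ha.2, one_mul] at this⟩ }
  refine (show (⨆ c, Supp F q (col κ c)) ≤ T from iSup_le fun c x hx => ⟨Supp_col_le c hx, ?_⟩) hg |>.2
  by_cases h : d = c
  · subst h; exact bdet_Supp_self hx
  · exact bdet_Supp_disj (col_disjoint h) hx

theorem commutator_blk_le [Fintype ι] (U : UF F q) :
    ⁅Blk F q κ, Blk F q κ⁆ ≤ ⨆ c, Supp F q (col κ c) := by
  rw [Subgroup.commutator_le]
  intro a ha b hb
  refine mem_iSup_Supp U (by rw [commutatorElement_def]; exact mul_mem (mul_mem (mul_mem ha hb) (inv_mem ha)) (inv_mem hb))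
    fun c => ?_
  rw [commutatorElement_def, bdet_mul (blk_col (mul_mem (mul_mem ha hb) (inv_mem ha)) c),
    bdet_mul (blk_col (mul_mem ha hb) c), bdet_mul (blk_col ha c)]
  linear_combination (bdet (col κ c) b * bdet (col κ c) b⁻¹) * bdet_inv (blk_col ha c) + bdet_inv (blk_col hb c)

variable (U : UF F q) {π : Equiv.Perm (Fin n)} {u : Fin n → F} (hu : ∀ i, u i * U.σ (u i) = 1)
  (hdet : ((Equiv.Perm.sign π : ℤ) : F) * ∏ i, u i = 1)

/-- The entries of a conjugate by a monomial element. -/
theorem conj_mono_entry (g : SU n F q) (i j : Fin n) :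
    mat (mono U π u hu hdet * g * (mono U π u hu hdet)⁻¹) i j * u j = u i * mat g (π i) (π j) := by
  set c := mono U π u hu hdet
  have e : mat (c * g * c⁻¹) * mat c = mat c * mat g := by rw [← mat_mul, inv_mul_cancel_right, mat_mul]
  have h := congrFun (congrFun e i) (π j)
  rw [mul_apply, mul_apply, Finset.sum_eq_single j, Finset.sum_eq_single (π i)] at h
  · simpa [c, mat_mono, monoMat] using h
  · intro l _ hl; simp [c, mat_mono, monoMat, Ne.symm hl]
  · simp
  · intro l _ hl; simp [c, mat_mono, monoMat, hl]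
  · simp

theorem u_ne (hu : ∀ i, u i * U.σ (u i) = 1) (i : Fin n) : u i ≠ 0 := fun e => by simpa [e] using hu i

theorem blk_conj_mono (hπ : ∀ i j, κ (π i) = κ (π j) ↔ κ i = κ j) (g : SU n F q) :
    mono U π u hu hdet * g * (mono U π u hu hdet)⁻¹ ∈ Blk F q κ ↔ g ∈ Blk F q κ := by
  constructor
  · intro h i j hij
    obtain ⟨i, rfl⟩ := π.surjective i
    obtain ⟨j, rfl⟩ := π.surjective j
    have e := conj_mono_entry U hu hdet g i j
    rw [h i j fun e => hij ((hπ i j).2 e), zero_mul] at e
    exact (mul_eq_zero.1 e.symm).resolve_left (u_ne U hu i)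
  · intro h i j hij
    have e := conj_mono_entry U hu hdet g i j
    rw [h (π i) (π j) fun e => hij ((hπ i j).1 e), mul_zero] at e
    exact (mul_eq_zero.1 e).resolve_right (u_ne U hu j)

/-- The block determinants of a conjugate. -/
theorem bdet_conj_mono {S T : Finset (Fin n)} (hST : ∀ i, i ∈ S ↔ π i ∈ T) (g : SU n F q) :
    bdet S (mono U π u hu hdet * g * (mono U π u hu hdet)⁻¹) = bdet T g := by
  set c := mono U π u hu hdet
  have e : pMat S (mat (c * g * c⁻¹)) * monoMat π u = monoMat π u * pMat T (mat g) := by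
    ext i k
    obtain ⟨j, rfl⟩ := π.surjective k
    rw [mul_apply, mul_apply, Finset.sum_eq_single j, Finset.sum_eq_single (π i)]
    · simp only [monoMat, of_apply, if_true, pMat, ← hST]
      by_cases h : i ∈ S ∧ j ∈ S
      · simp only [h, and_self, if_true]
        exact conj_mono_entry U hu hdet g i j
      · simp only [h, if_false]
        by_cases hij : i = j
        · simp [hij]
        · simp [hij]
    · intro l _ hl; simp [monoMat, Ne.symm hl]
    · simp
    · intro l _ hl; simp [monoMat, hl]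
    · simp
  have hne : (monoMat π u).det ≠ 0 := by rw [det_monoMat, hdet]; exact one_ne_zero
  have := congrArg Matrix.det e
  rw [det_mul, det_mul, mul_comm (monoMat π u).det] at this
  exact mul_right_cancel₀ hne this

/-- A diagonal element constant on `S` commutes with the elements supported on `S`. -/
theorem dg_commute_Supp {S : Finset (Fin n)} (v : Fin n → F) (hv : ∀ i, v i * U.σ (v i) = 1) (h1 : ∏ i, v i = 1)
    (hS : ∀ i ∈ S, ∀ j ∈ S, v i = v j) {x : SU n F q} (hx : x ∈ Supp F q S) :
    x * dg U v hv h1 = dg U v hv h1 * x := by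
  refine mat_inj ?_
  rw [mat_mul, mat_mul, mat_dg]
  ext i j
  rw [mul_diagonal, diagonal_mul]
  by_cases h : i ∈ S ∧ j ∈ S
  · rw [hS j h.2 i h.1]; ring
  · rw [mem_Supp_apply.1 hx i j h]
    split_ifs with e
    · rw [e]; ring
    · ring

end CfsgLib.Known.SULift
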