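import Cfsg.Agent.Lib.Known.SULift.Gens
import Cfsg.Agent.Lib.Known.SULift.Arith
import Cfsg.Agent.Lib.Known.SULift.Monomial
import Cfsg.Agent.Lib.Classical.HermBilin

/-!
# Multipliers of special unitary groups away from the characteristic

By induction on the degree: the prime part of the multiplier is killed by the stabiliser of a decomposition,
of a monomial decomposition, or by Sylow subgroups with a single subgroup of prime order.
-/

set_option autoImplicit false
set_option linter.unusedSectionVars false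

namespace CfsgLib.Known.SULift

open Matrix Cfsg CfsgLib.Chev.CT.Phan Subgroup
open scoped commutatorElement Pointwise
open Fin.NatCast

universe u

theorem card_sup_dvd {G : Type u} [Group G] {N K H : Subgroup G} (hn : ∀ k ∈ K, ∀ x ∈ N, k * x * k⁻¹ ∈ N)
    (hd : ∀ g ∈ K, g ∈ N → g = 1) (hN : N ≤ H) (hK : K ≤ H) : Nat.card K * Nat.card N ∣ Nat.card H := by
  have hle : K ≤ normalizer (N : Set G) := fun k hk => mem_normalizer_iff.2 fun x => ⟨hn k hk x, fun h => by
    have := hn k⁻¹ (inv_mem hk) _ h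
    rwa [inv_inv, mul_assoc k x, inv_mul_cancel_left, inv_mul_cancel_right] at this⟩
  have hc : Nat.card K * Nat.card N = Nat.card ↥(K ⊔ N) := by
    rw [← Nat.card_prod]
    refine Nat.card_congr (Equiv.ofBijective
      (fun p => (⟨p.1.1 * p.2.1, mul_mem (mem_sup_left p.1.2) (mem_sup_right p.2.2)⟩ : ↥(K ⊔ N))) ⟨?_, ?_⟩)
    · rintro ⟨a, b⟩ ⟨a', b'⟩ h
      have h' : a.1 * b.1 = a'.1 * b'.1 := congrArg Subtype.val h
      have e : a'.1⁻¹ * a.1 = b'.1 * b.1⁻¹ := by
        rw [eq_mul_inv_iff_mul_eq, mul_assoc, h', inv_mul_cancel_left]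
      have h1 := hd _ (mul_mem (inv_mem a'.2) a.2) (e ▸ mul_mem b'.2 (inv_mem b.2))
      have ha : a = a' := Subtype.ext (inv_mul_eq_one.1 h1).symm
      subst ha
      exact Prod.ext rfl (Subtype.ext (mul_left_cancel h'))
    · rintro ⟨g, hg⟩
      have hg' : g ∈ (↑(K ⊔ N) : Set G) := hg
      rw [coe_mul_of_left_le_normalizer_right _ _ hle] at hg'
      obtain ⟨a, ha, b, hb, e⟩ := hg'
      exact ⟨(⟨a, ha⟩, ⟨b, hb⟩), Subtype.ext e⟩
  rw [hc]
  exact card_dvd_of_le (sup_le hK hN)

variable {F : Type u} [Field F] [Fintype F] {q : ℕ}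

/-- The exponent of `ℓ` in the order of the special unitary group. -/
theorem factorization_card_su (hF : Fintype.card F = q ^ 2) {ℓ : ℕ} (hℓ : ℓ.Prime) (hnd : ¬ ℓ ∣ q) {m : ℕ}
    (hm : 1 ≤ m) : (q + 1).factorization ℓ + (Nat.card (SU m F q)).factorization ℓ = vGU ℓ q m := by
  rw [← factorization_unitaryOrder hℓ (CfsgLib.Classical.two_le_q hF) hnd, ← CfsgLib.Classical.card_su hF hm,
    Nat.factorization_mul (by omega) Nat.card_pos.ne', Finsupp.add_apply]

theorem not_dvd_index {G : Type u} [Group G] [Finite G] {ℓ : ℕ} (hℓ : ℓ.Prime) {H : Subgroup G}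
    (h : (Nat.card G).factorization ℓ ≤ (Nat.card H).factorization ℓ) : ¬ ℓ ∣ H.index := by
  intro hd
  have e := H.index_mul_card
  have := (hℓ.dvd_iff_one_le_factorization H.index_ne_zero_of_finite).1 hd
  rw [← e, Nat.factorization_mul H.index_ne_zero_of_finite Nat.card_pos.ne', Finsupp.add_apply] at h
  omega

theorem le_factorization {a b ℓ : ℕ} (h : a ∣ b) (hb : b ≠ 0) : a.factorization ℓ ≤ b.factorization ℓ :=
  (Nat.factorization_le_iff_dvd (ne_zero_of_dvd_ne_zero hb h) hb).2 h ℓ

/-- A generator of the elements of norm one. -/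
theorem exists_zeta (hF : Fintype.card F = q ^ 2) (U : UF F q) :
    ∃ ζ : Fˣ, orderOf ζ = q + 1 ∧ (ζ : F) * U.σ ζ = 1 ∧ ∀ x : F, x * U.σ x = 1 → ∃ k : ℕ, x = (ζ : F) ^ k := by
  classical
  obtain ⟨g, hg⟩ := IsCyclic.exists_ofOrder_eq_natCard (α := Fˣ)
  have hq := CfsgLib.Classical.two_le_q hF
  have hN : Nat.card Fˣ = (q - 1) * (q + 1) := by
    rw [Nat.card_units, Nat.card_eq_fintype_card, hF, mul_comm, ← Nat.sq_sub_sq, one_pow]
  have hord : orderOf (g ^ (q - 1)) = q + 1 := by
    rw [orderOf_pow_of_dvd (by omega) (hg ▸ hN ▸ dvd_mul_right _ _), hg, hN, Nat.mul_div_cancel_left _ (by omega)]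
  refine ⟨g ^ (q - 1), hord, ?_, fun x hx => ?_⟩
  · rw [U.hσ, ← pow_succ', ← Units.val_pow_eq_pow_val, ← hord, pow_orderOf_eq_one, Units.val_one]
  · have hx0 : x ≠ 0 := fun e => by simp [e] at hx
    rw [U.hσ, ← pow_succ'] at hx
    have hmem : Units.mk0 x hx0 ∈ (powMonoidHom (q + 1) : Fˣ →* Fˣ).ker :=
      MonoidHom.mem_ker.2 (Units.ext (by simpa using hx))
    have heq : zpowers (g ^ (q - 1)) = (powMonoidHom (q + 1) : Fˣ →* Fˣ).ker := by
      refine eq_of_le_of_card_ge (zpowers_le.2 (MonoidHom.mem_ker.2 ?_)) ?_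
      · rw [powMonoidHom_apply, ← hord, pow_orderOf_eq_one]
      · rw [Nat.card_zpowers, hord, IsCyclic.card_powMonoidHom_ker, hN, Nat.gcd_eq_right (Dvd.intro_left _ rfl)]
    rw [← heq] at hmem
    obtain ⟨k, -, hk⟩ := (mem_zpowers_iff_mem_range_orderOf).1 hmem |> Finset.mem_image.1
    exact ⟨k, by rw [← Units.val_pow_eq_pow_val, hk, Units.val_mk0]⟩

variable {n : ℕ}

/-- The colouring of a decomposition in two. -/
def two (n a : ℕ) : Fin n → Bool := fun i => decide ((i : ℕ) < a)

theorem card_col_two (n : ℕ) {a : ℕ} (ha : a ≤ n) :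
    (col (two n a) true).card = a ∧ (col (two n a) false).card = n - a := by
  have h : (col (two n a) true).card = a := by
    rw [show col (two n a) true = (Finset.univ : Finset (Fin a)).map
      ⟨Fin.castLE ha, Fin.castLE_injective ha⟩ from ?_]
    · simp
    · ext i
      simp only [col, two, Finset.mem_filter, Finset.mem_univ, true_and, decide_eq_true_eq, Finset.mem_map,
        Function.Embedding.coeFn_mk]
      exact ⟨fun hi => ⟨⟨i, hi⟩, Fin.ext rfl⟩, by rintro ⟨j, rfl⟩; exact j.2⟩
  refine ⟨h, ?_⟩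
  rw [show col (two n a) false = (col (two n a) true)ᶜ by ext i; simp [col], Finset.card_compl,
    Fintype.card_fin, h]

variable {E : Type u} [Group E] [Finite E] {σ : E →* SU n F q}

theorem free_Supp (hσ : Function.Surjective σ) (hc : σ.ker ≤ center E) {ℓ : ℕ} (hk : IsPGroup ℓ σ.ker)
    (U : UF F q) (S : Finset (Fin n)) (hS : Univ.{u, u} ℓ (SU S.card F q)) : Free σ (Supp F q S) := by
  rw [← range_emb U S]
  exact free_range hσ hc hk hS (emb_injective S)

theorem free_two (hF : Fintype.card F = q ^ 2) {ℓ p : ℕ} [CharP F p] (hℓ : ℓ.Prime) (hne : ℓ ≠ p)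
    (hσ : Function.Surjective σ) (hc : σ.ker ≤ center E) (hk : IsPGroup ℓ σ.ker) {a : ℕ} (ha1 : 1 ≤ a)
    (han : a < n) (h1 : Univ.{u, u} ℓ (SU a F q)) (h2 : Univ.{u, u} ℓ (SU (n - a) F q)) :
    Free σ (Blk F q (two n a)) ∧
      Nat.card (SU a F q) * Nat.card (SU (n - a) F q) * (q + 1) ∣ Nat.card (Blk F q (two n a)) := by
  classical
  obtain ⟨U⟩ := UF.of_card (F := F) hF
  obtain ⟨ζ, hζo, hζn, hζ⟩ := exists_zeta hF U
  obtain ⟨c1, c2⟩ := card_col_two n han.le
  set S := col (two n a) true
  set S' := col (two n a) false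
  have hSS : Disjoint S S' := col_disjoint (by decide)
  set X := Supp F q S ⊔ Supp F q S'
  have hX : X = ⨆ c, Supp F q (col (two n a) c) := by rw [iSup_bool_eq]
  have hXfree : Free σ X := free_sup hσ hc hk (perp_Supp hF hℓ hne _) (fun x hx y hy => Supp_comm hSS hx hy)
    (fun g hg hg' => Supp_disj hSS hg hg') (free_Supp hσ hc hk U S (by rwa [c1]))
    (free_Supp hσ hc hk U S' (by rwa [c2]))
  have hXperp : Perp.{u, u} ℓ X := perp_sup hℓ (perp_Supp hF hℓ hne _) (perp_Supp hF hℓ hne _)
  set i0 : Fin n := ⟨0, by omega⟩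
  set i1 : Fin n := ⟨a, han⟩
  have h01 : i0 ≠ i1 := fun e => by simp [i0, i1] at e; omega
  set v : Fin n → F := fun i => if i = i0 then (ζ : F) else if i = i1 then ((ζ⁻¹ : Fˣ) : F) else 1
  have hv : ∀ i, v i * U.σ (v i) = 1 := fun i => by
    simp only [v]
    split_ifs
    · exact hζn
    · rw [Units.val_inv_eq_inv_val, map_inv₀, ← mul_inv, hζn, inv_one]
    · simp
  have hv1 : ∏ i, v i = 1 := by
    rw [← Finset.prod_subset (Finset.subset_univ {i0, i1}) (fun i _ hi => by
      simp only [Finset.mem_insert, Finset.mem_singleton, not_or] at hi; simp [v, hi]), Finset.prod_pair h01]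
    simp [v, h01.symm]
  set d := dg U v hv hv1
  have hdblk : d ∈ Blk F q (two n a) := dg_mem_blk U _ v hv hv1
  have hbd : bdet S d = (ζ : F) := by
    rw [bdet_dg, Finset.prod_eq_single i0]
    · simp [v]
    · intro i hi hii
      have : i ≠ i1 := fun e => by subst e; simp [S, col, two, i1] at hi
      simp [v, hii, this]
    · intro h; exact absurd (show i0 ∈ S by simp [S, col, two, i0]; omega) h
  have hbpow : ∀ k : ℕ, bdet S (d ^ k) = (ζ : F) ^ k := by
    intro k
    induction k with
    | zero => simp [bdet, pMat_one]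
    | succ k ih => rw [pow_succ, bdet_mul (blk_col (pow_mem hdblk k) true), ih, hbd, pow_succ]
  have hXblk : X ≤ Blk F q (two n a) := hX ▸ iSup_Supp_le_Blk
  have hnorm : ∀ g ∈ Blk F q (two n a), ∀ x ∈ X, g * x * g⁻¹ ∈ X := fun g hg x hx => by
    rw [hX] at hx ⊢
    exact normalizes_iSup hg hx
  constructor
  · refine free_adjoin hσ hc hk (B := X) (X := X) (c := d) (fun x hx => ⟨hnorm d hdblk x hx, by
      simpa using hnorm d⁻¹ (inv_mem hdblk) x hx⟩) hXfree le_rfl hXperp (commutator_le_self X) ?_ ?_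
    · intro g hg
      obtain ⟨k, hk'⟩ := hζ _ (bdet_norm U (blk_col hg true))
      have hm : g * (d ^ k)⁻¹ ∈ X := by
        have hmem : g * (d ^ k)⁻¹ ∈ Blk F q (two n a) := mul_mem hg (inv_mem (pow_mem hdblk k))
        have hb : bdet S (g * (d ^ k)⁻¹) = 1 := by
          rw [bdet_mul (blk_col hg true), hk', ← hbpow]
          exact bdet_inv (blk_col (pow_mem hdblk k) true)
        rw [hX]
        refine mem_iSup_Supp U hmem fun c => ?_
        have := prod_bdet hmem
        rw [Fintype.prod_bool, hb, one_mul] at this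
        cases c
        · exact this
        · exact hb
      rw [← inv_mul_cancel_right g (d ^ k)]
      exact mul_mem (mem_sup_left hm) (mem_sup_right (pow_mem (mem_zpowers d) k))
    · exact fun x hx _ => ⟨1, one_mem _, by simpa using hx, fun α β hα _ =>
        (mem_center_iff.1 (hc hα) β).symm⟩
  · have hdj : ∀ g ∈ zpowers d, g ∈ X → g = 1 := by
      intro g hg hgX
      obtain ⟨k, -, rfl⟩ := (mem_zpowers_iff_mem_range_orderOf.1 hg |> Finset.mem_image.1)
      rw [hX] at hgX
      have h := bdet_iSup hgX true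
      rw [hbpow, ← Units.val_pow_eq_pow_val, Units.val_eq_one, ← orderOf_dvd_iff_pow_eq_one, hζo] at h
      obtain ⟨t, rfl⟩ := h
      refine mat_inj ?_
      have hdk : ∀ m : ℕ, mat (d ^ m) = diagonal (v ^ m) := by
        intro m
        induction m with
        | zero => simp [← diagonal_one]
        | succ m ih => rw [pow_succ, mat_mul, ih, mat_dg, diagonal_mul_diagonal, pow_succ v m]; rfl
      rw [hdk, mat_one, ← diagonal_one]
      congr 1
      funext i
      rw [Pi.pow_apply, pow_mul, pow_succ', ← U.hσ, hv, one_pow]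
    have hdo : q + 1 ∣ orderOf d := by
      rw [← hζo, orderOf_dvd_iff_pow_eq_one, ← Units.val_eq_one, Units.val_pow_eq_pow_val, ← hbpow,
        pow_orderOf_eq_one, bdet, mat_one, pMat_one, det_one]
    have h3 := card_sup_dvd (N := X) (K := zpowers d) (H := Blk F q (two n a))
      (fun k hk' x hx => hnorm k ((zpowers_le.2 hdblk) hk') x hx) hdj hXblk (zpowers_le.2 hdblk)
    rw [Nat.card_zpowers] at h3
    have h4 : Nat.card (Supp F q S') * Nat.card (Supp F q S) ∣ Nat.card X :=
      card_sup_dvd (fun k hk' x hx => by rwa [← Supp_comm hSS hx hk', mul_inv_cancel_right])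
        (fun g hg hg' => Supp_disj hSS hg' hg) le_sup_left le_sup_right
    rw [card_Supp U, card_Supp U, c1, c2] at h4
    rw [mul_comm (Nat.card (SU a F q)), mul_comm]
    exact (Nat.mul_dvd_mul hdo h4).trans h3

theorem orderOf_fixed {x : SU n F q} {v : Fin n → F} (h : mat x *ᵥ v = v) (k : ℕ) : mat (x ^ k) *ᵥ v = v := by
  induction k with
  | zero => simp
  | succ k ih => rw [pow_succ, mat_mul, ← mulVec_mulVec, h, ih]

/-- Elements of order `ℓ` without fixed vectors sum to zero. -/
theorem geom_zero {x : SU n F q} {ℓ : ℕ} (hx : x ^ ℓ = 1) (hfix : ∀ v, mat x *ᵥ v = v → v = 0) :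
    ∑ i ∈ Finset.range ℓ, mat (x ^ i) = 0 := by
  refine Matrix.ext_of_mulVec_single fun j => ?_
  rw [zero_mulVec]
  refine hfix _ ?_
  have hs : ∀ s : Finset ℕ, ∀ v, (∑ i ∈ s, mat (x ^ i)) *ᵥ v = ∑ i ∈ s, mat (x ^ i) *ᵥ v :=
    fun s v => sum_mulVec ..
  rw [mulVec_mulVec, Finset.mul_sum]
  have e : ∑ i ∈ Finset.range ℓ, mat x * mat (x ^ i) = ∑ i ∈ Finset.range ℓ, mat (x ^ i) := by
    simp only [← mat_mul, ← pow_succ']
    have h1 := Finset.sum_range_succ (fun i => mat (x ^ i)) ℓ
    rw [Finset.sum_range_succ', hx, pow_zero] at h1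
    exact add_right_cancel h1
  rw [e]

/-- An element of order `ℓ` fixes no vector if `ℓ` does not divide the order of the smaller group. -/
theorem no_fixed (hF : Fintype.card F = q ^ 2) {ℓ p : ℕ} [CharP F p] (hℓ : ℓ.Prime) (hne : ℓ ≠ p)
    {m : ℕ} (hsmall : ¬ ℓ ∣ Nat.card (SU m F q)) {x : SU (m + 1) F q} (hx : orderOf x = ℓ)
    {v : Fin (m + 1) → F} (hv : mat x *ᵥ v = v) : v = 0 := by
  classical
  by_contra hv0
  obtain ⟨U⟩ := UF.of_card (F := F) hF
  haveI : Fact p.Prime := ⟨CharP.char_is_prime F p⟩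
  obtain ⟨j, hj⟩ := Function.ne_iff.1 hv0
  set w := ∑ i ∈ Finset.range ℓ, mat (x ^ i) *ᵥ ev F (m + 1) j
  have hw : mat x *ᵥ w = w := by
    simp only [w, mulVec_sum, mulVec_mulVec, ← mat_mul, ← pow_succ']
    have h1 := Finset.sum_range_succ (fun i => mat (x ^ i) *ᵥ ev F (m + 1) j) ℓ
    rw [Finset.sum_range_succ', show x ^ ℓ = 1 by rw [← hx, pow_orderOf_eq_one], pow_zero] at h1
    exact add_right_cancel h1
  have hvw : hf q v w ≠ 0 := by
    have : hf q v w = (ℓ : F) * v j := by
      have hsum : hf q v w = ∑ i ∈ Finset.range ℓ, hf q v (mat (x ^ i) *ᵥ ev F (m + 1) j) := by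
        simp only [w, U.hf_eq, Finset.sum_apply, map_sum, Finset.mul_sum]
        exact Finset.sum_comm
      rw [hsum, Finset.sum_congr rfl fun i _ => show hf q v (mat (x ^ i) *ᵥ ev F (m + 1) j) = v j by
        conv_lhs => rw [← orderOf_fixed hv i]
        rw [mat_form, U.ev_r _ j.isLt]]
      simp
    rw [this]
    refine mul_ne_zero ?_ (by simpa using hj)
    rw [Ne, CharP.cast_eq_zero_iff F p]
    exact fun h => hne ((Nat.prime_dvd_prime_iff_eq Fact.out hℓ).1 h).symm
  obtain ⟨e, he, he1⟩ : ∃ e, mat x *ᵥ e = e ∧ hf q e e ≠ 0 := by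
    by_cases h1 : hf q v v = 0
    swap
    · exact ⟨v, hv, h1⟩
    by_cases h2 : hf q w w = 0
    swap
    · exact ⟨w, hw, h2⟩
    obtain ⟨z, hz⟩ := U.exists_trace
    have hwv : hf q w v ≠ 0 := fun h => hvw (U.swap_eq_zero h)
    refine ⟨v + (z / hf q w v) • w, by rw [mulVec_add, mulVec_smul, hv, hw], ?_⟩
    rw [U.add_l, U.add_r, U.add_r, U.smul_l, U.smul_l, U.smul_r, U.smul_r, h1, h2, map_div₀, U.swap,
      zero_add, mul_zero, mul_zero, add_zero, div_mul_cancel₀ _ hvw, div_mul_cancel₀ _ hwv, add_comm, hz]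
    exact one_ne_zero
  obtain ⟨c, -, hc⟩ := U.exists_unit_smul he1
  have h0 : ev F (m + 1) 0 = Pi.single (0 : Fin (m + 1)) 1 := ev_fin (0 : Fin (m + 1))
  obtain ⟨g, hg⟩ := CfsgLib.Classical.exists_gu_map hF (κ := Unit) (b := fun _ => Pi.single 0 1)
    (c := fun _ => c • e) (fun _ _ => by
      have h := U.ev_self (N := m + 1) (i := 0) (by omega)
      rw [h0] at h
      simpa using h)
    (fun _ _ => by simpa using hc)
  -- conjugate into the stabiliser of a coordinate
  set M : Matrix (Fin (m + 1)) (Fin (m + 1)) F := ((g : GL (Fin (m + 1)) F) : Matrix (Fin (m + 1)) (Fin (m + 1)) F)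
  set M' : Matrix (Fin (m + 1)) (Fin (m + 1)) F := ((((g : GL (Fin (m + 1)) F))⁻¹ : GL (Fin (m + 1)) F) : Matrix (Fin (m + 1)) (Fin (m + 1)) F)
  have hMM : M' * M = 1 := Units.inv_mul _
  have hMM' : M * M' = 1 := Units.mul_inv _
  have hpres : ∀ a b, hf q (M' *ᵥ a) (M' *ᵥ b) = hf q a b := fun a b => by
    have := g.2 (M' *ᵥ a) (M' *ᵥ b)
    change hf q (M *ᵥ (M' *ᵥ a)) (M *ᵥ (M' *ᵥ b)) = _ at this
    rw [mulVec_mulVec, mulVec_mulVec, hMM', one_mulVec, one_mulVec] at this
    exact this.symm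
  let y : SU (m + 1) F q := CfsgLib.Classical.suMk (M' * mat x * M)
    (by rw [det_mul, det_mul, det_mat, mul_one, ← det_mul, hMM, det_one]) fun a b => by
      show hf q ((M' * mat x * M) *ᵥ a) ((M' * mat x * M) *ᵥ b) = hf q a b
      rw [← mulVec_mulVec, ← mulVec_mulVec, ← mulVec_mulVec, ← mulVec_mulVec, hpres, mat_form]
      exact g.2 a b
  have hy : ∀ k, mat (y ^ k) = M' * mat (x ^ k) * M := by
    intro k
    induction k with
    | zero => simp [hMM]
    | succ k ih =>
      rw [pow_succ, mat_mul, ih, pow_succ, mat_mul, show mat y = M' * mat x * M from rfl]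
      simp only [mul_assoc]
      rw [← mul_assoc M M', hMM', one_mul]
  have hyo : orderOf y = ℓ := by
    haveI := Fact.mk hℓ
    refine orderOf_eq_prime (mat_inj ?_) fun h => ?_
    · rw [hy, ← hx, pow_orderOf_eq_one, mat_one, mul_one, hMM]
    · have h1 : M' * mat x * M = 1 := congrArg mat h
      have : mat x = 1 := by
        calc mat x = M * (M' * mat x * M) * M' := by
              simp only [← mul_assoc, hMM', one_mul]; rw [mul_assoc, hMM', mul_one]
          _ = 1 := by rw [h1, mul_one, hMM']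
      exact hℓ.ne_one (hx ▸ (show x = 1 from mat_inj this) ▸ orderOf_one)
  have hfix : mat y *ᵥ Pi.single 0 1 = Pi.single 0 1 := by
    show (M' * mat x * M) *ᵥ _ = _
    have hg0 : M *ᵥ Pi.single 0 1 = c • e := hg ()
    rw [← mulVec_mulVec, ← mulVec_mulVec, hg0, mulVec_smul, he, ← hg0, mulVec_mulVec, hMM, one_mulVec]
  set S := (Finset.univ : Finset (Fin (m + 1))).erase 0
  have hyS : y ∈ Supp F q S := mem_Supp_apply.2 fun i k hik => by
    by_cases hk0 : k = 0
    · subst hk0
      have := congrFun hfix i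
      rw [mulVec_single_one] at this
      simpa [Pi.single_apply, eq_comm] using this
    · have hi0 : i = 0 := by
        by_contra hi
        exact hik ⟨Finset.mem_erase.2 ⟨hi, Finset.mem_univ i⟩, Finset.mem_erase.2 ⟨hk0, Finset.mem_univ k⟩⟩
      subst hi0
      have h2 := mat_form y (Pi.single k 1) (Pi.single 0 1)
      rw [hfix] at h2
      have e1 := U.ev_r (mat y *ᵥ Pi.single k 1) (i := 0) (by omega)
      have e2 := U.ev_r (Pi.single k 1 : Fin (m + 1) → F) (i := 0) (by omega)
      rw [h0] at e1 e2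
      rw [e1, e2, mulVec_single_one] at h2
      simpa [Ne.symm hk0] using h2
  have hd : ℓ ∣ Nat.card (Supp F q S) := by
    have := orderOf_dvd_natCard (⟨y, hyS⟩ : Supp F q S)
    rwa [← Subgroup.orderOf_coe, hyo] at this
  rw [card_Supp U, show S.card = m by simp [S]] at hd
  exact hsmall hd

theorem univ_small {ℓ : ℕ} (hn : n ≤ 1) : Univ.{u, u} ℓ (SU n F q) := by
  intro E' _ _ τ _ hτc _
  haveI : Subsingleton (SU n F q) := ⟨fun x y => by
    refine mat_inj ?_
    interval_cases n
    · exact Subsingleton.elim _ _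
    · ext i j
      obtain rfl : i = 0 := Subsingleton.elim _ _
      obtain rfl : j = 0 := Subsingleton.elim _ _
      have hx := det_mat x
      have hy := det_mat y
      rw [det_fin_one] at hx hy
      rw [hx, hy]⟩
  exact free_of_cyclic' hτc

theorem free_fpf (hF : Fintype.card F = q ^ 2) {ℓ p : ℕ} [CharP F p] (hℓ : ℓ.Prime) (hne : ℓ ≠ p)
    (hσ : Function.Surjective σ) (hc : σ.ker ≤ center E) (hk : IsPGroup ℓ σ.ker) {m : ℕ} (hn : n = m + 1)
    (hsmall : ¬ ℓ ∣ Nat.card (SU m F q)) : Free σ ⊤ := by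
  subst hn
  haveI := Fact.mk hℓ
  haveI : Fact p.Prime := ⟨CharP.char_is_prime F p⟩
  let P : Sylow ℓ (SU (m + 1) F q) := default
  refine free_top_of_index hσ hc hℓ hk (H := (P : Subgroup (SU (m + 1) F q))) P.not_dvd_index ?_
  have hzero : ∀ x : SU (m + 1) F q, orderOf x = ℓ → ∑ i ∈ Finset.range ℓ, mat (x ^ i) = 0 := fun x hx =>
    geom_zero (by rw [← hx, pow_orderOf_eq_one]) fun v hv => no_fixed hF hℓ hne hsmall hx hv
  have hℓF : (ℓ : F) ≠ 0 := by
    rw [Ne, CharP.cast_eq_zero_iff F p]
    exact fun h => hne ((Nat.prime_dvd_prime_iff_eq Fact.out hℓ).1 h).symm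
  refine free_of_unique hσ hc P.isPGroup' fun x y hx hy => ?_
  haveI : Nontrivial (P : Subgroup (SU (m + 1) F q)) :=
    ⟨x, 1, fun e => hℓ.ne_one (by rw [← hx, e, orderOf_one])⟩
  haveI := P.isPGroup'.center_nontrivial
  obtain ⟨k, hk0, hck⟩ := (P.isPGroup'.to_subgroup (center _)).nontrivial_iff_card.1 this
  obtain ⟨z, hz⟩ := exists_prime_orderOf_dvd_card' (G := center (P : Subgroup (SU (m + 1) F q))) ℓ
    (hck ▸ dvd_pow_self ℓ hk0.ne')
  set w : SU (m + 1) F q := z.1.1
  have hw : orderOf w = ℓ := by rw [Subgroup.orderOf_coe, Subgroup.orderOf_coe, hz]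
  have key : ∀ x : (P : Subgroup (SU (m + 1) F q)), orderOf x = ℓ → x ∈ zpowers z.1 := by
    intro x hx
    by_contra hxz
    have hxw : Commute x.1 w := congrArg Subtype.val (mem_center_iff.1 z.2 x)
    have hxℓ : x.1 ^ ℓ = 1 := by
      have h := pow_orderOf_eq_one x.1
      rwa [Subgroup.orderOf_coe, hx] at h
    have hwℓ : w ^ ℓ = 1 := by rw [← hw, pow_orderOf_eq_one]
    have hA : ∀ i : ℕ, orderOf (x.1 * w ^ i) = ℓ := fun i => by
      refine orderOf_eq_prime ?_ fun e => hxz ?_
      · rw [(hxw.pow_right i).mul_pow, hxℓ, one_mul, ← pow_mul, mul_comm, pow_mul, hwℓ, one_pow]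
      · have e' : x = (z.1 ^ i)⁻¹ := eq_inv_of_mul_eq_one_left (Subtype.ext (by simpa using e))
        rw [e']
        exact inv_mem (pow_mem (mem_zpowers _) i)
    have h0 : ∑ i ∈ Finset.range ℓ, ∑ j ∈ Finset.range ℓ, mat ((x.1 * w ^ i) ^ j) = 0 :=
      Finset.sum_eq_zero fun i _ => hzero _ (hA i)
    rw [Finset.sum_comm, Finset.sum_eq_single 0] at h0
    · simp only [pow_zero, mat_one, Finset.sum_const, Finset.card_range] at h0
      have h00 := congrFun (congrFun h0 0) 0
      rw [Matrix.smul_apply, one_apply_eq, Matrix.zero_apply, nsmul_one] at h00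
      exact hℓF h00
    · intro j hj hj0
      have e : ∀ i : ℕ, mat ((x.1 * w ^ i) ^ j) = mat (x.1 ^ j) * mat ((w ^ j) ^ i) := fun i => by
        rw [(hxw.pow_right i).mul_pow, mat_mul, ← pow_mul, mul_comm, pow_mul]
      simp only [e, ← Finset.mul_sum]
      rw [hzero (w ^ j) ?_, mul_zero]
      refine orderOf_eq_prime (by rw [← pow_mul, mul_comm, pow_mul, hwℓ, one_pow]) fun e => ?_
      exact Nat.not_dvd_of_pos_of_lt (Nat.pos_of_ne_zero hj0) (Finset.mem_range.1 hj)
        (hw ▸ orderOf_dvd_of_pow_eq_one e)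
    · exact fun h => absurd (Finset.mem_range.2 hℓ.pos) h
  have he : zpowers y = zpowers z.1 := eq_of_le_of_card_ge (zpowers_le.2 (key y hy)) (by
    rw [Nat.card_zpowers, Nat.card_zpowers, hy, Subgroup.orderOf_coe, hz])
  exact he.symm ▸ key x hx

theorem perp_finsetSup (hF : Fintype.card F = q ^ 2) {ℓ p : ℕ} [CharP F p] (hℓ : ℓ.Prime) (hne : ℓ ≠ p)
    {ι : Type} (f : ι → Finset (Fin n)) (T : Finset ι) : Perp.{u, u} ℓ ↥(T.sup fun c => Supp F q (f c)) := by
  classical
  induction T using Finset.induction with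
  | empty => rw [Finset.sup_empty]; exact perp_bot
  | insert c T _ ih => rw [Finset.sup_insert]; exact perp_sup hℓ (perp_Supp hF hℓ hne _) ih

/-- The stabiliser of a decomposition in `ℓ` equal parts, with a shift of the parts. -/
theorem free_wreath (hF : Fintype.card F = q ^ 2) {ℓ p : ℕ} [CharP F p] (hℓ : ℓ.Prime) (hne : ℓ ≠ p)
    (hσ : Function.Surjective σ) (hc : σ.ker ≤ center E) (hk : IsPGroup ℓ σ.ker) {m : ℕ} (hm : 1 ≤ m)
    (hn : n = ℓ * m) (hv : vGU ℓ q n = ℓ * vGU ℓ q m + 1) (hnd : ¬ ℓ ∣ q)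
    (h1 : Univ.{u, u} ℓ (SU m F q)) (h2 : Univ.{u, u} ℓ (SU (n - m) F q)) : Free σ ⊤ := by
  classical
  haveI := Fact.mk hℓ
  obtain ⟨U⟩ := UF.of_card (F := F) hF
  haveI : NeZero ℓ := ⟨hℓ.ne_zero⟩
  subst hn
  let e : Fin ℓ × Fin m ≃ Fin (ℓ * m) := finProdFinEquiv
  let κ : Fin (ℓ * m) → Fin ℓ := fun i => (e.symm i).1
  let b0 : Fin m := ⟨0, hm⟩
  let π0 : Equiv.Perm (Fin ℓ) := Equiv.addRight 1
  let π : Equiv.Perm (Fin (ℓ * m)) := e.permCongr (Equiv.prodCongrLeft fun _ : Fin m => π0)
  let π' : Equiv.Perm (Fin (ℓ * m)) :=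
    e.permCongr (Equiv.prodCongrLeft fun b : Fin m => if b = b0 then π0 else 1)
  set ε : F := ((Equiv.Perm.sign π0 : ℤ) : F) with hεdef
  let u : Fin (ℓ * m) → F := fun i => if κ i = 0 then ε else 1
  have hπe : ∀ a b, π (e (a, b)) = e (a + 1, b) := fun a b => by simp [π, π0, Equiv.permCongr_apply]
  have hκe : ∀ a b, κ (e (a, b)) = a := fun a b => by simp [κ]
  have hε : ε * ε = 1 := by
    rw [hεdef, ← Int.cast_mul, ← Units.val_mul, Int.units_mul_self, Units.val_one, Int.cast_one]
  have hεσ : U.σ ε = ε := map_intCast _ _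
  have hu : ∀ i, u i * U.σ (u i) = 1 := fun i => by
    simp only [u]; split_ifs <;> simp [hεσ, hε]
  have hprodu : ∏ i, u i = ε ^ m := by
    rw [← e.prod_comp, Fintype.prod_prod_type]
    simp only [u, hκe]
    rw [Finset.prod_eq_single (0 : Fin ℓ)]
    · simp
    · intro a _ ha; simp [ha]
    · simp
  have hsπ : ((Equiv.Perm.sign π : ℤ) : F) = ε ^ m := by
    simp only [π, Equiv.Perm.sign_permCongr, Equiv.Perm.sign_prodCongrLeft, Finset.prod_const,
      Finset.card_univ, Fintype.card_fin, Units.val_pow_eq_pow_val, Int.cast_pow, hεdef]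
  have hdet : ((Equiv.Perm.sign π : ℤ) : F) * ∏ i, u i = 1 := by
    rw [hsπ, hprodu, ← mul_pow, hε, one_pow]
  set c := mono U π u hu hdet
  have hκπ : ∀ i, κ (π i) = κ i + 1 := fun i => by
    obtain ⟨⟨a, b⟩, rfl⟩ := e.surjective i
    rw [hπe, hκe, hκe]
  have hiff : ∀ i j, κ (π i) = κ (π j) ↔ κ i = κ j := fun i j => by rw [hκπ, hκπ, add_left_inj]
  set B := Blk F q κ
  let X : Subgroup (SU (ℓ * m) F q) := ⨆ a, Supp F q (col κ a)
  have hXsup : X = Finset.univ.sup fun a => Supp F q (col κ a) := (Finset.sup_univ_eq_iSup _).symm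
  have hXP : Perp.{u, u} ℓ X := by rw [hXsup]; exact perp_finsetSup hF hℓ hne _ _
  have hmpos : m < ℓ * m := lt_mul_of_one_lt_left (by omega) hℓ.one_lt
  have hBfree : Free σ B := by
    refine free_mono ?_ (free_two hF hℓ hne hσ hc hk hm hmpos h1 h2).1
    intro g hg i j hij
    refine hg i j fun h => hij ?_
    have hdiv : ∀ i : Fin (ℓ * m), (κ i : ℕ) = i / m := fun i => by
      simp [κ, e, finProdFinEquiv]
    have h' : (i : ℕ) / m = j / m := by rw [← hdiv, ← hdiv, h]
    simp only [two, decide_eq_decide]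
    rw [← Nat.div_eq_zero_iff_lt hm, h', Nat.div_eq_zero_iff_lt hm]
  have hcomm : ⁅B, B⁆ ≤ X := commutator_blk_le U
  set H := B ⊔ zpowers c
  have hcn : ∀ b ∈ B, c * b * c⁻¹ ∈ B ∧ c⁻¹ * b * c ∈ B := fun b hb =>
    ⟨(blk_conj_mono U hu hdet hiff b).2 hb, (blk_conj_mono U hu hdet hiff _).1 (by
      show c * (c⁻¹ * b * c) * c⁻¹ ∈ B
      simpa [mul_assoc] using hb)⟩
  refine free_top_of_index hσ hc hℓ hk (H := H) ?_ (free_adjoin hσ hc hk hcn hBfree iSup_Supp_le_Blk hXP hcomm
    le_rfl ?_)
  · -- the index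
    set e1 := (q + 1).factorization ℓ
    set s1 := (Nat.card (SU m F q)).factorization ℓ
    have hcolcard : ∀ a, (col κ a).card = m := fun a => by
      rw [show col κ a = (Finset.univ : Finset (Fin m)).map
        ⟨fun b => e (a, b), fun b b' h => by simpa using h⟩ from ?_]
      · simp
      · ext i
        obtain ⟨⟨a', b⟩, rfl⟩ := e.surjective i
        constructor
        · intro h
          simp only [col, hκe, Finset.mem_filter, Finset.mem_univ, true_and] at h
          subst h
          exact Finset.mem_map.2 ⟨b, Finset.mem_univ _, rfl⟩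
        · intro h
          obtain ⟨b', -, h⟩ := Finset.mem_map.1 h
          simp [col, hκe, (Prod.mk.inj (e.injective h)).1]
    have hX : ∀ T : Finset (Fin ℓ), T.card * s1 ≤
        (Nat.card ↥(T.sup fun a => Supp F q (col κ a))).factorization ℓ := by
      intro T
      induction T using Finset.induction with
      | empty => simp
      | insert a T ha ih =>
        set N := T.sup fun a => Supp F q (col κ a)
        have hN : N ≤ Supp F q (Finset.univ.filter fun i => κ i ∈ T) :=
          Finset.sup_le fun a ha => Supp_mono fun i hi => by simp [col] at hi ⊢; rwa [hi]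
        have hdj : Disjoint (col κ a) (Finset.univ.filter fun i => κ i ∈ T) :=
          Finset.disjoint_left.2 fun i hi hi' => ha (by simp [col] at hi hi'; rwa [← hi])
        rw [Finset.card_insert_of_notMem ha, Finset.sup_insert]
        have h3 := le_factorization (ℓ := ℓ) (card_sup_dvd (K := Supp F q (col κ a)) (N := N)
          (fun k hk' x hx => by rwa [Supp_comm hdj hk' (hN hx), mul_inv_cancel_right])
          (fun g hg hg' => Supp_disj hdj hg (hN hg')) le_sup_right le_sup_left) Nat.card_pos.ne'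
        rw [Nat.factorization_mul Nat.card_pos.ne' Nat.card_pos.ne', Finsupp.add_apply, card_Supp U,
          hcolcard] at h3
        rw [add_one_mul]
        change _ ≤ (Nat.card ↥(Supp F q (col κ a) ⊔ N)).factorization ℓ
        omega
    obtain ⟨ζ, hζo, hζn, -⟩ := exists_zeta hF U
    let Z := zpowers ζ
    let pr : (Fin ℓ → Z) →* Z := ∏ a : Fin ℓ, Pi.evalMonoidHom (fun _ : Fin ℓ => Z) a
    have hpr : ∀ w, pr w = ∏ a, w a := fun w => by simp [pr]
    have hnZ : ∀ x : Z, ((x.1 : Fˣ) : F) * U.σ ((x.1 : Fˣ) : F) = 1 := fun x => by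
      obtain ⟨k, hk'⟩ := (Submonoid.mem_powers_iff _ _).1 (mem_powers_iff_mem_zpowers.2 x.2)
      rw [← hk', Units.val_pow_eq_pow_val, map_pow, ← mul_pow, hζn, one_pow]
    let vv : (Fin ℓ → Z) → Fin (ℓ * m) → F := fun w i =>
      if (e.symm i).2 = b0 then (((w (κ i)).1 : Fˣ) : F) else 1
    have hvv : ∀ w i, vv w i * U.σ (vv w i) = 1 := fun w i => by
      simp only [vv]
      split_ifs
      · exact hnZ _
      · simp
    have hvvp : ∀ (w : Fin ℓ → Z) a, ∏ i ∈ col κ a, vv w i = (((w a).1 : Fˣ) : F) := fun w a => by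
      rw [Finset.prod_eq_single (e (a, b0))]
      · simp [vv, κ]
      · intro i hi hib
        obtain ⟨⟨a', b⟩, rfl⟩ := e.surjective i
        simp [col, κ] at hi
        subst hi
        have hb : b ≠ b0 := fun h => hib (by rw [h])
        simp [vv, hb]
      · intro h; simp [col, κ] at h
    have hvv1 : ∀ w : pr.ker, ∏ i, vv w.1 i = 1 := fun w => by
      rw [← Finset.prod_fiberwise_of_maps_to (g := κ) (fun i _ => Finset.mem_univ _)]
      show ∏ a, ∏ i ∈ col κ a, vv w.1 i = 1
      simp only [hvvp]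
      have h := congrArg (fun x : Z => ((x.1 : Fˣ) : F)) ((hpr w.1).symm.trans (MonoidHom.mem_ker.1 w.2))
      simpa [Subgroup.val_finset_prod, Units.coe_prod] using h
    let ψ : pr.ker →* SU (ℓ * m) F q := MonoidHom.mk' (fun w => dg U (vv w.1) (hvv _) (hvv1 w)) fun w w' => by
      rw [dg_mul]
      refine mat_inj ?_
      rw [mat_dg, mat_dg]
      congr 1
      funext i
      simp only [vv, Pi.mul_apply, Subgroup.coe_mul]
      split_ifs <;> simp
    have hbψ : ∀ w a, bdet (col κ a) (ψ w) = (((w.1 a).1 : Fˣ) : F) := fun w a => by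
      show bdet (col κ a) (dg U (vv w.1) (hvv _) (hvv1 w)) = _
      rw [bdet_dg, hvvp]
    have hψinj : Function.Injective ψ := fun w w' h => by
      refine Subtype.ext (funext fun a => Subtype.ext (Units.ext ?_))
      rw [← hbψ, ← hbψ, h]
    have hψB : ψ.range ≤ B := by rintro _ ⟨w, rfl⟩; exact dg_mem_blk U κ (vv w.1) (hvv _) (hvv1 w)
    have hdB : Nat.card ψ.range * Nat.card X ∣ Nat.card B := by
      refine card_sup_dvd (fun k hk' x hx => normalizes_iSup (hψB hk') hx) ?_ iSup_Supp_le_Blk hψB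
      rintro _ ⟨w, rfl⟩ hX'
      have : w = 1 := Subtype.ext (funext fun a => Subtype.ext (Units.ext (by
        rw [← hbψ, bdet_iSup hX' a]; rfl)))
      rw [this, map_one]
    have hZ : Nat.card Z = q + 1 := (Nat.card_zpowers ζ).trans hζo
    have hker : Nat.card pr.ker * (q + 1) = (q + 1) ^ ℓ := by
      have hsurj : Function.Surjective pr := fun x => ⟨Pi.mulSingle 0 x, by
        rw [hpr, Fintype.prod_pi_mulSingle']⟩
      have h := pr.ker.card_eq_card_quotient_mul_card_subgroup
      rw [Nat.card_congr (QuotientGroup.quotientKerEquivOfSurjective pr hsurj).toEquiv, Nat.card_fun,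
        hZ, Nat.card_fin] at h
      rw [mul_comm]; exact h.symm
    have hBn : B.subgroupOf H |>.Normal := normal_subgroupOf_iff_le_normalizer le_sup_left |>.2
      (sup_le le_normalizer (zpowers_le.2 (mem_normalizer_iff.2 fun b => ⟨fun hb => (hcn b hb).1, fun hb => by
        simpa [mul_assoc] using (hcn _ hb).2⟩)))
    have hshift : ∀ (k : ℕ) i j, mat (c ^ k) i j ≠ 0 → κ j = κ i + (k : Fin ℓ) := by
      intro k
      induction k with
      | zero =>
        intro i j h
        by_cases hij : i = j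
        · simp [hij]
        · exact absurd (one_apply_ne hij) h
      | succ k ih =>
        intro i j h
        rw [pow_succ', mat_mul, mat_mono, mul_apply, Finset.sum_eq_single (π i)] at h
        · rw [ih _ _ (right_ne_zero_of_mul h), hκπ, Nat.cast_succ]; abel
        · intro l _ hl; simp [monoMat, Ne.symm hl]
        · simp
    have hcℓ : c ^ ℓ ∈ B := fun i j hij => by
      by_contra h
      exact hij (by rw [hshift ℓ i j h, Fin.natCast_self, add_zero])
    have hcB : c ∉ B := fun h => by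
      let i : Fin (ℓ * m) := e (0, b0)
      have h0 := h i (π i) (by rw [hκπ]; simp [eq_comm, hℓ.ne_one])
      rw [mat_mono] at h0
      simp [monoMat] at h0
      exact u_ne U hu i h0
    have hquot : ℓ ∣ (B.subgroupOf H).index := by
      have ho : orderOf (QuotientGroup.mk (s := B.subgroupOf H) (⟨c, mem_sup_right (mem_zpowers c)⟩ : H)) = ℓ := by
        refine orderOf_eq_prime ?_ fun h => hcB ?_
        · rw [← QuotientGroup.mk_pow, QuotientGroup.eq_one_iff, mem_subgroupOf]; simpa using hcℓ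
        · simpa [mem_subgroupOf] using (QuotientGroup.eq_one_iff _).1 h
      have h := orderOf_dvd_natCard
        (QuotientGroup.mk (s := B.subgroupOf H) (⟨c, mem_sup_right (mem_zpowers c)⟩ : H))
      rwa [ho] at h
    have hHB : ℓ * Nat.card B ∣ Nat.card H := by
      rw [← (B.subgroupOf H).index_mul_card,
        Nat.card_congr (subgroupOfEquivOfLe (le_sup_left : B ≤ H)).toEquiv]
      exact Nat.mul_dvd_mul_right hquot _
    refine not_dvd_index hℓ ?_
    have f1 := factorization_card_su hF hℓ hnd (m := m) hm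
    have f2 := factorization_card_su hF hℓ hnd (m := ℓ * m) (le_trans hm hmpos.le)
    have f3 := le_factorization (ℓ := ℓ) hHB Nat.card_pos.ne'
    rw [Nat.factorization_mul hℓ.ne_zero Nat.card_pos.ne', Finsupp.add_apply, hℓ.factorization_self] at f3
    have f4 := le_factorization (ℓ := ℓ) hdB Nat.card_pos.ne'
    rw [Nat.factorization_mul Nat.card_pos.ne' Nat.card_pos.ne', Finsupp.add_apply,
      ← Nat.card_congr (MonoidHom.ofInjective hψinj).toEquiv] at f4
    have f5 := hX Finset.univ
    rw [← hXsup, Finset.card_univ, Fintype.card_fin] at f5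
    have f6 := congrArg (fun x : ℕ => x.factorization ℓ) hker
    simp only [Nat.factorization_mul Nat.card_pos.ne' (by omega : q + 1 ≠ 0), Finsupp.add_apply,
      Nat.factorization_pow, Finsupp.smul_apply, smul_eq_mul] at f6
    rw [hv, ← f1, mul_add] at f2
    simp only [s1, e1] at *
    omega
  · -- the fixed cosets
    intro x hx hxc
    have hxi : x⁻¹ ∈ B := inv_mem hx
    have hrot : ∀ a, bdet (col κ (a + 1)) x = bdet (col κ a) x := fun a => by
      have h := bdet_iSup hxc a
      rw [commutatorElement_def, show x * c * x⁻¹ * c⁻¹ = x * (c * x⁻¹ * c⁻¹) by group,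
        bdet_mul (blk_col hx a), bdet_conj_mono U hu hdet (T := col κ (a + 1))
          (fun i => by simp [col, hκπ]) x⁻¹] at h
      have h2 := bdet_inv (blk_col hx (a + 1))
      calc bdet (col κ (a + 1)) x = bdet (col κ (a + 1)) x * (bdet (col κ a) x * bdet (col κ (a + 1)) x⁻¹) := by
            rw [h, mul_one]
        _ = bdet (col κ a) x * (bdet (col κ (a + 1)) x * bdet (col κ (a + 1)) x⁻¹) := by ring
        _ = _ := by rw [h2, mul_one]
    set lam := bdet (col κ 0) x with hlamdef
    have hall : ∀ a, bdet (col κ a) x = lam := by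
      have : ∀ k : ℕ, bdet (col κ (k : Fin ℓ)) x = lam := by
        intro k
        induction k with
        | zero => rw [Nat.cast_zero]
        | succ k ih => rw [Nat.cast_succ, hrot, ih]
      intro a
      rw [← Fin.cast_val_eq_self a]
      exact this a
    have hlamℓ : lam ^ ℓ = 1 := by
      have := prod_bdet (κ := κ) hx
      simpa [hall, Finset.prod_const, Fintype.card_fin] using this
    have hlamn : lam * U.σ lam = 1 := bdet_norm U (blk_col hx 0)
    let v : Fin (ℓ * m) → F := fun i => if (e.symm i).2 = b0 then lam else 1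
    have hv' : ∀ i, v i * U.σ (v i) = 1 := fun i => by
      simp only [v]; split_ifs <;> simp [hlamn]
    have hv1 : ∏ i, v i = 1 := by
      rw [← e.prod_comp, Fintype.prod_prod_type]
      simp only [v, Equiv.symm_apply_apply, Finset.prod_ite_eq', Finset.mem_univ, if_true, Finset.prod_const,
        Finset.card_univ, Fintype.card_fin, hlamℓ]
    set t := dg U v hv' hv1
    have ht : t ∈ B := dg_mem_blk U κ v hv' hv1
    refine ⟨t, ht, mem_iSup_Supp U (mul_mem hx (inv_mem ht)) fun a => ?_, fun a b hat hbc => ?_⟩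
    · have hbt : bdet (col κ a) t = lam := by
        rw [bdet_dg, Finset.prod_eq_single (e (a, b0))]
        · simp [v]
        · intro i hi hib
          obtain ⟨⟨a', b⟩, rfl⟩ := e.surjective i
          simp [col, κ] at hi
          subst hi
          have hb : b ≠ b0 := fun h => hib (by rw [h])
          simp [v, hb]
        · intro h; simp [col, κ] at h
      rw [bdet_mul (blk_col hx a), hall, ← hbt]
      exact bdet_inv (blk_col ht a)
    · set S0 : Finset (Fin (ℓ * m)) := Finset.univ.filter fun i => (e.symm i).2 = b0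
      have hb2 : ∀ i, (e.symm (π i)).2 = (e.symm i).2 := fun i => by
        obtain ⟨⟨a, b⟩, rfl⟩ := e.surjective i
        simp [hπe]
      have hmem : ∀ {i j}, π i = j → (i ∈ S0 ↔ j ∈ S0) := fun {i j} h => by
        subst h; simp [S0, hb2]
      have hblk : BlkM S0 (mat c) := fun i j hij => by
        simp only [c, mat_mono, monoMat, of_apply]
        rw [if_neg fun h => hij (hmem h)]
      have hblk' : BlkM S0ᶜ (mat c) := fun i j hij => hblk i j fun h => hij (by simp [h])
      have hπ' : ∀ i, π' i = if i ∈ S0 then π i else i := fun i => by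
        obtain ⟨⟨a, b⟩, rfl⟩ := e.surjective i
        by_cases hb : b = b0 <;> simp [π', π, S0, Equiv.permCongr_apply, hb]
      have hdet0 : bdet S0 c = 1 := by
        have hp : pMat S0 (mat c) = monoMat π' fun i => if i ∈ S0 then u i else 1 := by
          ext i j
          simp only [pMat, c, mat_mono, monoMat, of_apply, hπ']
          by_cases hi : i ∈ S0
          · by_cases hj : j ∈ S0
            · simp [hi, hj]
            · have h1 : i ≠ j := fun h => hj (h ▸ hi)
              have h2 : π i ≠ j := fun h => hj ((hmem h).1 hi)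
              simp [hi, hj, h1, h2]
          · simp [hi]
        rw [bdet, hp, det_monoMat, ← e.prod_comp, Fintype.prod_prod_type]
        simp only [π', Equiv.Perm.sign_permCongr, Equiv.Perm.sign_prodCongrLeft, u, S0, hκe, Finset.mem_filter,
          Finset.mem_univ, true_and, Equiv.symm_apply_apply, Finset.prod_ite_eq', if_true]
        rw [Finset.prod_eq_single b0 (fun b _ hb => by rw [if_neg hb, map_one]) (by simp), if_pos rfl]
        exact hε
      have hdet1 : bdet S0ᶜ c = 1 := by
        have h := bdet_union (g := c) (disjoint_compl_right (a := S0)) hblk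
        rwa [Finset.union_compl, bdet_univ, hdet0, one_mul, eq_comm] at h
      set c0 := part U S0 c hblk hdet0
      set c1 := part U S0ᶜ c hblk' hdet1
      have hcc : c0 * c1 = c := by
        refine mat_inj ?_
        rw [mat_mul, mat_part, mat_part, ← pMat_union disjoint_compl_right hblk, Finset.union_compl, pMat_univ]
      obtain ⟨l0, hl0⟩ := hσ c0
      obtain ⟨l1, hl1⟩ := hσ c1
      have k0 : Commute l0 a := commute_lifts hσ hc hk (perp_Supp hF hℓ hne S0) (fun y hy =>
        dg_commute_Supp U v hv' hv1 (fun i hi j hj => by simp [S0] at hi hj; simp [v, hi, hj]) hy)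
        (by rw [hl0]; exact part_mem U _ _ _ _) hat
      have k1 : Commute l1 a := commute_lifts hσ hc hk (perp_Supp hF hℓ hne S0ᶜ) (fun y hy =>
        dg_commute_Supp U v hv' hv1 (fun i hi j hj => by simp [S0] at hi hj; simp [v, hi, hj]) hy)
        (by rw [hl1]; exact part_mem U _ _ _ _) hat
      have kz : (l0 * l1)⁻¹ * b ∈ σ.ker := by
        rw [MonoidHom.mem_ker, map_mul, map_inv, map_mul, hl0, hl1, hcc, hbc, inv_mul_cancel]
      have h := ((k0.mul_left k1).mul_left
        (show Commute ((l0 * l1)⁻¹ * b) a from (mem_center_iff.1 (hc kz) a).symm))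
      rw [mul_inv_cancel_left] at h
      exact h.symm

/-- The multiplier of the special unitary group has no `ℓ`-part for `ℓ` prime to the characteristic. -/
theorem univ_prime (hF : Fintype.card F = q ^ 2) {ℓ p : ℕ} [CharP F p] (hℓ : ℓ.Prime) (hne : ℓ ≠ p) :
    ∀ n, Univ.{u, u} ℓ (SU n F q) := by
  have hnd : ¬ ℓ ∣ q := by
    intro h
    obtain ⟨k, hp, hk⟩ := FiniteField.card F p
    have h2 : ℓ ∣ p ^ (k : ℕ) := hk ▸ hF ▸ dvd_pow h (by norm_num)
    exact hne ((Nat.prime_dvd_prime_iff_eq hℓ hp).1 (hℓ.dvd_of_dvd_pow h2))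
  intro n
  induction n using Nat.strong_induction_on with
  | _ n ih =>
    rcases le_or_gt n 1 with hn | hn
    · exact univ_small hn
    intro E' _ _ τ hτ hτc hτk
    obtain ⟨m', rfl⟩ : ∃ m', n = m' + 1 := ⟨n - 1, by omega⟩
    rcases cases_n hℓ (CfsgLib.Classical.two_le_q hF) hnd hn with h | ⟨a, ha1, han, hsum⟩ | ⟨m, hm, hnm, -, hv⟩
    · refine free_fpf hF hℓ hne hτ hτc hτk rfl fun hd => ?_
      have f1 := factorization_card_su hF hℓ hnd (m := m') (by omega)
      rw [h m' (by omega) (by omega), vGU_one] at f1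
      have := (hℓ.dvd_iff_one_le_factorization Nat.card_pos.ne').1 hd
      omega
    · obtain ⟨hfree, hdvd⟩ := free_two hF hℓ hne hτ hτc hτk ha1 han (ih a han) (ih _ (by omega))
      refine free_top_of_index hτ hτc hℓ hτk (not_dvd_index hℓ ?_) hfree
      have f1 := factorization_card_su hF hℓ hnd (m := a) ha1
      have f2 := factorization_card_su hF hℓ hnd (m := m' + 1 - a) (by omega)
      have f3 := factorization_card_su hF hℓ hnd (m := m' + 1) (by omega)
      have f4 := le_factorization (ℓ := ℓ) hdvd Nat.card_pos.ne'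
      rw [Nat.factorization_mul (Nat.mul_ne_zero Nat.card_pos.ne' Nat.card_pos.ne') (by omega : q + 1 ≠ 0),
        Nat.factorization_mul Nat.card_pos.ne' Nat.card_pos.ne', Finsupp.add_apply, Finsupp.add_apply] at f4
      omega
    · have hmn : m < m' + 1 := hnm ▸ lt_mul_of_one_lt_left (by omega) hℓ.one_lt
      exact free_wreath hF hℓ hne hτ hτc hτk hm hnm hv hnd (ih m hmn) (ih _ (by omega))

end CfsgLib.Known.SULift
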