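import Cfsg.Agent.Lib.Known.SULift.Radical

/-!
# Freeness of the stabiliser of an isotropic vector
-/

set_option autoImplicit false
set_option linter.unusedSectionVars false

namespace CfsgLib.Known.SULift

open Matrix Cfsg CfsgLib.Chev.CT.Phan Subgroup
open scoped commutatorElement

universe u

variable {F : Type u} [Field F] [Fintype F] {q n : ℕ}

/-- The special unitary groups of degree at least three are perfect, one case apart. -/
theorem su_perfect (hF : Fintype.card F = q ^ 2) {m : ℕ} (hm : 3 ≤ m) (h32 : ¬(m = 3 ∧ q = 2)) :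
    commutator (SU m F q) = ⊤ := by
  rw [eq_top_iff, ← CfsgLib.Classical.Unitary.su_closure_transvections hF hm h32, closure_le]
  rintro A ⟨v, c, hv, hA⟩
  obtain ⟨x, y, rfl⟩ := CfsgLib.Classical.Unitary.su_transvection_mem_commutatorSet hF hm A v c hv hA
  exact commutator_mem_commutator (mem_top x) (mem_top y)

variable {E : Type u} [Group E] [Finite E] {σ : E →* SU n F q}
variable {U : UF F q}

/-- Diagonal additive maps. -/
theorem bij_of_diag {S : Finset (Fin n)} (Φ : Frame.coords F S → Frame.coords F S)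
    (hadd : ∀ v w, Φ (v + w) = Φ v + Φ w) (c : S → F) (hc : ∀ k, c k ≠ 0)
    (h : ∀ (k : S) a, Φ (Frame.inj k a) = Frame.inj k (c k * a)) : Function.Bijective Φ := by
  classical
  let Φ' : Frame.coords F S →+ Frame.coords F S := AddMonoidHom.mk' Φ hadd
  have hinj : Function.Injective Φ' := by
    rw [injective_iff_map_eq_zero]
    intro v hv
    rw [Frame.eq_sum_inj v, map_sum] at hv
    refine Subtype.ext (funext fun i => ?_)
    by_cases hi : i ∈ S
    · have h2 := congrArg (fun w : Frame.coords F S => w.1 i) hv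
      simp only [AddSubgroup.val_finsetSum, Finset.sum_apply, Φ', AddMonoidHom.mk'_apply, h, Frame.inj_val] at h2
      rw [Finset.sum_eq_single (⟨i, hi⟩ : S) (fun k _ hk => Pi.single_eq_of_ne
        (fun e => hk (Subtype.ext e.symm)) _) (by simp), Pi.single_eq_same] at h2
      exact (mul_eq_zero.1 h2).resolve_left (hc _)
    · exact v.2 i hi
  exact Finite.injective_iff_bijective.1 hinj

/-- A complement invariant under the elements away from the frame, when a central torus element moves
everything. -/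
theorem free_frame_scalar (hσ : Function.Surjective σ) (hc : σ.ker ≤ center E)
    (fr : Frame U n) (hne : fr.full.Nonempty) (hZ : (fr.rad fr.away_full hne).ZCentral σ)
    (hdk : ∀ y ∈ (fr.rad fr.away_full hne).der σ, σ y = 1 → y = 1) {d x : F} (hd : d ≠ 0)
    (hx : x * U.σ x = 1) (hprod : x ^ fr.full.card = U.σ d / d) (hμ : U.σ d * x ≠ 1)
    (hM : Free σ (Supp F q fr.full)) : Free σ (fr.Q fr.full fr.away_full ⊔ Supp F q fr.full) := by
  set R := fr.rad fr.away_full hne
  obtain ⟨g, L, hg, hact, hL⟩ := fr.exists_torus fr.away_full hne hd (fun _ => x) (fun _ _ => hx)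
    (by rw [Finset.prod_const, hprod])
  obtain ⟨Qh, hle, -, hk, hsurj, hinv⟩ := R.exists_complement hσ hc hZ hdk [(g, L)]
    (fun γ hγ => by rw [List.mem_singleton] at hγ; subst hγ; exact hact) (by
      refine bij_of_diag _ (fun v w => ?_) (fun _ => U.σ d * x - 1) (fun _ => sub_ne_zero.2 hμ) fun k a => ?_
      · simp only [List.map_cons, List.map_nil, List.sum_cons, List.sum_nil, add_zero, map_add]
        abel
      · simp only [List.map_cons, List.map_nil, List.sum_cons, List.sum_nil, add_zero, hL]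
        rw [← map_sub, sub_one_mul])
  refine free_semidirect hσ hc Qh hle hk hsurj (fun e he y hy => ?_) (fun a ha ha' =>
    fr.Q_disj fr.away_full fr.away_full ha ha') hM
  refine hinv (σ e) _ (fr.acts fr.away_full hne (fr.supp_e fr.away_full he)
    fun v hv => Frame.supp_coords (Finset.Subset.refl _) he hv) (fun γ hγ => ?_) e rfl y hy
  rw [List.mem_singleton] at hγ
  subst hγ
  exact fr.torus_comm_supp fr.away_full (fun _ _ _ _ => rfl) hg he

/-- The index of the stabiliser part. -/
theorem index_frame (hF : Fintype.card F = q ^ 2) {p : ℕ} [CharP F p] (fr : Frame U n) (hn : 3 ≤ n)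
    {M : Subgroup (SU n F q)} (hMS : M ≤ Supp F q fr.full)
    (hMc : (Nat.card (SU (n - 2) F q)).factorization p ≤ (Nat.card M).factorization p) :
    ¬ p ∣ (fr.Q fr.full fr.away_full ⊔ M).index := by
  obtain ⟨f, hf1, hf⟩ := exists_prime_pow hF p
  have hp : p.Prime := by obtain ⟨_, hp, -⟩ := FiniteField.card F p; exact hp
  refine not_dvd_index hp ?_
  have h1 := card_sup_dvd (N := fr.Q fr.full fr.away_full) (K := M) (H := fr.Q fr.full fr.away_full ⊔ M)
    (fun k hk x hx => fr.conj_mem fr.away_full (fr.supp_e fr.away_full (hMS hk))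
      (fun v hv => Frame.supp_coords (Finset.Subset.refl _) (hMS hk) hv) hx)
    (fun g hg hg' => fr.Q_disj fr.away_full fr.away_full hg' (hMS hg)) le_sup_left le_sup_right
  have h2 := le_factorization (ℓ := p) h1 Nat.card_pos.ne'
  rw [Nat.factorization_mul Nat.card_pos.ne' Nat.card_pos.ne', Finsupp.add_apply, fr.card_Q hF, fr.card_full,
    Nat.factorization_pow, Finsupp.smul_apply, smul_eq_mul,
    show q.factorization p = f by rw [hf, hp.factorization_pow, Finsupp.single_eq_same]] at h2
  have h3 := Frame.two_mul_factorization_su hF hf (m := n) (by omega)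
  have h4 := Frame.two_mul_factorization_su hF hf (m := n - 2) (by omega)
  obtain ⟨s, rfl⟩ : ∃ s, n = s + 3 := ⟨n - 3, by omega⟩
  simp only [show s + 3 - 2 = s + 1 by omega, show s + 3 - 1 = s + 2 by omega, Nat.add_sub_cancel] at h2 h3 h4 hMc
  have e : f * ((s + 3) * (s + 2)) = f * ((s + 1) * s) + 2 * ((2 * (s + 1) + 1) * f) := by ring
  omega

/-- The exponent of a radical with elements away from it. -/
theorem le_factorization_sup (hF : Fintype.card F = q ^ 2) {p f : ℕ} [CharP F p] (hf : q = p ^ f) (fr : Frame U n)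
    {S : Finset (Fin n)} (hS : fr.Away S) :
    (2 * S.card + 1) * f + (Nat.card (SU S.card F q)).factorization p ≤
      (Nat.card ↥(fr.Q S hS ⊔ Supp F q S)).factorization p := by
  have hp : p.Prime := by obtain ⟨_, hp, -⟩ := FiniteField.card F p; exact hp
  have h1 := card_sup_dvd (N := fr.Q S hS) (K := Supp F q S) (H := fr.Q S hS ⊔ Supp F q S)
    (fun k hk x hx => fr.conj_mem hS (fr.supp_e hS hk)
      (fun v hv => Frame.supp_coords (Finset.Subset.refl _) hk hv) hx)
    (fun g hg hg' => fr.Q_disj hS hS hg' hg) le_sup_left le_sup_right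
  have h2 := le_factorization (ℓ := p) h1 Nat.card_pos.ne'
  rw [Nat.factorization_mul Nat.card_pos.ne' Nat.card_pos.ne', Finsupp.add_apply, fr.card_Q hF, card_Supp U,
    Nat.factorization_pow, Finsupp.smul_apply, smul_eq_mul,
    show q.factorization p = f by rw [hf, hp.factorization_pow, Finsupp.single_eq_same]] at h2
  omega

theorem conj_mem_commutator {R : Subgroup E} {e y : E} (he : e ∈ R) (hy : y ∈ ⁅R, R⁆) : e * y * e⁻¹ ∈ ⁅R, R⁆ := by
  have h : ⁅R, R⁆.map (MulAut.conj e).toMonoidHom ≤ ⁅R, R⁆ := by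
    rw [map_commutator]
    refine commutator_mono ?_ ?_ <;>
    · rintro _ ⟨x, hx, rfl⟩
      exact mul_mem (mul_mem he hx) (inv_mem he)
  exact h ⟨y, hy, rfl⟩

/-- Degrees divisible by three over the field with four elements. -/
theorem free_frame_star (hF : Fintype.card F = q ^ 2) (hq : q = 2) {p : ℕ} [CharP F p] (hp : p.Prime)
    (hσ : Function.Surjective σ) (hc : σ.ker ≤ center E) (hk : IsPGroup p σ.ker) (fr : Frame U n) (hn : 9 ≤ n)
    (hne : fr.full.Nonempty) (hdk : ∀ y ∈ (fr.rad fr.away_full hne).der σ, σ y = 1 → y = 1)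
    (hFree : ∀ T : Finset (Fin n), T.card = n - 1 ∨ T.card = n - 2 → Free σ (Supp F q T)) : Free σ ⊤ := by
  classical
  subst hq
  obtain ⟨f, hf1, hf⟩ := exists_prime_pow hF p
  have hs : fr.full.card = n - 2 := fr.card_full
  set R := fr.rad fr.away_full hne
  have hZ : R.ZCentral σ := zcentral_frame hF hσ hc fr hne (Or.inl (by omega))
  obtain ⟨ζ, hζo, hζn, -⟩ := exists_zeta hF U
  have hζ1 : (ζ : F) - 1 ≠ 0 := sub_ne_zero.2 fun e => by
    have h1 := (pow_unit_eq_one_iff hζo 1).1 (by rw [pow_one, e])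
    norm_num at h1
  have hζinv : ((ζ⁻¹ : Fˣ) : F) * U.σ ((ζ⁻¹ : Fˣ) : F) = 1 := by
    rw [Units.val_inv_eq_inv_val, map_inv₀, ← mul_inv, hζn, inv_one]
  obtain ⟨a0, ha0⟩ := hne
  obtain ⟨b0, hb0, hab⟩ := Finset.exists_mem_ne (by omega : 1 < fr.full.card) a0
  let w : Fin n → Fin n → Fin n → F := fun k l i =>
    if i = k then (ζ : F) else if i = l then ((ζ⁻¹ : Fˣ) : F) else 1
  have hpair : ∀ k l, k ∈ fr.full → l ∈ fr.full → k ≠ l → ∀ {S : Finset (Fin n)} (hS : fr.Away S)
      (hne' : S.Nonempty), ∃ g L, mat g = Frame.torusMat fr 1 (w k l) ∧ (fr.rad hS hne').Acts g L ∧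
        ∀ (i : S) a, L (Frame.inj i a) = Frame.inj i (w k l i * a) := by
    intro k l hk hl hkl S hS hne'
    obtain ⟨g, L, hg, hact, hL⟩ := fr.exists_torus hS hne' (d := 1) one_ne_zero (w k l)
      (fun i _ => two_weights U hζn hζinv i) (prod_two hk hl hkl (by simp))
    exact ⟨g, L, hg, hact, fun i a => by rw [hL]; simp⟩
  -- the symmetries
  let J := Option {k // k ∈ fr.full.erase a0}
  let kl : J → Fin n × Fin n := fun j => j.elim (a0, b0) fun k => (k.1, a0)
  have hkl : ∀ j, (kl j).1 ∈ fr.full ∧ (kl j).2 ∈ fr.full ∧ (kl j).1 ≠ (kl j).2 := by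
    rintro (_ | ⟨k, hk⟩)
    · exact ⟨ha0, hb0, Ne.symm hab⟩
    · exact ⟨Finset.mem_of_mem_erase hk, ha0, Finset.ne_of_mem_erase hk⟩
  choose g L hg hact hL using fun j : J =>
    hpair _ _ (hkl j).1 (hkl j).2.1 (hkl j).2.2 fr.away_full ⟨a0, ha0⟩
  let gs := (Finset.univ : Finset J).toList.map fun j => (g j, L j)
  obtain ⟨Qh, hle, -, hQk, hsurj, hinv⟩ := R.exists_complement hσ hc hZ hdk gs (fun γ hγ => by
    simp only [gs, List.mem_map] at hγ; obtain ⟨j, -, rfl⟩ := hγ; exact hact j) (by
    refine bij_of_diag _ (fun v v' => ?_) (fun i => ∑ j : J, (w (kl j).1 (kl j).2 i - 1)) (fun i => ?_) fun i a => ?_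
    · simp only [gs, List.map_map, Function.comp_def, Finset.sum_map_toList]
      rw [← Finset.sum_add_distrib]
      exact Finset.sum_congr rfl fun j _ => by rw [map_add]; abel
    · rw [Fintype.sum_option]
      show w a0 b0 i - 1 + ∑ k : {k // k ∈ fr.full.erase a0}, (w k.1 a0 i - 1) ≠ 0
      rw [Finset.sum_coe_sort (fr.full.erase a0) (fun k => w k a0 i - 1)]
      simp only [w]
      by_cases hia : i.1 = a0
      · simp only [hia, if_true]
        rw [Finset.sum_congr rfl fun k hk => by rw [if_neg (Finset.ne_of_mem_erase hk).symm], Finset.sum_const,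
          nsmul_eq_mul]
        have hinv1 : ((ζ⁻¹ : Fˣ) : F) - 1 = -((ζ⁻¹ : Fˣ) : F) * ((ζ : F) - 1) := by
          rw [neg_mul, mul_sub, Units.inv_mul, mul_one]; ring
        rw [hinv1, show (ζ : F) - 1 + ((fr.full.erase a0).card : F) * (-((ζ⁻¹ : Fˣ) : F) * ((ζ : F) - 1)) =
          ((ζ : F) - 1) * ((ζ⁻¹ : Fˣ) : F) * ((ζ : F) - ((fr.full.erase a0).card : F)) by
          linear_combination -((ζ : F) - 1) * (ζ.inv_mul : ((ζ⁻¹ : Fˣ) : F) * (ζ : F) = 1)]
        refine mul_ne_zero (mul_ne_zero hζ1 (Units.ne_zero _)) ?_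
        have h2 : (2 : F) = 0 := by
          have h4 : ((2 : ℕ) : F) ^ 2 = 0 := by rw [← Nat.cast_pow, ← hF, Nat.cast_card_eq_zero]
          simpa using eq_zero_of_pow_eq_zero h4
        rcases Nat.even_or_odd' (fr.full.erase a0).card with ⟨t, ht | ht⟩ <;> rw [ht] <;> push_cast <;>
          rw [h2, zero_mul]
        · simpa using ζ.ne_zero
        · simpa using hζ1
      · simp only [hia, if_false]
        rw [Finset.sum_eq_single_of_mem (i : Fin n) (Finset.mem_erase.2 ⟨hia, i.2⟩)
          (fun k _ hk => by simp [Ne.symm hk])]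
        simp only [if_true]
        split_ifs with hib
        · have hi : ((ζ⁻¹ : Fˣ) : F) - 1 + ((ζ : F) - 1) = ((ζ⁻¹ : Fˣ) : F) * (((ζ : F) - 1) * ((ζ : F) - 1)) := by
            linear_combination (2 - (ζ : F)) * (ζ.inv_mul : ((ζ⁻¹ : Fˣ) : F) * (ζ : F) = 1)
          rw [hi]
          exact mul_ne_zero (Units.ne_zero _) (mul_ne_zero hζ1 hζ1)
        · simpa using hζ1
    · simp only [gs, List.map_map, Function.comp_def, Finset.sum_map_toList, hL]
      rw [Finset.sum_mul, map_sum]
      exact Finset.sum_congr rfl fun j _ => by rw [← map_sub, sub_one_mul])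
  set N := normalizer (Qh : Set E)
  have hkerN : σ.ker ≤ N := fun z hz => mem_normalizer_iff.2 fun y => by
    rw [← mem_center_iff.1 (hc hz) y, mul_inv_cancel_right]
  -- small supports normalise the complement
  have hsmall : ∀ T : Finset (Fin n), T ⊆ fr.full → (∃ j1 ∈ fr.full, ∃ j2 ∈ fr.full, j1 ∉ T ∧ j2 ∉ T ∧ j1 ≠ j2) →
      Supp F 2 T ≤ N.map σ := by
    intro T hT ⟨j1, hj1, j2, hj2, hj1T, hj2T, hj12⟩ m hm
    obtain ⟨e, he⟩ := hσ m
    refine ⟨e, ?_, he⟩
    suffices h : ∀ e, σ e ∈ Supp F 2 T → ∀ y ∈ Qh, e * y * e⁻¹ ∈ Qh from mem_normalizer_iff.2 fun y =>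
      ⟨h e (he ▸ hm) y, fun h' => by
        have := h e⁻¹ (by rw [map_inv, he]; exact inv_mem hm) _ h'
        rwa [inv_inv, mul_assoc e y, inv_mul_cancel_left, inv_mul_cancel_right] at this⟩
    intro e he y hy
    let K := Qh ⊓ Qh.comap (MulAut.conj e).toMonoidHom
    have hpart : ∀ j ∈ fr.full, j ∉ T → ∀ hA : fr.Away (fr.full.erase j),
        fr.Q (fr.full.erase j) hA ≤ K.map σ := by
      intro j hj hjT hA x hx
      set X := Supp F 2 ((Finset.univ : Finset (Fin n)).erase j)
      set L' := ⁅X.comap σ, X.comap σ⁆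
      have hne' : (fr.full.erase j).Nonempty := Finset.card_pos.1 (by rw [Finset.card_erase_of_mem hj]; omega)
      have hXfree : Free σ X := hFree _ (Or.inl (by simp))
      have hsub : ({fr.i0, fr.i1} ∪ fr.full.erase j : Finset (Fin n)) ⊆ Finset.univ.erase j := fun i hi => by
        refine Finset.mem_erase.2 ⟨fun e => ?_, Finset.mem_univ i⟩
        subst e
        rcases Finset.mem_union.1 hi with h | h
        · exact (Finset.mem_compl.1 hj) h
        · exact Finset.notMem_erase i _ h
      have hQX : fr.Q (fr.full.erase j) hA ≤ X := (fr.Q_le_Supp hA).trans (Supp_mono hsub)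
      have hperf : ⁅X, X⁆ = X := by
        rw [show X = (emb _).range from (range_emb U _).symm, MonoidHom.range_eq_map, ← map_commutator]
        congr 1
        have h := su_perfect hF (m := ((Finset.univ : Finset (Fin n)).erase j).card) (by simp; omega)
          (by simp; omega)
        rwa [_root_.commutator_def] at h
      have hLX : ∀ x ∈ X, ∃ y ∈ L', σ y = x := fun x hx => by
        have h : x ∈ L'.map σ := by
          rw [map_commutator, map_comap_eq_self_of_surjective hσ, hperf]; exact hx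
        exact h
      have hLk : ∀ y ∈ L', σ y = 1 → y = 1 := fun y hy e => hXfree y e hy
      let R₁ := fr.rad hA hne'
      have hsec : ∀ y ∈ L', σ y ∈ R₁.Q → y ∈ Qh := by
        refine eq_of_two_sections hσ hc R₁ L' Qh hLk hQk (fun x hx => hLX x (hQX hx))
          (fun x hx => hsurj x (fr.Q_mono hA fr.away_full (Finset.erase_subset _ _) hx))
          {γ | R₁.Acts γ.1 γ.2 ∧ γ.1 ∈ X ∧ ∀ e, σ e = γ.1 → ∀ y ∈ Qh, e * y * e⁻¹ ∈ Qh}
          (fun γ hγ => hγ.1) (fun γ hγ e he y hy _ => conj_mem_commutator (show σ e ∈ X by rw [he]; exact hγ.2.1) hy)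
          (fun γ hγ e he y hy _ => hγ.2.2 e he y hy) (Frame.inj_mem _ fun k a => ?_)
        obtain ⟨l, hl, hlk⟩ := Finset.exists_mem_ne
          (by rw [Finset.card_erase_of_mem hj]; omega : 1 < (fr.full.erase j).card) k.1
        obtain ⟨t, Lt, ht, hta, htL⟩ := hpair k.1 l (Finset.mem_of_mem_erase k.2) (Finset.mem_of_mem_erase hl)
          hlk.symm hA hne'
        have htX : t ∈ X := fr.torus_mem_Supp (hsub (by simp)) (hsub (by simp)) (fun c hc => by
          have hcj : c = j := by simpa using hc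
          subst hcj
          have h1 : c ≠ k.1 := (Finset.ne_of_mem_erase k.2).symm
          have h2 : c ≠ l := (Finset.ne_of_mem_erase hl).symm
          simp [w, h1, h2]) ht
        obtain ⟨t', Lt', ht', hta', -⟩ := hpair k.1 l (Finset.mem_of_mem_erase k.2) (Finset.mem_of_mem_erase hl)
          hlk.symm fr.away_full ⟨a0, ha0⟩
        obtain rfl : t' = t := mat_inj (ht'.trans ht.symm)
        refine AddSubgroup.subset_closure ⟨(t', Lt), ⟨hta, htX, hinv t' Lt' hta' fun γ hγ => ?_⟩,
          Frame.inj k (a / ((ζ : F) - 1)), ?_⟩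
        · simp only [gs, List.mem_map] at hγ
          obtain ⟨i, -, rfl⟩ := hγ
          exact fr.torus_comm ht (hg i)
        · show Lt (Frame.inj k (a / ((ζ : F) - 1))) - Frame.inj k (a / ((ζ : F) - 1)) = _
          rw [htL, ← map_sub]
          congr 1
          rw [show w k.1 l k.1 = (ζ : F) from if_pos rfl]
          field_simp
      obtain ⟨y', hy', rfl⟩ := hLX x (hQX hx)
      refine ⟨y', ⟨hsec y' hy' hx, ?_⟩, rfl⟩
      show e * y' * e⁻¹ ∈ Qh
      have hTj : T ⊆ fr.full.erase j := fun i hi => Finset.mem_erase.2 ⟨fun e => hjT (e ▸ hi), hT hi⟩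
      have hTA : fr.Away T := ⟨fun h => hA.1 (hTj h), fun h => hA.2 (hTj h)⟩
      refine hsec _ (conj_mem_commutator (show σ e ∈ X from
        Supp_mono (hTj.trans (Finset.subset_union_right.trans hsub)) he) hy') ?_
      rw [map_mul, map_mul, map_inv]
      exact fr.conj_mem hA (fr.supp_e hTA he) (fun v hv => Frame.supp_coords hTj he hv) hx
    have hA1 : fr.Away (fr.full.erase j1) := ⟨fun h => fr.away_full.1 (Finset.mem_of_mem_erase h),
      fun h => fr.away_full.2 (Finset.mem_of_mem_erase h)⟩
    have hA2 : fr.Away (fr.full.erase j2) := ⟨fun h => fr.away_full.1 (Finset.mem_of_mem_erase h),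
      fun h => fr.away_full.2 (Finset.mem_of_mem_erase h)⟩
    have hA1' : fr.Away ({j1} : Finset (Fin n)) :=
      ⟨fun h => fr.away_full.1 (Finset.mem_singleton.1 h ▸ hj1), fun h => fr.away_full.2 (Finset.mem_singleton.1 h ▸ hj1)⟩
    have hU : fr.full.erase j1 ∪ {j1} = fr.full := by
      rw [Finset.union_comm, ← Finset.insert_eq, Finset.insert_erase hj1]
    have hUA : fr.Away (fr.full.erase j1 ∪ {j1}) := by rw [hU]; exact fr.away_full
    have hQK : fr.Q fr.full fr.away_full ≤ K.map σ :=
      (fr.Q_mono fr.away_full hUA hU.ge).trans ((fr.Q_le_sup hA1 hA1' hUA).trans (sup_le (hpart j1 hj1 hj1T hA1)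
        ((fr.Q_mono hA1' hA2 (by simp [hj1, hj12])).trans (hpart j2 hj2 hj2T hA2))))
    obtain ⟨y', hy', e'⟩ := hQK (show σ y ∈ fr.Q fr.full fr.away_full from hle hy)
    have : y' = y := eq_of_inv_mul_eq_one (hQk _ (mul_mem (inv_mem hy'.1) hy)
      (by rw [map_mul, map_inv, e', inv_mul_cancel]))
    exact this ▸ hy'.2
  -- a subgroup of odd index in the elements away from the frame
  obtain ⟨fr', h0', h1'⟩ := exists_frame U (Ne.symm hab)
  set S' := fr.full \ {a0, b0}
  have hS' : fr'.Away S' := ⟨by simp [S', h0'], by simp [S', h1']⟩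
  have hsub' : ({fr'.i0, fr'.i1} ∪ S' : Finset (Fin n)) ⊆ fr.full := by
    rw [h0', h1']
    exact Finset.union_subset (Finset.insert_subset_iff.2 ⟨ha0, Finset.singleton_subset_iff.2 hb0⟩) Finset.sdiff_subset
  have hcard : S'.card = n - 4 := by
    rw [Finset.card_sdiff_of_subset (Finset.insert_subset_iff.2 ⟨ha0, Finset.singleton_subset_iff.2 hb0⟩), hs,
      Finset.card_pair (Ne.symm hab)]
    omega
  set M0 := fr'.Q S' hS' ⊔ Supp F 2 S'
  have hM0 : M0 ≤ Supp F 2 fr.full := sup_le ((fr'.Q_le_Supp hS').trans (Supp_mono hsub'))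
    (Supp_mono Finset.sdiff_subset)
  have hM0N : M0 ≤ N.map σ := by
    refine sup_le (fr'.Q_le_of_singles hS' (Finset.card_pos.1 (by omega)) _ fun k hk hkA => ?_) ?_
    · have hsub2 : ({fr'.i0, fr'.i1} ∪ {k} : Finset (Fin n)) ⊆ fr.full := Finset.Subset.trans
        (Finset.union_subset_union_right (Finset.singleton_subset_iff.2 hk)) hsub'
      refine (fr'.Q_le_Supp hkA).trans (hsmall _ hsub2 ?_)
      obtain ⟨j1, hj1, hj1n⟩ := Finset.exists_mem_notMem_of_card_lt_card (s := ({fr'.i0, fr'.i1} ∪ {k} : Finset (Fin n)))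
        (t := fr.full) (lt_of_le_of_lt ((Finset.card_union_le _ _).trans (Nat.add_le_add Finset.card_le_two
          (Finset.card_singleton k).le)) (by omega))
      obtain ⟨j2, hj2, hj2n⟩ := Finset.exists_mem_notMem_of_card_lt_card
        (s := insert j1 ({fr'.i0, fr'.i1} ∪ {k} : Finset (Fin n))) (t := fr.full)
        (lt_of_le_of_lt ((Finset.card_insert_le _ _).trans (Nat.add_le_add_right ((Finset.card_union_le _ _).trans
          (Nat.add_le_add Finset.card_le_two (Finset.card_singleton k).le)) 1)) (by omega))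
      rw [Finset.mem_insert, not_or] at hj2n
      exact ⟨j1, hj1, j2, hj2, hj1n, hj2n.2, Ne.symm hj2n.1⟩
    · exact hsmall _ Finset.sdiff_subset ⟨a0, ha0, b0, hb0, by simp [S'], by simp [S'], Ne.symm hab⟩
  have hfree := free_semidirect hσ hc Qh hle hQk hsurj (M := M0) (fun e he y hy => by
    obtain ⟨e', he', e''⟩ := hM0N he
    have h : e ∈ N := by
      rw [← mul_inv_cancel_left e' e]
      exact mul_mem he' (hkerN (by rw [MonoidHom.mem_ker, map_mul, map_inv, e'', inv_mul_cancel]))
    exact (mem_normalizer_iff.1 h y).1 hy) (fun a ha ha' => fr.Q_disj fr.away_full fr.away_full ha (hM0 ha'))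
    (free_mono hM0 (hFree _ (Or.inr hs)))
  refine free_top_of_index hσ hc hp hk (index_frame hF fr (by omega) hM0 ?_) hfree
  have h1 := le_factorization_sup hF hf fr' hS'
  rw [hcard] at h1
  have h3 := Frame.two_mul_factorization_su hF hf (m := n - 2) (by omega)
  have h4 := Frame.two_mul_factorization_su hF hf (m := n - 4) (by omega)
  obtain ⟨s, rfl⟩ : ∃ s, n = s + 5 := ⟨n - 5, by omega⟩
  simp only [show s + 5 - 2 = s + 3 by omega, show s + 5 - 4 = s + 1 by omega, show s + 3 - 1 = s + 2 by omega,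
    Nat.add_sub_cancel] at h1 h3 h4 ⊢
  have e : f * ((s + 3) * (s + 2)) = f * ((s + 1) * s) + 2 * ((2 * (s + 1) + 1) * f) := by ring
  change _ ≤ (Nat.card M0).factorization p at h1
  generalize (Nat.card M0).factorization p = m0 at h1 ⊢
  generalize (Nat.card (SU (s + 5 - 4) F 2)).factorization p = m4 at h1 h4 ⊢
  generalize (Nat.card (SU (s + 5 - 2) F 2)).factorization p = m2 at h3 ⊢
  omega

/-- The radical over the field with four elements in degree three has one involution. -/
theorem free_frame_three_two (hF : Fintype.card F = q ^ 2) (hq : q = 2) {p : ℕ} [CharP F p]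
    (hσ : Function.Surjective σ) (hc : σ.ker ≤ center E) (fr : Frame U n) (hn : n = 3) :
    Free σ (fr.Q fr.full fr.away_full) := by
  classical
  subst hq
  obtain ⟨f, hf1, hpf⟩ := exists_prime_pow hF p
  obtain ⟨_, hp, -⟩ := FiniteField.card F p
  obtain rfl : p = 2 := (Nat.prime_dvd_prime_iff_eq hp Nat.prime_two).1 (hpf ▸ dvd_pow_self p (by omega))
  have hs : fr.full.card = 1 := by rw [fr.card_full, hn]
  obtain ⟨k, hk⟩ := Finset.card_eq_one.1 hs
  have htwo : (2 : F) = 0 := CharP.cast_eq_zero F 2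
  haveI : Fact (Nat.Prime 2) := ⟨Nat.prime_two⟩
  have hval : ∀ {g : SU n F 2}, g ∈ fr.Q fr.full fr.away_full → g ^ 2 = 1 → g ≠ 1 → mat g = fr.TM 0 1 := by
    rintro g ⟨v, hv, a, ha, eg⟩ hg hne
    have h := congrArg mat hg
    rw [sq, mat_mul, eg, fr.TM_mul fr.away_full hv hv, mat_one] at h
    have h' := congrArg (fun M => hf 2 (M *ᵥ fr.f) fr.f) h
    rw [fr.TM_f fr.away_full (add_mem hv hv)] at h'
    simp only [one_mulVec, U.add_l, U.smul_l, fr.hf_ff, fr.hf_ef, fr.perp_f fr.away_full hv, add_zero, zero_add,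
      mul_one] at h'
    have hvv : hf 2 v v = 0 := by linear_combination a * htwo - h'
    have hv0 : v = 0 := by
      funext i
      by_cases hi : i ∈ fr.full
      · rw [U.hf_eq, Finset.sum_eq_single k (fun j _ hj => by
          rw [hv j (by rw [hk]; simpa using hj), zero_mul]) (by simp)] at hvv
        have hk0 : v k = 0 := (mul_eq_zero.1 hvv).elim id fun h => by simpa using h
        rw [hk, Finset.mem_singleton] at hi
        rw [hi]; exact hk0
      · exact hv i hi
    subst hv0
    rw [U.zero_r, add_zero, U.hσ] at ha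
    rw [eg]
    congr 1
    have ha0 : a ≠ 0 := fun e => hne (mat_inj (by rw [eg, e, fr.TM_zero]; rfl))
    have h1 : a * (1 + a) = 0 := by linear_combination ha
    linear_combination (mul_eq_zero.1 h1).resolve_left ha0 - htwo
  refine free_of_unique hσ hc (p := 2) (P := fr.Q fr.full fr.away_full) ?_ fun x y hx hy => ?_
  · exact IsPGroup.of_card (fr.card_Q hF fr.away_full)
  · have hx1 : x.1 ^ 2 = 1 := by
      have h := pow_orderOf_eq_one x.1
      rwa [Subgroup.orderOf_coe, hx] at h
    have hy1 : y.1 ^ 2 = 1 := by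
      have h := pow_orderOf_eq_one y.1
      rwa [Subgroup.orderOf_coe, hy] at h
    have hx2 : x.1 ≠ 1 := fun e => by rw [← Subgroup.orderOf_coe, e, orderOf_one] at hx; omega
    have hy2 : y.1 ≠ 1 := fun e => by rw [← Subgroup.orderOf_coe, e, orderOf_one] at hy; omega
    rw [show x = y from Subtype.ext (mat_inj ((hval x.2 hx1 hx2).trans (hval y.2 hy1 hy2).symm))]
    exact mem_zpowers y

/-- Outside the exceptional degrees the multiplier has no part at the characteristic. -/
theorem univ_char (hF : Fintype.card F = q ^ 2) {p : ℕ} [CharP F p] :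
    ∀ m, Good q m → Univ.{u, u} p (SU m F q) := by
  intro m
  induction m using Nat.strong_induction_on with
  | _ n ih =>
    classical
    rintro ⟨hn, hexc⟩
    simp only [Set.mem_insert_iff, Set.mem_singleton_iff, Prod.mk.injEq, not_or] at hexc
    intro E' _ _ τ hτ hc hk
    have hp : p.Prime := by obtain ⟨_, hp, -⟩ := FiniteField.card F p; exact hp
    haveI := Fact.mk hp
    have hq := CfsgLib.Classical.two_le_q hF
    obtain ⟨f, hf1, hf⟩ := exists_prime_pow hF p
    obtain ⟨U⟩ := UF.of_card (F := F) hF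
    obtain ⟨fr, -, -⟩ := exists_frame U (show (⟨0, by omega⟩ : Fin n) ≠ ⟨1, by omega⟩ by simp)
    have hs : fr.full.card = n - 2 := fr.card_full
    have hne : fr.full.Nonempty := Finset.card_pos.1 (by omega)
    have hcard : Nat.card (Supp F q fr.full) = Nat.card (SU (n - 2) F q) := by rw [card_Supp U, hs]
    by_cases h3 : n = 3
    · have hidx := index_frame hF fr hn (le_refl (Supp F q fr.full)) (p := p) (hcard ▸ le_rfl)
      have hbot : fr.Q fr.full fr.away_full ⊔ Supp F q fr.full = fr.Q fr.full fr.away_full := by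
        rw [sup_eq_left]
        intro g hg
        have h1 := hcard
        rw [show n - 2 = 1 by omega] at h1
        haveI : Subsingleton (SU 1 F q) := ⟨fun x y => by
          refine mat_inj ?_
          ext i j
          obtain rfl : i = 0 := Subsingleton.elim _ _
          obtain rfl : j = 0 := Subsingleton.elim _ _
          have hx := det_mat x
          have hy := det_mat y
          rw [det_fin_one] at hx hy
          rw [hx, hy]⟩
        have h2 : (⟨g, hg⟩ : Supp F q fr.full) = 1 := by
          haveI := (Nat.card_eq_one_iff_unique.1 (h1.trans Nat.card_unique)).1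
          exact Subsingleton.elim _ _
        rw [show g = 1 from congrArg Subtype.val h2]
        exact one_mem _
      rw [hbot] at hidx
      refine free_top_of_index hτ hc hp hk hidx ?_
      by_cases hq2 : q = 2
      · exact free_frame_three_two hF hq2 (p := p) hτ hc fr h3
      · exact fun z hz hm => der_ker_big hF hp hτ hc hk fr hne (by omega) (by omega) hm hz
    have hZ := zcentral_frame hF hτ hc fr hne (Or.inl (by omega))
    have hdk : ∀ y ∈ (fr.rad fr.away_full hne).der τ, τ y = 1 → y = 1 := by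
      by_cases hq2 : q = 2
      · exact fun y hy hy0 => der_ker_two hF hq2 hp hτ hc hk fr hne (by omega) hy hy0
      · exact fun y hy hy0 => der_ker_big hF hp hτ hc hk fr hne (by omega) (by omega) hy hy0
    have huniv : ∀ k, k < n → Good q k → ∀ T : Finset (Fin n), T.card = k → Free τ (Supp F q T) :=
      fun k hk' hg T hT => free_Supp hτ hc hk U T (hT.symm ▸ ih k hk' hg)
    have hM : Free τ (Supp F q fr.full) := by
      by_cases hg : Good q (n - 1)
      · refine free_mono (Supp_mono fun i hi => Finset.mem_erase.2 ⟨fun e : i = fr.i0 => fr.away_full.1 (by rwa [← e]),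
          Finset.mem_univ i⟩) (huniv (n - 1) (by omega) hg ((Finset.univ : Finset (Fin n)).erase fr.i0) (by simp))
      · refine huniv (n - 2) (by omega) ?_ _ hs
        simp only [Good, Set.mem_insert_iff, Set.mem_singleton_iff, Prod.mk.injEq] at hg ⊢
        omega
    by_cases hq2 : q = 2
    swap
    · obtain ⟨g0, hg0, hσg⟩ := exists_gen hF U
      refine free_top_of_index hτ hc hp hk (index_frame hF fr hn le_rfl (hcard ▸ le_rfl))
        (free_frame_scalar hτ hc fr hne hZ hdk (d := (g0 : F) ^ (q + 1)) (pow_ne_zero _ g0.ne_zero) (x := 1)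
          (by simp) ?_ ?_ hM)
      · rw [one_pow, map_pow, hσg, ← pow_mul, eq_comm, div_eq_one_iff_eq (pow_ne_zero _ g0.ne_zero)]
        have h1 : (g0 : F) ^ (q ^ 2 - 1) = 1 := (pow_unit_eq_one_iff hg0 _).2 dvd_rfl
        rw [show q * (q + 1) = q + 1 + (q ^ 2 - 1) by
          have : 1 ≤ q ^ 2 := Nat.one_le_pow _ _ (by omega)
          zify [this]; ring, pow_add, h1, mul_one]
      · rw [mul_one, map_pow, hσg, ← pow_mul, Ne, pow_unit_eq_one_iff hg0]
        intro hd
        have hq3 : 3 ≤ q := by omega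
        have h2 : q ^ 2 - 1 = (q + 1) * (q - 1) := by rw [← Nat.sq_sub_sq, one_pow]
        rw [h2, mul_comm q (q + 1), Nat.mul_dvd_mul_iff_left (by omega)] at hd
        have h1 : q - 1 ∣ 1 := by
          have := Nat.dvd_sub hd (dvd_refl (q - 1))
          rwa [show q - (q - 1) = 1 by omega] at this
        have := Nat.le_of_dvd one_pos h1
        omega
    subst hq2
    obtain ⟨ζ, hζo, hζn, -⟩ := exists_zeta hF U
    have hζ3 : (ζ : F) ^ 3 = 1 := (pow_unit_eq_one_iff hζo 3).2 dvd_rfl
    have hζ1 : (ζ : F) ≠ 1 := fun e => by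
      have h1 := (pow_unit_eq_one_iff hζo 1).1 (by rw [pow_one, e])
      norm_num at h1
    by_cases h30 : n % 3 = 0
    · refine free_frame_star hF rfl hp hτ hc hk fr (by omega) hne hdk fun T hT => ?_
      rcases hT with hT | hT
      · refine huniv (n - 1) (by omega) ?_ T hT
        simp only [Good, Set.mem_insert_iff, Set.mem_singleton_iff, Prod.mk.injEq]
        omega
      · refine huniv (n - 2) (by omega) ?_ T hT
        simp only [Good, Set.mem_insert_iff, Set.mem_singleton_iff, Prod.mk.injEq]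
        omega
    have hmod : ∀ k, (ζ : F) ^ k = (ζ : F) ^ (k % 3) := fun k => by
      conv_lhs => rw [← Nat.div_add_mod k 3, pow_add, pow_mul, hζ3, one_pow, one_mul]
    by_cases h31 : n % 3 = 1
    · refine free_top_of_index hτ hc hp hk (index_frame hF fr hn le_rfl (hcard ▸ le_rfl))
        (free_frame_scalar hτ hc fr hne hZ hdk (d := (ζ : F)) ζ.ne_zero (x := (ζ : F) ^ 2)
          (by rw [map_pow, ← mul_pow, hζn, one_pow]) ?_ ?_ hM)
      · rw [U.hσ, ← pow_mul, hs, hmod, show 2 * (n - 2) % 3 = 1 by omega, eq_div_iff ζ.ne_zero, pow_one, sq]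
      · rw [U.hσ, ← pow_add, hmod, show (2 + 2) % 3 = 1 by norm_num, pow_one]
        exact hζ1
    · refine free_top_of_index hτ hc hp hk (index_frame hF fr hn le_rfl (hcard ▸ le_rfl))
        (free_frame_scalar hτ hc fr hne hZ hdk (d := 1) one_ne_zero (x := (ζ : F)) hζn ?_ ?_ hM)
      · rw [hs, hmod, show (n - 2) % 3 = 0 by omega, pow_zero, map_one, div_one]
      · rw [map_one, one_mul]
        exact hζ1

end CfsgLib.Known.SULift
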