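import Cfsg.Agent.Lib.Known.SULift.Frame
import Cfsg.Agent.Lib.Known.SULift.Prime

/-!
# Torus elements and coordinates of the radical
-/

set_option autoImplicit false
set_option linter.unusedSectionVars false

namespace CfsgLib.Known.SULift

open Matrix Cfsg CfsgLib.Chev.CT.Phan
open scoped commutatorElement

universe u

variable {F : Type u} [Field F] [Fintype F] {q n : ℕ}

theorem exists_prime_pow (hF : Fintype.card F = q ^ 2) (p : ℕ) [CharP F p] :
    ∃ f : ℕ, 1 ≤ f ∧ q = p ^ f := by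
  obtain ⟨k, hp, hk⟩ := FiniteField.card F p
  obtain ⟨f, -, hf⟩ := (Nat.dvd_prime_pow hp).1 (show q ∣ p ^ (k : ℕ) by rw [← hk, hF]; exact dvd_pow_self q two_ne_zero)
  exact ⟨f, Nat.one_le_iff_ne_zero.2 fun e => by
    have := CfsgLib.Classical.two_le_q hF
    subst e; rw [hf] at this; norm_num at this, hf⟩

theorem not_dvd_pow_add_one {p f : ℕ} (hp : p.Prime) (hf : 1 ≤ f) (hq : 5 ≤ p ^ f) (r : ℕ) :
    ¬ p ^ f - 1 ∣ p ^ r + 1 := by
  intro h
  have h1 : 1 ≤ p ^ f := Nat.one_le_pow _ _ hp.pos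
  have hmod : p ^ r ≡ p ^ (r % f) [MOD p ^ f - 1] := by
    conv_lhs => rw [← Nat.div_add_mod r f, pow_add, pow_mul]
    have h2 : p ^ f ≡ 1 [MOD p ^ f - 1] := ((Nat.modEq_iff_dvd' h1).2 dvd_rfl).symm
    simpa using (h2.pow (r / f)).mul_right (p ^ (r % f))
  have h3 : p ^ f - 1 ∣ p ^ (r % f) + 1 := (Nat.ModEq.dvd_iff (hmod.add_right 1) dvd_rfl).1 h
  have h4 : p ^ (r % f) * p ≤ p ^ f := by
    rw [← pow_succ]; exact Nat.pow_le_pow_right hp.pos (Nat.mod_lt _ hf)
  have h5 := Nat.le_of_dvd (Nat.succ_pos _) h3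
  have h6 : p ^ (r % f) * 2 ≤ p ^ (r % f) * p := Nat.mul_le_mul_left _ hp.two_le
  omega

theorem pow_mod_period {b m k : ℕ} (h : b ^ k ≡ 1 [MOD m]) (r : ℕ) : b ^ r ≡ b ^ (r % k) [MOD m] := by
  conv_lhs => rw [← Nat.div_add_mod r k, pow_add, pow_mul]
  simpa using (h.pow (r / k)).mul_right (b ^ (r % k))

theorem not_dvd_small (p q : ℕ) (h : (p = 3 ∧ q = 3) ∨ (p = 2 ∧ q = 4)) (r : ℕ) :
    ¬ q ^ 2 - 1 ∣ (2 * q - 1) * p ^ r + (2 * q - 1) := by
  intro hd
  rcases h with ⟨rfl, rfl⟩ | ⟨rfl, rfl⟩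
  · have h2 := (Nat.ModEq.dvd_iff (((pow_mod_period (b := 3) (k := 2) (m := 8) (by decide) r).mul_left 5).add_right 5)
      dvd_rfl).1 hd
    have := Nat.mod_lt r (show 0 < 2 by norm_num)
    interval_cases hr : r % 2 <;> norm_num at h2
  · have h2 := (Nat.ModEq.dvd_iff (((pow_mod_period (b := 2) (k := 4) (m := 15) (by decide) r).mul_left 7).add_right 7)
      dvd_rfl).1 hd
    have := Nat.mod_lt r (show 0 < 4 by norm_num)
    interval_cases hr : r % 4 <;> norm_num at h2

theorem not_dvd_four (r : ℕ) : ¬ 15 ∣ 10 * 2 ^ r + 1 := by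
  intro hd
  have h2 := (Nat.ModEq.dvd_iff (((pow_mod_period (b := 2) (k := 4) (m := 15) (by decide) r).mul_left 10).add_right 1)
    dvd_rfl).1 hd
  have := Nat.mod_lt r (show 0 < 4 by norm_num)
  interval_cases hr : r % 4 <;> norm_num at h2

/-- An element fixing the basis vectors outside `T` is supported on `T`. -/
theorem mem_Supp_of_fix (U : UF F q) {T : Finset (Fin n)} {g : SU n F q}
    (h : ∀ c, c ∉ T → mat g *ᵥ Pi.single c 1 = Pi.single c 1) : g ∈ Supp F q T := by
  refine mem_Supp_apply.2 fun i j hij => ?_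
  by_cases hj : j ∈ T
  · have hi : i ∉ T := fun hi => hij ⟨hi, hj⟩
    have e := mat_form g (Pi.single j (1 : F)) (Pi.single i 1)
    rw [h i hi, Frame.hf_single_r U, Frame.hf_single_r U, mulVec_single_one] at e
    simpa [Pi.single_apply] using e
  · have e := congrFun (h j hj) i
    rw [mulVec_single_one] at e
    simpa [Pi.single_apply] using e

namespace Frame

variable {U : UF F q} (fr : Frame U n)

/-- All the coordinates away from the frame. -/
def full : Finset (Fin n) := ({fr.i0, fr.i1} : Finset (Fin n))ᶜ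

theorem away_full : fr.Away fr.full := fr.away_compl

theorem card_full : fr.full.card = n - 2 := by
  rw [full, Finset.card_compl, Fintype.card_fin, Finset.card_pair fr.h01]

theorem prod_wt (d : F) (u : Fin n → F) : ∏ i, fr.wt d u i = d * (U.σ d)⁻¹ * ∏ i ∈ fr.full, u i := by
  rw [← Finset.prod_mul_prod_compl ({fr.i0, fr.i1} : Finset (Fin n)), Finset.prod_pair fr.h01]
  rw [show fr.wt d u fr.i0 = d from if_pos rfl,
    show fr.wt d u fr.i1 = (U.σ d)⁻¹ from by simp [wt, fr.h01.symm]]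
  refine congrArg (d * (U.σ d)⁻¹ * ·) (Finset.prod_congr rfl fun i hi => ?_)
  simp only [full, Finset.mem_compl, Finset.mem_insert, Finset.mem_singleton, not_or] at hi
  simp [wt, hi]

/-- A coordinate embedded in the vectors supported on `S`. -/
def inj {S : Finset (Fin n)} (k : S) : F →+ coords F S :=
  AddMonoidHom.mk' (fun a => ⟨Pi.single k.1 a, single_mem k.2 a⟩) fun a b =>
    Subtype.ext (Pi.single_add (f := fun _ : Fin n => F) k.1 a b)

theorem inj_val {S : Finset (Fin n)} (k : S) (a : F) :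
    ((inj k a : coords F S) : Fin n → F) = Pi.single k.1 a := rfl

theorem eq_sum_inj {S : Finset (Fin n)} (v : coords F S) : v = ∑ k : S, inj k (v.1 k) := by
  refine Subtype.ext (funext fun i => ?_)
  rw [AddSubgroup.val_finset_sum, Finset.sum_apply]
  by_cases hi : i ∈ S
  · rw [Finset.sum_eq_single (⟨i, hi⟩ : S)]
    · rw [inj_val, Pi.single_eq_same]
    · intro k _ hk
      rw [inj_val]
      exact Pi.single_eq_of_ne (fun e => hk (Subtype.ext e.symm)) _
    · simp
  · rw [v.2 i hi]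
    refine (Finset.sum_eq_zero fun k _ => ?_).symm
    rw [inj_val]
    exact Pi.single_eq_of_ne (fun e : i = k.1 => hi (by rw [e]; exact k.2)) _

theorem inj_mem {S : Finset (Fin n)} (H : AddSubgroup (coords F S)) (h : ∀ k a, inj k a ∈ H) : H = ⊤ :=
  eq_top_iff.2 fun v _ => by rw [eq_sum_inj v]; exact AddSubgroup.sum_mem _ fun k _ => h k _

theorem away_subset_full {S : Finset (Fin n)} (hS : fr.Away S) : S ⊆ fr.full := fun i hi => by
  simp only [full, Finset.mem_compl, Finset.mem_insert, Finset.mem_singleton, not_or]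
  exact ⟨fun e => hS.1 (e ▸ hi), fun e => hS.2 (e ▸ hi)⟩

/-- Torus elements acting with given weights. -/
theorem exists_torus {S : Finset (Fin n)} (hS : fr.Away S) (hne : S.Nonempty) {d : F} (hd : d ≠ 0)
    (u : Fin n → F) (hu : ∀ i ∈ fr.full, u i * U.σ (u i) = 1) (hprod : ∏ i ∈ fr.full, u i = U.σ d / d) :
    ∃ g L, mat g = torusMat fr d u ∧ (fr.rad hS hne).Acts g L ∧
      ∀ (k : S) a, L (inj k a) = inj k (U.σ d * u k * a) := by
  have hd' : U.σ d ≠ 0 := by simpa using hd
  have hu' : ∀ i, i ≠ fr.i0 → i ≠ fr.i1 → u i * U.σ (u i) = 1 := fun i h0 h1 => hu i (by simp [full, h0, h1])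
  let g : SU n F q := fr.torus hd hu' (by rw [prod_wt, hprod]; field_simp)
  have hg : mat g = torusMat fr d u := rfl
  have hgS : ∀ v ∈ coords F S, mat g *ᵥ v ∈ coords F S := fun v hv => by
    rw [fr.torus_coords hS hv hg]
    exact fun i hi => by simp [hv i hi]
  refine ⟨g, lin U g d hgS, hg, fr.acts hS hne (fr.torus_e hg) hgS, fun k a => Subtype.ext ?_⟩
  show U.σ d • (mat g *ᵥ (inj k a : coords F S).1) = (inj k (U.σ d * u k * a) : coords F S).1
  rw [inj_val, inj_val]
  rw [fr.torus_coords hS (single_mem k.2 a) hg]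
  funext i
  by_cases hi : i = k.1
  · subst hi; simp [mul_assoc]
  · simp [hi]

/-- A torus element fixing the coordinates outside `T`. -/
theorem torus_mem_Supp {T : Finset (Fin n)} (h0 : fr.i0 ∈ T) (h1 : fr.i1 ∈ T) {d : F} {u : Fin n → F}
    (hu : ∀ c, c ∉ T → u c = 1) {g : SU n F q} (hg : mat g = torusMat fr d u) : g ∈ Supp F q T :=
  mem_Supp_of_fix U fun c hc => by
    have hA : fr.Away ({c} : Finset (Fin n)) :=
      ⟨fun h => hc (Finset.mem_singleton.1 h ▸ h0), fun h => hc (Finset.mem_singleton.1 h ▸ h1)⟩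
    rw [fr.torus_coords hA (single_mem (Finset.mem_singleton_self c) 1) hg]
    funext i
    by_cases hi : i = c
    · subst hi; simp [hu i hc]
    · simp [hi]

theorem Q_mono {S T : Finset (Fin n)} (hS : fr.Away S) (hT : fr.Away T) (h : S ⊆ T) : fr.Q S hS ≤ fr.Q T hT := by
  rintro g ⟨v, hv, a, ha, eg⟩
  exact ⟨v, fun i hi => hv i fun e => hi (h e), a, ha, eg⟩

theorem Q_le_sup {A B : Finset (Fin n)} (hA : fr.Away A) (hB : fr.Away B) (hAB : fr.Away (A ∪ B)) :
    fr.Q (A ∪ B) hAB ≤ fr.Q A hA ⊔ fr.Q B hB := by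
  rintro g ⟨v, hv, a, ha, eg⟩
  let v1 : Fin n → F := fun i => if i ∈ A then v i else 0
  let v2 : Fin n → F := fun i => if i ∈ A then 0 else v i
  have h1 : v1 ∈ coords F A := fun i hi => if_neg hi
  have h2 : v2 ∈ coords F B := fun i hi => by
    by_cases hiA : i ∈ A
    · exact if_pos hiA
    · show (if i ∈ A then 0 else v i) = 0
      rw [if_neg hiA]; exact hv i (by simp [hiA, hi])
  obtain ⟨c, hc⟩ := exists_value U v2
  have hsum : v1 + v2 = v := funext fun i => by by_cases h : i ∈ A <;> simp [v1, v2, h]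
  have horth : hf q v2 v1 = 0 := by
    rw [U.hf_eq]
    exact Finset.sum_eq_zero fun i _ => by by_cases h : i ∈ A <;> simp [v1, v2, h]
  have horth' : hf q v1 v2 = 0 := U.swap_eq_zero horth
  have ha1 : a - c + U.σ (a - c) + hf q v1 v1 = 0 := by
    rw [← hsum, U.add_l, U.add_r, U.add_r, horth, horth'] at ha
    rw [map_sub]
    linear_combination ha - hc
  have e : g = fr.tEl hA h1 ha1 * fr.tEl hB h2 hc := mat_inj (by
    rw [mat_mul, eg]
    show _ = fr.TM v1 (a - c) * fr.TM v2 c
    rw [fr.TM_mul hAB (fun i hi => h1 i fun e => hi (Finset.mem_union_left _ e))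
      (fun i hi => h2 i fun e => hi (Finset.mem_union_right _ e)), hsum, horth, sub_zero, sub_add_cancel])
  rw [e]
  exact mul_mem (Subgroup.mem_sup_left (fr.tEl_mem hA h1 ha1)) (Subgroup.mem_sup_right (fr.tEl_mem hB h2 hc))

/-- The radical is generated by the parts on single coordinates. -/
theorem Q_le_of_singles {S : Finset (Fin n)} (hS : fr.Away S) (hne : S.Nonempty) (K : Subgroup (SU n F q))
    (h : ∀ k ∈ S, ∀ hk : fr.Away ({k} : Finset (Fin n)), fr.Q {k} hk ≤ K) : fr.Q S hS ≤ K := by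
  classical
  induction hne using Finset.Nonempty.cons_induction with
  | singleton a => exact h a (Finset.mem_singleton_self a) hS
  | cons a T ha hT ih =>
    have hA : fr.Away ({a} : Finset (Fin n)) :=
      ⟨fun e => hS.1 (by simp at e; simp [e]), fun e => hS.2 (by simp at e; simp [e])⟩
    have hT' : fr.Away T := ⟨fun e => hS.1 (by simp [e]), fun e => hS.2 (by simp [e])⟩
    have hU : fr.Away ({a} ∪ T) := ⟨by simpa using hS.1, by simpa using hS.2⟩
    refine (fr.Q_mono hS hU (fun i hi => by simpa using hi)).trans ((fr.Q_le_sup hA hT' hU).trans (sup_le ?_ ?_))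
    · exact h a (by simp) hA
    · exact ih hT' fun k hk => h k (by simp [hk])

/-- The stabiliser part has the full exponent of the characteristic. -/
theorem two_mul_factorization_su (hF : Fintype.card F = q ^ 2) {p f : ℕ} [CharP F p] (hf : q = p ^ f) {m : ℕ}
    (hm : 1 ≤ m) : 2 * (Nat.card (SU m F q)).factorization p = f * (m * (m - 1)) := by
  have hp : p.Prime := by obtain ⟨_, hp, -⟩ := FiniteField.card F p; exact hp
  have hq := CfsgLib.Classical.two_le_q hF
  have hf0 : f ≠ 0 := fun e => by subst e; rw [hf] at hq; norm_num at hq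
  have h := CfsgLib.Classical.card_su (n := m) hF hm
  have hpq : p ∣ q := hf ▸ dvd_pow_self p hf0
  have e : CfsgLib.Classical.unitaryOrder q m = q ^ (m * (m - 1) / 2) * ∏ i ∈ Finset.range m, cycA q (i + 1) := by
    rw [CfsgLib.Classical.unitaryOrder]
    congr 1
    exact Finset.prod_congr rfl fun i _ => (cycA_eq q i hq).symm
  have hcyc : ∀ i, ¬ p ∣ cycA q (i + 1) := fun i hd => by
    rw [cycA, ← Int.natCast_dvd] at hd
    have h1 : (p : ℤ) ∣ (-(q : ℤ)) ^ (i + 1) :=
      dvd_pow (dvd_neg.2 (Int.natCast_dvd_natCast.2 hpq)) i.succ_ne_zero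
    exact hp.not_dvd_one (Int.natCast_dvd_natCast.1 (by simpa using dvd_sub h1 hd))
  have h2 := congrArg (fun N => N.factorization p) h
  simp only [e, Nat.factorization_mul (by omega : q + 1 ≠ 0) Nat.card_pos.ne', Finsupp.add_apply,
    Nat.factorization_mul (pow_ne_zero _ (by omega : q ≠ 0)) (Finset.prod_ne_zero_iff.2 fun i _ => cycA_ne q i hq),
    Nat.factorization_prod_apply fun i (_ : i ∈ Finset.range m) => cycA_ne q i hq,
    Nat.factorization_eq_zero_of_not_dvd (hcyc _), Finset.sum_const_zero, add_zero] at h2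
  rw [Nat.factorization_eq_zero_of_not_dvd (fun hd => hp.not_dvd_one ((Nat.dvd_add_right hpq).1 hd)), zero_add,
    hf, ← pow_mul, hp.factorization_pow, Finsupp.single_eq_same] at h2
  rw [← hf] at h2
  rw [h2, mul_comm 2, mul_assoc, Nat.div_mul_cancel]
  exact (Nat.even_mul_pred_self m).two_dvd

end Frame

end CfsgLib.Known.SULift
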