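import Cfsg.Agent.Lib.Known.SULift.RadTools

/-!
# The part of the multiplier at the characteristic
-/

set_option autoImplicit false
set_option linter.unusedSectionVars false

namespace CfsgLib.Known.SULift

open Matrix Cfsg CfsgLib.Chev.CT.Phan Subgroup
open scoped commutatorElement

universe u

variable {F : Type u} [Field F] [Fintype F] {q n : ℕ}

/-- Degrees with no exceptional part of the multiplier. -/
def Good (q m : ℕ) : Prop := 3 ≤ m ∧ (m, q) ∉ ({(4, 2), (4, 3), (6, 2)} : Set (ℕ × ℕ))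

theorem exists_gen (hF : Fintype.card F = q ^ 2) (U : UF F q) :
    ∃ g : Fˣ, orderOf g = q ^ 2 - 1 ∧ U.σ (g : F) = (g : F) ^ q := by
  obtain ⟨g, hg⟩ := IsCyclic.exists_ofOrder_eq_natCard (α := Fˣ)
  exact ⟨g, by rw [hg, Nat.card_units, Nat.card_eq_fintype_card, hF], U.hσ _⟩

theorem pow_unit_eq_one_iff {g : Fˣ} {o : ℕ} (hg : orderOf g = o) (k : ℕ) : (g : F) ^ k = 1 ↔ o ∣ k := by
  rw [← Units.val_pow_eq_pow_val, Units.val_eq_one, ← orderOf_dvd_iff_pow_eq_one, hg]

variable {E : Type u} [Group E] [Finite E] {σ : E →* SU n F q}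
variable {U : UF F q} {S : Finset (Fin n)}

/-- Distinct coordinates of the full set. -/
theorem prod_two {d : F} {k l : Fin n} {s : Finset (Fin n)} (hk : k ∈ s) (hl : l ∈ s) (hkl : k ≠ l) {x y : F}
    (h : x * y = d) : ∏ i ∈ s, (if i = k then x else if i = l then y else 1) = d := by
  rw [← Finset.prod_subset (s₁ := {k, l}) (by simp [Finset.insert_subset_iff, hk, hl]) fun i _ hi => by
    simp only [Finset.mem_insert, Finset.mem_singleton, not_or] at hi
    simp [hi], Finset.prod_pair hkl]
  simpa [hkl.symm] using h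

theorem two_weights (U : UF F q) {k l : Fin n} {x y : F} (hx : x * U.σ x = 1) (hy : y * U.σ y = 1) (i : Fin n) :
    (if i = k then x else if i = l then y else 1) * U.σ (if i = k then x else if i = l then y else 1) = 1 := by
  split_ifs <;> simp [hx, hy]

/-- The commutators of lifts with the centre of the radical. -/
theorem zcentral_frame (hF : Fintype.card F = q ^ 2) (hσ : Function.Surjective σ) (hc : σ.ker ≤ center E)
    (fr : Frame U n) (hne : fr.full.Nonempty) (h : 2 ≤ fr.full.card ∨ 3 ≤ q) :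
    (fr.rad fr.away_full hne).ZCentral σ := by
  classical
  obtain ⟨ζ, hζo, hζn, -⟩ := exists_zeta hF U
  set R := fr.rad fr.away_full hne
  refine R.zcentral hσ hc {γ | R.Acts γ.1 γ.2 ∧ ∀ z ∈ R.Q, R.pr z = 0 → γ.1 * z * γ.1⁻¹ = z}
    (fun γ hγ => hγ.1) (fun γ hγ => hγ.2) ?_
  refine Frame.inj_mem _ fun k a => ?_
  obtain ⟨g, L, μ, hμ, hfix, hact, hL⟩ : ∃ g L, ∃ μ : F, μ ≠ 1 ∧ (∀ z ∈ R.Q, R.pr z = 0 → g * z * g⁻¹ = z) ∧
      R.Acts g L ∧ ∀ b, L (Frame.inj k b) = Frame.inj k (μ * b) := by
    have hζ1 : (ζ : F) ≠ 1 := fun e => by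
      have h1 := (pow_unit_eq_one_iff hζo 1).1 (by rw [pow_one, e])
      have := Nat.le_of_dvd one_pos h1
      have := CfsgLib.Classical.two_le_q hF
      omega
    have hζinv : ((ζ⁻¹ : Fˣ) : F) * U.σ ((ζ⁻¹ : Fˣ) : F) = 1 := by
      rw [Units.val_inv_eq_inv_val, map_inv₀, ← mul_inv, hζn, inv_one]
    by_cases hs : 2 ≤ fr.full.card
    · obtain ⟨l, hl, hlk⟩ := Finset.exists_mem_ne (by omega : 1 < fr.full.card) k.1
      obtain ⟨g, L, hg, hact, hL⟩ := fr.exists_torus fr.away_full hne (d := 1) one_ne_zero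
        (fun i => if i = k.1 then (ζ : F) else if i = l then ((ζ⁻¹ : Fˣ) : F) else 1)
        (fun i _ => two_weights U hζn hζinv i) (prod_two k.2 hl hlk.symm (by simp))
      exact ⟨g, L, ζ, hζ1, fun z hz hz0 => fr.fix_centre fr.away_full (fr.torus_e hg) (by simp) hz hz0, hact,
        fun b => by rw [hL k b]; simp⟩
    · have hq3 : 3 ≤ q := h.resolve_left hs
      have hfull : fr.full = {k.1} := by
        refine (Finset.eq_of_subset_of_card_le (Finset.singleton_subset_iff.2 k.2) ?_).symm
        rw [Finset.card_singleton]; omega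
      have hσζ : U.σ (ζ : F) = (ζ : F)⁻¹ := eq_inv_of_mul_eq_one_right hζn
      obtain ⟨g, L, hg, hact, hL⟩ := fr.exists_torus fr.away_full hne (d := (ζ : F)) ζ.ne_zero
        (fun _ => U.σ (ζ : F) / ζ) (fun i _ => by
          rw [map_div₀, U.hσσ, div_mul_div_comm, mul_comm (U.σ (ζ : F)), div_self]
          simp [hζn, mul_comm])
        (by rw [hfull, Finset.prod_singleton])
      refine ⟨g, L, U.σ ζ * (U.σ ζ / ζ), fun e => ?_,
        fun z hz hz0 => fr.fix_centre fr.away_full (fr.torus_e hg) hζn hz hz0, hact, fun b => hL k b⟩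
      rw [hσζ] at e
      have h3 : (ζ : F) ^ 3 = 1 := by
        have h0 := ζ.ne_zero
        field_simp at e
        linear_combination -e
      have := Nat.le_of_dvd (by norm_num) ((pow_unit_eq_one_iff hζo 3).1 h3)
      omega
  refine AddSubgroup.subset_closure ⟨(g, L), ⟨hact, hfix⟩, Frame.inj k (a / (μ - 1)), ?_⟩
  show L (Frame.inj k (a / (μ - 1))) - Frame.inj k (a / (μ - 1)) = _
  rw [hL, ← map_sub]
  congr 1
  have : μ - 1 ≠ 0 := sub_ne_zero.2 hμ
  field_simp

/-- The values of the commutator form lie in a subgroup containing those on single coordinates. -/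
theorem form_mem_of_singles (hσ : Function.Surjective σ) (hc : σ.ker ≤ center E) {fr : Frame U n}
    {hS : fr.Away S} {hne : S.Nonempty} (hZ : (fr.rad hS hne).ZCentral σ) (H : Subgroup E)
    (h : ∀ k l a b, (fr.rad hS hne).form hσ (Frame.inj k a) (Frame.inj l b) ∈ H) (v w : Frame.coords F S) :
    (fr.rad hS hne).form hσ v w ∈ H := by
  set R := fr.rad hS hne
  have h0 : ∀ v, R.form hσ 0 v = 1 := fun v => by
    have := R.form_add_left hσ hc hZ 0 0 v; rwa [add_zero, left_eq_mul] at this
  have h0' : ∀ v, R.form hσ v 0 = 1 := fun v => by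
    have := R.form_add_right hσ hc hZ v 0 0; rwa [add_zero, left_eq_mul] at this
  have hr : ∀ k a, (∀ w, R.form hσ (Frame.inj k a) w ∈ H) := fun k a => by
    let T : AddSubgroup (Frame.coords F S) :=
      { carrier := {w | R.form hσ (Frame.inj k a) w ∈ H}
        zero_mem' := by show _ ∈ H; rw [h0']; exact one_mem _
        add_mem' := fun {x y} hx hy => by show _ ∈ H; rw [R.form_add_right hσ hc hZ]; exact mul_mem hx hy
        neg_mem' := fun {x} hx => by
          show _ ∈ H
          have e := R.form_add_right hσ hc hZ (Frame.inj k a) x (-x)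
          rw [add_neg_cancel, h0'] at e
          rw [eq_inv_of_mul_eq_one_right e.symm]; exact inv_mem hx }
    have hT : T = ⊤ := Frame.inj_mem T fun l b => h k l a b
    exact fun w => (hT ▸ AddSubgroup.mem_top w : w ∈ T)
  let T : AddSubgroup (Frame.coords F S) :=
    { carrier := {v | ∀ w, R.form hσ v w ∈ H}
      zero_mem' := fun w => by rw [h0]; exact one_mem _
      add_mem' := fun {x y} hx hy w => by rw [R.form_add_left hσ hc hZ]; exact mul_mem (hx w) (hy w)
      neg_mem' := fun {x} hx w => by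
        have e := R.form_add_left hσ hc hZ x (-x) w
        rw [add_neg_cancel, h0] at e
        rw [eq_inv_of_mul_eq_one_right e.symm]; exact inv_mem (hx w) }
  have hT : T = ⊤ := Frame.inj_mem T fun k a => hr k a
  exact (hT ▸ AddSubgroup.mem_top v : v ∈ T) w

/-- The derived group of the preimage of the radical meets the kernel trivially, more than two elements in the
field of norms. -/
theorem der_ker_big (hF : Fintype.card F = q ^ 2) {p : ℕ} [CharP F p] (hp : p.Prime)
    (hσ : Function.Surjective σ) (hc : σ.ker ≤ center E) (hk : IsPGroup p σ.ker) (fr : Frame U n)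
    (hne : fr.full.Nonempty) (hq : 3 ≤ q) (h43 : ¬(fr.full.card = 2 ∧ q = 3))
    {y : E} (hy : y ∈ (fr.rad fr.away_full hne).der σ) (hy0 : σ y = 1) : y = 1 := by
  classical
  haveI := Fact.mk hp
  set R := fr.rad fr.away_full hne
  have hZ : R.ZCentral σ := zcentral_frame hF hσ hc fr hne (Or.inr hq)
  obtain ⟨f, hf1, hf⟩ := exists_prime_pow hF p
  obtain ⟨g0, hg0, hσg⟩ := exists_gen hF U
  set o := q ^ 2 - 1
  have hq2 : 9 ≤ q ^ 2 := by nlinarith
  have ho : ¬ p ∣ o := fun hd => by
    have h1 : p ∣ q ^ 2 := hf ▸ dvd_pow (dvd_pow_self p (by omega)) two_ne_zero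
    have : p ∣ 1 := by
      have := Nat.dvd_sub h1 hd
      rwa [show q ^ 2 - o = 1 by omega] at this
    exact hp.not_dvd_one this
  have hpo : ∀ x : F, x ≠ 0 → x ^ o = 1 := fun x hx => by
    have := FiniteField.pow_card_sub_one_eq_one x hx
    rwa [hF] at this
  -- the torus elements used
  have hgood : ∀ k l : fr.full, ∃ γ : SU n F q × (Frame.coords F fr.full →+ Frame.coords F fr.full), ∃ μ : fr.full → F,
      R.Acts γ.1 γ.2 ∧ (∀ i a, γ.2 (Frame.inj i a) = Frame.inj i (μ i * a)) ∧ (∀ i, μ i ≠ 0) ∧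
        ∀ r : ℕ, μ k ^ p ^ r * μ l ≠ 1 := by
    intro k l
    have hd : (g0 : F) ≠ 0 := g0.ne_zero
    have hw : U.σ (g0 : F) / g0 * U.σ (U.σ (g0 : F) / g0) = 1 := by
      rw [map_div₀, U.hσσ, div_mul_div_comm, mul_comm (U.σ (g0 : F)), div_self]
      simp
    have hone : ∀ (j : Fin n) (_ : j ∈ fr.full), ∃ g L, mat g = Frame.torusMat fr (g0 : F)
        (fun i => if i = j then U.σ (g0 : F) / g0 else 1) ∧ R.Acts g L ∧ ∀ (i : fr.full) a, L (Frame.inj i a) =
          Frame.inj i (U.σ (g0 : F) * (if i.1 = j then U.σ (g0 : F) / g0 else 1) * a) := fun j hj =>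
      fr.exists_torus fr.away_full hne hd (fun i => if i = j then U.σ (g0 : F) / g0 else 1)
        (fun i _ => by
          by_cases h : i = j
          · simp only [h, if_true]; exact hw
          · simp [h]) (by
        rw [Finset.prod_ite_eq' fr.full j, if_pos hj])
    have hqpow : ∀ j : ℕ, 1 ≤ j → (g0 : F) ^ (q * j) = U.σ ((g0 : F) ^ j) := fun j _ => by
      rw [map_pow, hσg, pow_mul]
    by_cases hcase : 5 ≤ q ∨ k = l
    · obtain ⟨g, L, hg, hact, hL⟩ := hone k.1 k.2
      refine ⟨(g, L), _, hact, fun i a => hL i a, fun i => ?_, fun r e => ?_⟩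
      · have h1 : U.σ (g0 : F) ≠ 0 := by simp
        refine mul_ne_zero h1 ?_
        split_ifs
        exacts [div_ne_zero h1 hd, one_ne_zero]
      have h2 : (2 * q - 1) + 1 = q + q := by omega
      have hμk : U.σ (g0 : F) * (U.σ (g0 : F) / g0) = (g0 : F) ^ (2 * q - 1) := by
        rw [hσg, mul_div_assoc', eq_comm, eq_div_iff hd, ← pow_succ, h2, pow_add]
      simp only [if_true, hμk] at e
      rw [← pow_mul] at e
      by_cases hkl : k = l
      · subst hkl
        rw [if_pos rfl, hμk, ← pow_add, pow_unit_eq_one_iff hg0] at e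
        by_cases h5 : 5 ≤ q
        · have h1 : q - 1 ∣ o := by
            refine ⟨q + 1, ?_⟩
            show q ^ 2 - 1 = _
            rw [mul_comm, ← Nat.sq_sub_sq, one_pow]
          obtain ⟨c, hc'⟩ := h1.trans e
          refine not_dvd_pow_add_one hp hf1 (hf ▸ h5) r (hf ▸ ?_)
          refine (Nat.Coprime.dvd_of_dvd_mul_left ?_ (show q - 1 ∣ (2 * q - 1) * (p ^ r + 1) from ⟨c, by
            rw [← hc']; ring⟩))
          have : 2 * q - 1 = 2 * (q - 1) + 1 := by omega
          rw [this, Nat.coprime_mul_right_add_right]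
          exact Nat.coprime_one_right _
        · have hq34 : (p = 3 ∧ q = 3) ∨ (p = 2 ∧ q = 4) := by
            have hpd : p ∣ q := hf ▸ dvd_pow_self p (by omega)
            interval_cases q
            · exact Or.inl ⟨(Nat.prime_dvd_prime_iff_eq hp Nat.prime_three).1 hpd, rfl⟩
            · exact Or.inr ⟨(Nat.prime_dvd_prime_iff_eq hp Nat.prime_two).1
                (hp.dvd_of_dvd_pow (show p ∣ 2 ^ 2 from hpd)), rfl⟩
          exact not_dvd_small p q hq34 r e
      · have h5 : 5 ≤ q := hcase.resolve_right hkl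
        rw [if_neg fun e => hkl (Subtype.ext e).symm, mul_one, hσg, ← pow_add, pow_unit_eq_one_iff hg0] at e
        have h1 : q - 1 ∣ o := by
          refine ⟨q + 1, ?_⟩
          show q ^ 2 - 1 = _
          rw [mul_comm, ← Nat.sq_sub_sq, one_pow]
        refine not_dvd_pow_add_one hp hf1 (hf ▸ h5) r (hf ▸ ?_)
        have h3 : (2 * q - 1) * p ^ r + q = (q - 1) * (2 * p ^ r + 1) + (p ^ r + 1) := by
          obtain ⟨t, rfl⟩ : ∃ t, q = t + 1 := ⟨q - 1, by omega⟩
          simp only [show 2 * (t + 1) - 1 = 2 * t + 1 by omega, Nat.add_sub_cancel]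
          ring
        exact (Nat.dvd_add_right (dvd_mul_right _ _)).1 (h3 ▸ h1.trans e)
    · rw [not_or] at hcase
      obtain ⟨hq5, hkl⟩ := hcase
      have hkl' : k.1 ≠ l.1 := fun e => hkl (Subtype.ext e)
      obtain ⟨ζ, hζo, hζn, -⟩ := exists_zeta hF U
      by_cases hs : 3 ≤ fr.full.card
      · obtain ⟨j, hj, hjkl⟩ := Finset.exists_mem_notMem_of_card_lt_card (s := ({k.1, l.1} : Finset (Fin n)))
          (t := fr.full) (by rw [Finset.card_pair hkl']; omega)
        simp only [Finset.mem_insert, Finset.mem_singleton, not_or] at hjkl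
        obtain ⟨g, L, hg, hact, hL⟩ := fr.exists_torus fr.away_full hne (d := 1) one_ne_zero
          (fun i => if i = k.1 then (ζ : F) else if i = j then ((ζ⁻¹ : Fˣ) : F) else 1)
          (fun i _ => two_weights U hζn (by
            rw [Units.val_inv_eq_inv_val, map_inv₀, ← mul_inv, hζn, inv_one]) i)
          (prod_two k.2 hj (Ne.symm hjkl.1) (by simp))
        refine ⟨(g, L), _, hact, fun i a => hL i a, fun i => ?_, fun r e => ?_⟩
        · simp only [map_one, one_mul]
          split_ifs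
          exacts [ζ.ne_zero, (ζ⁻¹).ne_zero, one_ne_zero]
        simp only [map_one, one_mul, if_true, if_neg hkl'.symm, if_neg (Ne.symm hjkl.2), mul_one,
          pow_unit_eq_one_iff hζo] at e
        have hp' : p ∣ q := hf ▸ dvd_pow_self p (by omega)
        obtain ⟨i, -, hi⟩ := (Nat.dvd_prime_pow hp).1 e
        rcases Nat.eq_zero_or_pos i with rfl | hi0
        · rw [pow_zero] at hi; omega
        · exact hp.not_dvd_one ((Nat.dvd_add_right hp').1 (hi ▸ dvd_pow_self p hi0.ne'))
      · have hc2 : fr.full.card = 2 := le_antisymm (by omega) (Finset.one_lt_card.2 ⟨_, k.2, _, l.2, hkl'⟩)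
        have hq4 : q = 4 := by
          rcases Nat.lt_or_ge q 4 with h | h
          · exact absurd ⟨hc2, by omega⟩ h43
          · omega
        subst hq4
        obtain rfl : p = 2 := (Nat.prime_dvd_prime_iff_eq hp Nat.prime_two).1
          (hp.dvd_of_dvd_pow (show p ∣ 2 ^ 2 by rw [show (2 : ℕ) ^ 2 = p ^ f from hf]; exact dvd_pow_self p (by omega)))
        have h15 : (g0 : F) ^ 15 = 1 := (pow_unit_eq_one_iff hg0 15).2 (by simp [o])
        have hn6 : (g0 : F) ^ 6 * U.σ ((g0 : F) ^ 6) = 1 := by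
          rw [map_pow, hσg, ← pow_mul, ← pow_add, pow_unit_eq_one_iff hg0]
          norm_num [o]
        have hn12 : (g0 : F) ^ 12 * U.σ ((g0 : F) ^ 12) = 1 := by
          rw [map_pow, hσg, ← pow_mul, ← pow_add, pow_unit_eq_one_iff hg0]
          norm_num [o]
        obtain ⟨g, L, hg, hact, hL⟩ := fr.exists_torus fr.away_full hne hd
          (fun i => if i = k.1 then (g0 : F) ^ 6 else if i = l.1 then (g0 : F) ^ 12 else 1)
          (fun i _ => two_weights U hn6 hn12 i) (prod_two k.2 l.2 hkl' (by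
            rw [hσg, eq_div_iff hd, ← pow_add, ← pow_succ, show 6 + 12 + 1 = 15 + 4 by norm_num, pow_add, h15,
              one_mul]))
        refine ⟨(g, L), _, hact, fun i a => hL i a, fun i => ?_, fun r e => ?_⟩
        · have h1 : U.σ (g0 : F) ≠ 0 := by simp
          refine mul_ne_zero h1 ?_
          split_ifs
          exacts [pow_ne_zero _ hd, pow_ne_zero _ hd, one_ne_zero]
        simp only [if_true, if_neg hkl'.symm, hσg, ← pow_add, ← pow_mul] at e
        rw [pow_unit_eq_one_iff hg0] at e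
        refine not_dvd_four r ?_
        have h2 : 15 ∣ (4 + 6) * 2 ^ r + (4 + 12) := e
        omega
  choose γ μ hact hL hμ hgd using hgood
  let gs := (Finset.univ : Finset (fr.full × fr.full)).toList.map fun x => γ x.1 x.2
  refine R.der_ker_eq_one hσ hc hZ hp hk ho gs (fun x hx => ?_) (ι := fr.full × fr.full)
    (fun x => Set.range fun ab : F × F => ((Frame.inj x.1 ab.1 : Frame.coords F fr.full), Frame.inj x.2 ab.2))
    ?_ ?_ ?_ hy hy0
  · simp only [gs, List.mem_map] at hx
    obtain ⟨z, -, rfl⟩ := hx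
    exact hact _ _
  · rintro x hx ⟨i, j⟩ _ ⟨⟨a, b⟩, rfl⟩
    simp only [gs, List.mem_map] at hx
    obtain ⟨z, -, rfl⟩ := hx
    exact ⟨(μ z.1 z.2 i * a, μ z.1 z.2 j * b), Prod.ext (hL _ _ i a).symm (hL _ _ j b).symm⟩
  · intro v w
    refine form_mem_of_singles hσ hc hZ _ (fun k l a b => ?_) v w
    exact subset_closure ⟨_, Set.mem_iUnion.2 ⟨(k, l), (a, b), rfl⟩, rfl⟩
  · rintro ⟨k, l⟩
    refine ⟨γ k l, List.mem_map.2 ⟨(k, l), by simp, rfl⟩, ?_⟩
    rintro _ ⟨⟨a, b⟩, rfl⟩
    exact R.orbit_prod_eq_one hσ hc hZ (Frame.inj k) (Frame.inj l) (hμ k l l) (hL k l k) (hL k l l)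
      (hpo _ (hμ k l k)) (hpo _ (hμ k l l)) (hgd k l) a b

/-- The derived group of the preimage of the radical over the field with four elements. -/
theorem der_ker_two (hF : Fintype.card F = q ^ 2) (hq : q = 2) {p : ℕ} [CharP F p] (hp : p.Prime)
    (hσ : Function.Surjective σ) (hc : σ.ker ≤ center E) (hk : IsPGroup p σ.ker) (fr : Frame U n)
    (hne : fr.full.Nonempty) (hs : 3 ≤ fr.full.card)
    {y : E} (hy : y ∈ (fr.rad fr.away_full hne).der σ) (hy0 : σ y = 1) : y = 1 := by
  classical
  subst hq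
  haveI := Fact.mk hp
  set R := fr.rad fr.away_full hne
  have hZ : R.ZCentral σ := zcentral_frame hF hσ hc fr hne (Or.inl (by omega))
  obtain ⟨ζ, hζo, hζn, hζall⟩ := exists_zeta hF U
  have hp2 : p = 2 := by
    obtain ⟨f, hf1, hf⟩ := exists_prime_pow hF p
    exact (Nat.prime_dvd_prime_iff_eq hp Nat.prime_two).1 (hf ▸ dvd_pow_self p (by omega))
  subst hp2
  have h3p : ¬ 2 ∣ 3 := by decide
  -- symmetries of order three fixing the centre preserve the form
  have hinv : ∀ g L, R.Acts g L → g ^ 3 = 1 → (∀ z ∈ R.Q, R.pr z = 0 → g * z * g⁻¹ = z) →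
      ∀ a b, R.form hσ (L a) (L b) = R.form hσ a b := by
    intro g L hact hg3 hfix a b
    obtain ⟨e, he⟩ := hσ g
    rw [← R.conj_form hσ hc hZ hact he]
    have hm := R.form_mem hσ a b
    have hcom : Commute e (R.form hσ a b) := commute_coprime hc hp hk h3p (by rw [he, hg3]) (by
      rw [he]
      have := hfix _ (R.der_le hm) (R.pr_der hm)
      exact eq_mul_inv_iff_mul_eq.1 this.symm |>.symm)
    rw [hcom.eq, mul_inv_cancel_right]
  have hζ3 : (ζ : F) ^ 3 = 1 := (pow_unit_eq_one_iff hζo 3).2 dvd_rfl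
  have hζ1 : (ζ : F) ≠ 1 := fun e => by
    have h1 := (pow_unit_eq_one_iff hζo 1).1 (by rw [pow_one, e])
    norm_num at h1
  have hζinv : ((ζ⁻¹ : Fˣ) : F) * U.σ ((ζ⁻¹ : Fˣ) : F) = 1 := by
    rw [Units.val_inv_eq_inv_val, map_inv₀, ← mul_inv, hζn, inv_one]
  -- pairs of different coordinates
  have hoff : ∀ k l : fr.full, k ≠ l → ∀ a b, R.form hσ (Frame.inj k a) (Frame.inj l b) = 1 := by
    intro k l hkl
    have hkl' : k.1 ≠ l.1 := fun e => hkl (Subtype.ext e)
    obtain ⟨j, hj, hjkl⟩ := Finset.exists_mem_notMem_of_card_lt_card (s := ({k.1, l.1} : Finset (Fin n)))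
      (t := fr.full) (by rw [Finset.card_pair hkl']; omega)
    simp only [Finset.mem_insert, Finset.mem_singleton, not_or] at hjkl
    let u : Fin n → F := fun i => if i = k.1 then (ζ : F) else if i = j then ((ζ⁻¹ : Fˣ) : F) else 1
    have hu3 : ∀ i, u i ^ 3 = 1 := fun i => by
      simp only [u]
      split_ifs
      · exact hζ3
      · rw [Units.val_inv_eq_inv_val, inv_pow, hζ3, inv_one]
      · simp
    obtain ⟨g, L, hg, hact, hL⟩ := fr.exists_torus fr.away_full hne (d := 1) one_ne_zero u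
      (fun i _ => two_weights U hζn hζinv i) (prod_two k.2 hj (Ne.symm hjkl.1) (by simp))
    have hg3 : g ^ 3 = 1 := by
      refine mat_inj (Matrix.ext_of_mulVec_single fun i => ?_)
      obtain ⟨x, hx⟩ := fr.P_surj (Pi.single i 1)
      rw [← hx, mat_one, one_mulVec, pow_succ, pow_succ, pow_one, mat_mul, mat_mul, ← mulVec_mulVec,
        ← mulVec_mulVec, hg, fr.torusMat_P, fr.torusMat_P, fr.torusMat_P]
      congr 1
      funext r
      have hw : fr.wt 1 u r ^ 3 = 1 := by
        simp only [Frame.wt]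
        split_ifs
        · simp
        · simp
        · exact hu3 r
      simp only [Pi.mul_apply]
      linear_combination (x r) * hw
    letI := R.derCommGroup hZ
    let B : F →+ F →+ Additive (R.der σ) := AddMonoidHom.mk' (fun a => AddMonoidHom.mk'
      (fun b => Additive.ofMul (⟨R.form hσ (Frame.inj k a) (Frame.inj l b), R.form_mem hσ _ _⟩ : R.der σ))
      fun b b' => congrArg Additive.ofMul (Subtype.ext (by
        show R.form hσ _ _ = R.form hσ _ _ * R.form hσ _ _
        rw [map_add, R.form_add_right hσ hc hZ])))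
      fun a a' => AddMonoidHom.ext fun b => congrArg Additive.ofMul (Subtype.ext (by
        show R.form hσ _ _ = R.form hσ _ _ * R.form hσ _ _
        rw [map_add, R.form_add_left hσ hc hZ]))
    have hμl : u l.1 = 1 := by simp [u, hkl'.symm, Ne.symm hjkl.2]
    have hB : B = 0 := eq_zero_of_invariant (p := 2) B (μ := (ζ : F)) (ν := 1) one_ne_zero (fun a b => by
      refine congrArg Additive.ofMul (Subtype.ext ?_)
      show R.form hσ (Frame.inj k ((ζ : F) * a)) (Frame.inj l (1 * b)) = R.form hσ (Frame.inj k a) (Frame.inj l b)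
      have h := hinv g L hact hg3 (fun z hz hz0 => fr.fix_centre fr.away_full (fr.torus_e hg) (by simp) hz hz0)
        (Frame.inj k a) (Frame.inj l b)
      rw [hL, hL, hμl] at h
      simpa [u] using h) (fun r e => by
        rw [mul_one, pow_unit_eq_one_iff hζo] at e
        exact absurd ((Nat.prime_three.dvd_of_dvd_pow e)) (by decide))
    intro a b
    have h := DFunLike.congr_fun (DFunLike.congr_fun hB a) b
    exact congrArg (fun z : Additive (R.der σ) => ((Additive.toMul z : R.der σ) : E)) h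
  obtain ⟨k0, hk0⟩ := hne
  set k0' : fr.full := ⟨k0, hk0⟩
  set γ := R.form hσ (Frame.inj k0' 1) (Frame.inj k0' (ζ : F))
  have h0 : ∀ v, R.form hσ 0 v = 1 := fun v => by
    have := R.form_add_left hσ hc hZ 0 0 v; rwa [add_zero, left_eq_mul] at this
  have h0' : ∀ v, R.form hσ v 0 = 1 := fun v => by
    have := R.form_add_right hσ hc hZ v 0 0; rwa [add_zero, left_eq_mul] at this
  have htwo : (2 : F) = 0 := CharP.cast_eq_zero F 2
  -- all coordinates give the same value
  have hsame : ∀ k : fr.full, R.form hσ (Frame.inj k 1) (Frame.inj k (ζ : F)) = γ := by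
    intro k
    by_cases hk : k = k0'
    · rw [hk]
    have hk' : k.1 ≠ k0 := fun e => hk (Subtype.ext e)
    obtain ⟨j, hj, hjkl⟩ := Finset.exists_mem_notMem_of_card_lt_card (s := ({k.1, k0} : Finset (Fin n)))
      (t := fr.full) (by rw [Finset.card_pair hk']; omega)
    simp only [Finset.mem_insert, Finset.mem_singleton, not_or] at hjkl
    let π : Equiv.Perm (Fin n) := Equiv.swap k.1 k0 * Equiv.swap k.1 j
    have hπ3 : π.IsThreeCycle := Equiv.Perm.isThreeCycle_swap_mul_swap_same hk' (Ne.symm hjkl.1) (Ne.symm hjkl.2)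
    let g : SU n F 2 := mono U π (fun _ => 1) (fun _ => by simp) (by simp [hπ3.sign])
    have hfix : ∀ i, i ∉ fr.full → π i = i := fun i hi => by
      have h1 : i ≠ k.1 := fun e => hi (e ▸ k.2)
      have h2 : i ≠ k0 := fun e => hi (e ▸ hk0)
      have h3 : i ≠ j := fun e => hi (e ▸ hj)
      simp [π, Equiv.swap_apply_of_ne_of_ne h1 h3, Equiv.swap_apply_of_ne_of_ne h1 h2]
    have hgv : ∀ v i, (mat g *ᵥ v) i = v (π i) := fun v i => by
      rw [show mat g = monoMat π (fun _ => (1 : F)) from rfl, monoMat_mulVec, one_mul]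
    have hge : mat g *ᵥ fr.e = (1 : F) • fr.e := by
      funext i
      rw [hgv, one_smul]
      by_cases hi : i ∈ fr.full
      · have hπi : π i ∈ fr.full := by
          by_contra h
          exact h (by rw [π.injective (hfix _ h)]; exact hi)
        simp only [Frame.full, Finset.mem_compl, Finset.mem_insert, Finset.mem_singleton, not_or] at hi hπi
        rw [fr.e_of_ne hi.1 hi.2, fr.e_of_ne hπi.1 hπi.2]
      · rw [hfix i hi]
    have hgS : ∀ v ∈ Frame.coords F fr.full, mat g *ᵥ v ∈ Frame.coords F fr.full := fun v hv i hi => by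
      rw [hgv, hfix i hi]; exact hv i hi
    have hact := fr.acts fr.away_full ⟨k0, hk0⟩ hge hgS
    have hg3 : g ^ 3 = 1 := by
      refine mat_inj (Matrix.ext_of_mulVec_single fun i => funext fun r => ?_)
      rw [mat_one, one_mulVec, pow_succ, pow_succ, pow_one, mat_mul, mat_mul, ← mulVec_mulVec, ← mulVec_mulVec,
        hgv, hgv, hgv]
      congr 1
      have h3 : π ^ 3 = 1 := hπ3.orderOf ▸ pow_orderOf_eq_one π
      calc π (π (π r)) = (π ^ 3) r := by simp [pow_succ, Equiv.Perm.mul_apply]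
        _ = r := by rw [h3]; rfl
    have hπk : π k.1 = j := by
      simp [π, Equiv.swap_apply_of_ne_of_ne hjkl.1 hjkl.2]
    have hπj : π j = k0 := by simp [π]
    have hπk0 : π k0 = k.1 := by
      simp [π, Equiv.swap_apply_of_ne_of_ne (Ne.symm hk') (Ne.symm hjkl.2)]
    have hL : ∀ a, Frame.lin U g 1 hgS (Frame.inj k a) = Frame.inj k0' a := fun a => Subtype.ext (funext fun i => by
      show (U.σ 1 • (mat g *ᵥ (Frame.inj k a : Frame.coords F fr.full).1)) i = _
      rw [map_one, one_smul, hgv, Frame.inj_val, Frame.inj_val]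
      by_cases hi : i = k0
      · subst hi; rw [hπk0, Pi.single_eq_same, Pi.single_eq_same]
      · have : π i ≠ k.1 := fun e => hi (π.injective (e.trans hπk0.symm))
        rw [Pi.single_eq_of_ne this, Pi.single_eq_of_ne hi])
    have h := hinv g _ hact hg3 (fun z hz hz0 => fr.fix_centre fr.away_full hge (by simp) hz hz0)
      (Frame.inj k 1) (Frame.inj k (ζ : F))
    rw [hL, hL] at h
    exact h.symm
  have hF4 : ∀ a : F, a = 0 ∨ a = 1 ∨ a = (ζ : F) ∨ a = 1 + (ζ : F) := by
    intro a
    by_cases ha : a = 0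
    · exact Or.inl ha
    have h3 : a ^ 3 = 1 := by
      have := FiniteField.pow_card_sub_one_eq_one a ha
      rwa [hF] at this
    obtain ⟨i, rfl⟩ := hζall a (by rw [U.hσ, ← pow_succ', h3])
    have hsum : (ζ : F) ^ 2 = 1 + (ζ : F) := by
      have h : ((ζ : F) - 1) * ((ζ : F) ^ 2 + (ζ : F) + 1) = 0 := by linear_combination hζ3
      have h2 := (mul_eq_zero.1 h).resolve_left (sub_ne_zero.2 hζ1)
      linear_combination h2 - (1 + (ζ : F)) * htwo
    rw [← Nat.div_add_mod i 3, pow_add, pow_mul, hζ3, one_pow, one_mul]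
    have := Nat.mod_lt i (show 0 < 3 by norm_num)
    interval_cases h : i % 3
    · simp
    · simp
    · exact Or.inr (Or.inr (Or.inr hsum))
  -- everything is a power of one element of order two
  have hder : R.der σ ≤ zpowers γ := by
    rw [R.der_eq_closure hσ hc hZ, closure_le]
    rintro _ ⟨⟨v, w⟩, rfl⟩
    refine form_mem_of_singles hσ hc hZ (zpowers γ) (fun k l a b => ?_) v w
    by_cases hkl : k = l
    swap
    · rw [hoff k l hkl]; exact one_mem _
    subst hkl
    have hb : R.form hσ (Frame.inj k 1) (Frame.inj k (ζ : F)) ∈ zpowers γ := by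
      rw [hsame]; exact mem_zpowers γ
    have hb' : R.form hσ (Frame.inj k (ζ : F)) (Frame.inj k 1) ∈ zpowers γ := by
      rw [show R.form hσ (Frame.inj k (ζ : F)) (Frame.inj k 1) = (R.form hσ (Frame.inj k 1) (Frame.inj k (ζ : F)))⁻¹
        from (commutatorElement_inv _ _).symm]
      exact inv_mem hb
    have h11 : ∀ x : F, R.form hσ (Frame.inj k x) (Frame.inj k x) ∈ zpowers γ := fun x => by
      rw [R.form_self hσ hc hZ]; exact one_mem _
    have hl : ∀ x : F, R.form hσ (Frame.inj k x) (Frame.inj k 1) ∈ zpowers γ → R.form hσ (Frame.inj k x)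
        (Frame.inj k (ζ : F)) ∈ zpowers γ → ∀ b, R.form hσ (Frame.inj k x) (Frame.inj k b) ∈ zpowers γ := by
      intro x hx1 hx2 b
      rcases hF4 b with rfl | rfl | rfl | rfl
      · rw [map_zero, h0']; exact one_mem _
      · exact hx1
      · exact hx2
      · rw [map_add, R.form_add_right hσ hc hZ]; exact mul_mem hx1 hx2
    have hb1 := hl 1 (h11 1) hb b
    have hb2 := hl (ζ : F) hb' (h11 _) b
    rcases hF4 a with rfl | rfl | rfl | rfl
    · rw [map_zero, h0]; exact one_mem _
    · exact hb1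
    · exact hb2
    · rw [map_add, R.form_add_left hσ hc hZ]; exact mul_mem hb1 hb2
  have hγ2 : γ ^ 2 = 1 := by
    rw [sq]
    show R.form hσ _ _ * R.form hσ _ _ = 1
    rw [← R.form_add_left hσ hc hZ, ← map_add, show (1 : F) + 1 = 0 by linear_combination htwo, map_zero, h0]
  have hγ : σ γ ≠ 1 := by
    obtain ⟨h1, e1⟩ := R.lft_spec hσ (Frame.inj k0' (1 : F))
    obtain ⟨h2, e2⟩ := R.lft_spec hσ (Frame.inj k0' (ζ : F))
    obtain ⟨v, hv, a, ha, ex⟩ := h1
    obtain ⟨w, hw, b, hb, ey⟩ := h2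
    have ev' : v = Pi.single k0 1 := (fr.pr_TM fr.away_full hv ex).symm.trans (congrArg Subtype.val e1)
    have ew' : w = Pi.single k0 (ζ : F) := (fr.pr_TM fr.away_full hw ey).symm.trans (congrArg Subtype.val e2)
    intro hγ
    have hcm : σ (R.lft hσ (Frame.inj k0' (1 : F))) * σ (R.lft hσ (Frame.inj k0' (ζ : F))) =
        σ (R.lft hσ (Frame.inj k0' (ζ : F))) * σ (R.lft hσ (Frame.inj k0' (1 : F))) := by
      rw [← commutatorElement_eq_one_iff_mul_comm, ← map_commutatorElement]; exact hγ
    have h := congrArg mat hcm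
    rw [mat_mul, mat_mul, ex, ey, fr.TM_mul fr.away_full hv hw, fr.TM_mul fr.away_full hw hv] at h
    have h' : hf 2 (fr.TM (v + w) (a + b - hf 2 w v) *ᵥ fr.f) fr.f =
        hf 2 (fr.TM (w + v) (b + a - hf 2 v w) *ᵥ fr.f) fr.f := congrArg (fun M => hf 2 (M *ᵥ fr.f) fr.f) h
    rw [fr.TM_f fr.away_full (add_mem hv hw), fr.TM_f fr.away_full (add_mem hw hv)] at h'
    simp only [U.add_l, U.smul_l,
      fr.hf_ff, fr.hf_ef, fr.perp_f fr.away_full hv, fr.perp_f fr.away_full hw, zero_add, mul_one, ev', ew',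
      Frame.hf_single_l U, Frame.hf_single_r U, Pi.single_eq_same] at h'
    have e3 : (ζ : F) = U.σ (ζ : F) := by
      try simp only [map_one] at h'
      linear_combination -h'
    have e4 : (ζ : F) ^ 3 = (ζ : F) * ((ζ : F) * U.σ (ζ : F)) := by rw [← e3]; ring
    rw [hζ3, hζn, mul_one] at e4
    exact hζ1 e4.symm
  obtain ⟨i, rfl⟩ := hder hy
  rw [map_zpow] at hy0
  have ho : orderOf (σ γ) = 2 := orderOf_eq_prime (by rw [← map_pow, hγ2, map_one]) hγ
  obtain ⟨c, hc'⟩ := orderOf_dvd_iff_zpow_eq_one.2 hy0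
  show γ ^ i = 1
  rw [hc', ho, _root_.zpow_mul, zpow_natCast, hγ2, _root_.one_zpow]

end CfsgLib.Known.SULift
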