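import Cfsg.Agent.Lib.Known.SULift.RadFree
import Cfsg.Agent.Lib.Known.SLLift.Multiplier
import Cfsg.Agent.Lib.Classical.HermOrder

/-!
# The multipliers of the projective special unitary groups
-/

set_option autoImplicit false
set_option linter.unusedSectionVars false

namespace CfsgLib.Known.SULift

open Matrix Cfsg CfsgLib.Chev.CT.Phan Subgroup
open scoped commutatorElement

universe u

variable {F : Type u} [Field F] [Fintype F] {q n : ℕ}

/-- The kernel of a finite central extension meets the derived group trivially. -/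
theorem ker_commutator_eq_one (hF : Fintype.card F = q ^ 2) (hg : Good q n) {E : Type u} [Group E] [Finite E]
    {σ : E →* SU n F q} (hσ : Function.Surjective σ) (hc : σ.ker ≤ center E) {z : E} (hz : σ z = 1)
    (hz' : z ∈ commutator E) : z = 1 := by
  classical
  obtain ⟨p, hpc⟩ := CharP.exists F
  haveI := hpc
  by_contra hne
  obtain ⟨ℓ, hℓ, hdvd⟩ := Nat.exists_prime_and_dvd (n := orderOf z) (by simpa using hne)
  haveI := Fact.mk hℓ
  have cz : ∀ {k : E}, σ k = 1 → ∀ g, g * k = k * g := fun hk g => mem_center_iff.1 (hc hk) g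
  let N : Subgroup E :=
    { carrier := {k | σ k = 1 ∧ ∃ m, ¬ ℓ ∣ m ∧ k ^ m = 1}
      one_mem' := ⟨map_one σ, 1, hℓ.not_dvd_one, one_pow _⟩
      mul_mem' := fun {a b} ⟨ha, m, hm, ham⟩ ⟨hb, m', hm', hbm⟩ => ⟨by rw [map_mul, ha, hb, one_mul], m * m',
        fun h => (hℓ.dvd_mul.1 h).elim hm hm', by
          rw [Commute.mul_pow (cz hb a), pow_mul, ham, one_pow, one_mul, mul_comm m, pow_mul, hbm, one_pow]⟩
      inv_mem' := fun {a} ⟨ha, m, hm, ham⟩ => ⟨by rw [map_inv, ha, inv_one], m, hm, by rw [inv_pow, ham, inv_one]⟩ }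
  haveI : N.Normal := ⟨fun k hk g => by rwa [cz hk.1 g, mul_inv_cancel_right]⟩
  let τ : E ⧸ N →* SU n F q := QuotientGroup.lift N σ fun k hk => hk.1
  have hτ : Function.Surjective τ := fun s => by obtain ⟨x, rfl⟩ := hσ s; exact ⟨QuotientGroup.mk x, rfl⟩
  have hτc : τ.ker ≤ center (E ⧸ N) := fun x hx => by
    obtain ⟨x, rfl⟩ := QuotientGroup.mk_surjective x
    refine mem_center_iff.2 fun g => ?_
    obtain ⟨g, rfl⟩ := QuotientGroup.mk_surjective g
    exact congrArg QuotientGroup.mk (cz (show σ x = 1 from hx) g)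
  have hτk : IsPGroup ℓ τ.ker := by
    rintro ⟨x, hx⟩
    obtain ⟨x, rfl⟩ := QuotientGroup.mk_surjective x
    refine ⟨(orderOf x).factorization ℓ, Subtype.ext ?_⟩
    show (QuotientGroup.mk x : E ⧸ N) ^ _ = 1
    rw [← QuotientGroup.mk_pow, QuotientGroup.eq_one_iff]
    have hx' : σ x = 1 := hx
    refine ⟨by rw [map_pow, hx', one_pow], orderOf x / ℓ ^ (orderOf x).factorization ℓ,
      Nat.not_dvd_ordCompl hℓ (orderOf_pos x).ne', ?_⟩
    rw [← pow_mul, Nat.mul_div_cancel' (Nat.ordProj_dvd _ ℓ), pow_orderOf_eq_one]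
  have huniv : Univ.{u, u} ℓ (SU n F q) := by
    by_cases h : ℓ = p
    · subst h; exact univ_char hF n hg
    · exact univ_prime hF hℓ h n
  have hmem : (QuotientGroup.mk z : E ⧸ N) ∈ ⁅(⊤ : Subgroup (SU n F q)).comap τ, (⊤ : Subgroup (SU n F q)).comap τ⁆ := by
    rw [comap_top]
    have h : (QuotientGroup.mk' N) z ∈ (commutator E).map (QuotientGroup.mk' N) := mem_map_of_mem _ hz'
    rw [_root_.commutator_def, map_commutator, map_top_of_surjective _ (QuotientGroup.mk'_surjective N)] at h
    exact h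
  obtain ⟨-, m, hm, hzm⟩ := (QuotientGroup.eq_one_iff z).1 (huniv (E ⧸ N) τ hτ hτc hτk _
    (show σ z = 1 from hz) hmem)
  exact hm (hdvd.trans (orderOf_dvd_of_pow_eq_one hzm))

/-- Finite central extensions split. -/
theorem central_splits (hF : Fintype.card F = q ^ 2) (hg : Good q n) (hperf : commutator (SU n F q) = ⊤)
    (E : Type u) [Group E] [Finite E] (σ : E →* SU n F q) (hσ : Function.Surjective σ)
    (hc : σ.ker ≤ center E) : ∃ s : SU n F q →* E, σ.comp s = MonoidHom.id (SU n F q) := by
  let D := commutator E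
  have hbij : Function.Bijective (σ.comp D.subtype) := by
    refine ⟨(injective_iff_map_eq_one _).2 fun x hx => Subtype.ext (ker_commutator_eq_one hF hg hσ hc hx x.2),
      fun s => ?_⟩
    have hs : s ∈ D.map σ := by
      show s ∈ (commutator E).map σ
      rw [_root_.commutator_def, map_commutator, map_top_of_surjective _ hσ, ← _root_.commutator_def, hperf]
      exact mem_top s
    obtain ⟨x, hx, rfl⟩ := hs
    exact ⟨⟨x, hx⟩, rfl⟩
  exact ⟨D.subtype.comp (MulEquiv.ofBijective _ hbij).symm.toMonoidHom,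
    MonoidHom.ext fun g => (MulEquiv.ofBijective _ hbij).apply_symm_apply g⟩

theorem isCyclic_center_su (hF : Fintype.card F = q ^ 2) (hn : 2 ≤ n) : IsCyclic (center (SU n F q)) := by
  classical
  have hsc : ∀ z : center (SU n F q), mat z.1 = scalar (Fin n) (mat z.1 ⟨0, by omega⟩ ⟨0, by omega⟩) := fun z =>
    CfsgLib.Classical.eq_scalar_of_commute hF hn _ fun s =>
      congrArg (fun x : SU n F q => mat x) (mem_center_iff.1 z.2 s)
  let i : Fin n := ⟨0, by omega⟩
  let φ : center (SU n F q) →* F :=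
    { toFun := fun z => mat z.1 i i
      map_one' := one_apply_eq i
      map_mul' := fun a b => by
        show mat (a.1 * b.1) i i = mat a.1 i i * mat b.1 i i
        conv_lhs => rw [mat_mul, hsc a, hsc b]
        simp [scalar_apply, diagonal_mul_diagonal, i] }
  exact isCyclic_of_injective φ.toHomUnits fun a b h => Subtype.ext (mat_inj (by
    rw [hsc a, hsc b]
    exact congrArg _ (congrArg Units.val h)))

/-- The multiplier of `PSU_n(q)`. -/
theorem psu_multiplier (hF : Fintype.card F = q ^ 2) (hn : 3 ≤ n) (h3 : ¬(n = 3 ∧ q = 2))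
    (hexc : (n, q) ∉ ({(4, 2), (4, 3), (6, 2)} : Set (ℕ × ℕ))) :
    Cfsg.HasCyclicSchurMultiplier (Cfsg.PSU n F q) (Nat.gcd n (q + 1)) := by
  classical
  have hperf := su_perfect hF hn h3
  have hg : Good q n := ⟨hn, hexc⟩
  haveI := isCyclic_center_su (n := n) hF (by omega)
  rw [← CfsgLib.Classical.card_center_su hF (show 2 ≤ n by omega)]
  set S := SU n F q
  refine ⟨⟨S, inferInstance, inferInstance, QuotientGroup.mk' _, ⟨QuotientGroup.mk'_surjective _, ?_, ?_⟩, ?_⟩,
    fun E _ _ σ hσ => ?_⟩
  · rw [QuotientGroup.ker_mk']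
  · rw [hperf]; exact le_top
  · exact ⟨(MulEquiv.subgroupCongr (QuotientGroup.ker_mk' _)).trans
      (zmodMulEquivOfGenerator (Classical.choose_spec (IsCyclic.exists_generator (α := center S))) rfl).symm⟩
  · -- pull back to `SU`
    let P : Subgroup (S × E) :=
      { carrier := {x | QuotientGroup.mk' (center S) x.1 = σ x.2}
        one_mem' := by simp
        mul_mem' := fun {a b} ha hb => by
          simp only [Set.mem_setOf_eq, Prod.fst_mul, Prod.snd_mul, map_mul] at *
          rw [ha, hb]
        inv_mem' := fun {a} ha => by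
          simp only [Set.mem_setOf_eq, Prod.fst_inv, Prod.snd_inv, map_inv] at *
          rw [ha] }
    let π : P →* S := (MonoidHom.fst _ _).comp P.subtype
    have hπ : Function.Surjective π := fun g => by
      obtain ⟨a, ha⟩ := hσ.1 (QuotientGroup.mk' (center S) g)
      exact ⟨⟨(g, a), ha.symm⟩, rfl⟩
    have hπc : π.ker ≤ center P := fun x hx => by
      have h1 : x.1.1 = 1 := hx
      have h2 : σ x.1.2 = 1 := by
        rw [← (x.2 : QuotientGroup.mk' (center S) x.1.1 = σ x.1.2), h1, map_one]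
      refine mem_center_iff.2 fun r => Subtype.ext (Prod.ext ?_ ?_)
      · show r.1.1 * x.1.1 = x.1.1 * r.1.1
        rw [h1, mul_one, one_mul]
      · exact mem_center_iff.1 (hσ.2.1 h2) r.1.2
    obtain ⟨s0, hs0⟩ := central_splits hF hg hperf P π hπ hπc
    let s : S →* E := ((MonoidHom.snd _ _).comp P.subtype).comp s0
    have hs : σ.comp s = QuotientGroup.mk' (center S) := MonoidHom.ext fun g => by
      have h1 : (s0 g).1.1 = g := DFunLike.congr_fun hs0 g
      have h2 : QuotientGroup.mk' (center S) (s0 g).1.1 = σ (s0 g).1.2 := (s0 g).2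
      show σ (s0 g).1.2 = _
      rw [← h2, h1]
    have hmem : ∀ z : center S, s z ∈ σ.ker := fun z => by
      rw [MonoidHom.mem_ker, ← MonoidHom.comp_apply, hs, ← MonoidHom.mem_ker, QuotientGroup.ker_mk']
      exact z.2
    let f : center S →* σ.ker := (s.comp (center S).subtype).codRestrict σ.ker hmem
    have hf : Function.Surjective f := fun y => by
      obtain ⟨x, hx, hxy⟩ := CfsgLib.Known.SLLift.ker_le_map hσ (QuotientGroup.mk'_surjective _) hs y.2
      rw [QuotientGroup.ker_mk'] at hx
      exact ⟨⟨x, hx⟩, Subtype.ext hxy⟩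
    let g := zmodMulEquivOfGenerator (Classical.choose_spec (IsCyclic.exists_generator (α := center S))) rfl
    exact ⟨f.comp g.toMonoidHom, hf.comp g.surjective⟩

end CfsgLib.Known.SULift
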